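import Groth.Agent.H21Split.TypeR.Cell
import Groth.Agent.H21Rank1.Generate
import Groth.Agent.H19Grp.ConnFibre
import Mathlib.AlgebraicGeometry.Sites.Fpqc

/-!
A type (R) subgroup is generated by its cell.
-/

open CategoryTheory MonoidalCategory CartesianMonoidalCategory MonObj GrpObj AlgebraicGeometry
open CategoryTheory.Limits

universe u

set_option backward.isDefEq.respectTransparency false
set_option linter.style.haveILetI false
set_option linter.unusedSectionVars false
set_option synthInstance.maxHeartbeats 400000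
set_option maxHeartbeats 1000000

noncomputable section

namespace Groth.Agent.H21Split.TypeR

variable {S : Scheme.{u}}

/-- a smooth group with connected fibres has geometrically irreducible fibres -/
theorem geometricallyIrreducible_of_connected {G : Over S} [GrpObj G] [LocallyOfFiniteType G.hom]
    (hG : RedSub.HasConnectedFibres G) : GeometricallyIrreducible G.hom := by
  rw [GeometricallyIrreducible.iff_geometricallyIrreducible_fiber]
  intro s
  let Gs : Over (Spec (CommRingCat.of (S.residueField s))) := (Over.pullback (S.fromSpecResidueField s)).obj G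
  letI : GrpObj Gs := Functor.grpObjObj
  haveI : LocallyOfFiniteType Gs.hom :=
    inferInstanceAs (LocallyOfFiniteType (pullback.snd G.hom (S.fromSpecResidueField s)))
  haveI : ConnectedSpace ↥Gs.left := by
    change ConnectedSpace ↥(G.hom.fiber s)
    haveI := isConnected_iff_connectedSpace.mp (hG s)
    exact (G.hom.fiberHomeo s).symm.surjective.connectedSpace (G.hom.fiberHomeo s).symm.continuous
  exact H19Grp.geometricallyIrreducible_of_connectedSpace_group Gs

/-- lifts through a monomorphism descend along effective epimorphisms -/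
theorem exists_lift_epi {X Y G H : Over S} (q : Y ⟶ X) [EffectiveEpi q.left] (h : H ⟶ G) [Mono h] (z : X ⟶ G)
    (w : Y ⟶ H) (e : w ≫ h = q ≫ z) : ∃ v, v ≫ h = z := by
  have hcond : ∀ {Z : Scheme.{u}} (g₁ g₂ : Z ⟶ Y.left), g₁ ≫ q.left = g₂ ≫ q.left →
      g₁ ≫ w.left = g₂ ≫ w.left := by
    intro Z g₁ g₂ hg
    have hb : g₂ ≫ Y.hom = g₁ ≫ Y.hom := by
      rw [← Over.w q, ← Category.assoc, ← hg, Category.assoc]
    let a : Over.mk (g₁ ≫ Y.hom) ⟶ Y := Over.homMk g₁ rfl
    let b : Over.mk (g₁ ≫ Y.hom) ⟶ Y := Over.homMk g₂ hb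
    have hab : a ≫ q = b ≫ q := Over.OverMorphism.ext hg
    exact congrArg (·.left) ((cancel_mono h).mp (show (a ≫ w) ≫ h = (b ≫ w) ≫ h by
      rw [Category.assoc, Category.assoc, e, ← Category.assoc, hab, Category.assoc]))
  let d := EffectiveEpi.desc q.left w.left hcond
  have hd : q.left ≫ d = w.left := EffectiveEpi.fac q.left w.left hcond
  refine ⟨Over.homMk d ?_, Over.OverMorphism.ext ?_⟩
  · rw [← cancel_epi q.left, ← Category.assoc, hd, Over.w, Over.w]
  · rw [← cancel_epi q.left, Over.comp_left]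
    change q.left ≫ d ≫ h.left = _
    rw [← Category.assoc, hd, ← Over.comp_left, e, Over.comp_left]

/-- Every point of a group scheme with geometrically irreducible fibres is, after a flat surjective
base change, a product of two points of an open neighbourhood of the unit. -/
theorem exists_split_fppf {G : Over S} [GrpObj G] [GeometricallyIrreducible G.hom] [Flat G.hom] [UniversallyOpen G.hom]
    [LocallyOfFinitePresentation G.hom] (U : G.left.Opens) (hU : ∀ s : S, η[G].left s ∈ U) {Y : Over S} (g : Y ⟶ G) :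
    ∃ (Y' : Over S) (p : Y' ⟶ Y) (a b : Y' ⟶ G), Flat p.left ∧ Surjective p.left ∧ LocallyOfFinitePresentation p.left ∧
      Set.range a.left ⊆ U ∧ Set.range b.left ⊆ U ∧ p ≫ g = a * b := by
  have hτ := H21Rank1.translate_self g
  let τ : Y ⊗ G ⟶ G := (fst Y G ≫ g) * (snd Y G)⁻¹
  let W : (Y ⊗ G).left.Opens := τ.left ⁻¹ᵁ U ⊓ (snd Y G).left ⁻¹ᵁ U
  let Y' : Over S := Over.mk (W.ι ≫ (Y ⊗ G).hom)
  let j : Y' ⟶ Y ⊗ G := Over.homMk W.ι rfl
  refine ⟨Y', j ≫ fst Y G, j ≫ τ, j ≫ snd Y G, ?_, ⟨fun y => ?_⟩, ?_, ?_, ?_, (H21Rank1.translate_split j g).symm⟩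
  · change Flat (W.ι ≫ pullback.fst Y.hom G.hom)
    infer_instance
  · have hirr : IsIrreducible ((pullback.fst Y.hom G.hom) ⁻¹' {y}) :=
      (pullback.fst Y.hom G.hom).isIrreducible_preimage (pullback.fst Y.hom G.hom).isOpenMap isIrreducible_singleton
    have h1 : (((pullback.fst Y.hom G.hom) ⁻¹' {y}) ∩ ((snd Y G).left ⁻¹ᵁ U : Set (Y ⊗ G).left)).Nonempty := by
      refine ⟨(lift (𝟙 Y) (1 : Y ⟶ G)).left y, ?_, ?_⟩
      · change ((lift (𝟙 Y) (1 : Y ⟶ G)) ≫ fst Y G).left y = y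
        rw [lift_fst]; rfl
      · change ((lift (𝟙 Y) (1 : Y ⟶ G)) ≫ snd Y G).left y ∈ U
        rw [lift_snd, H21Rank1.one_left_apply]
        exact hU _
    have h2 : (((pullback.fst Y.hom G.hom) ⁻¹' {y}) ∩ (τ.left ⁻¹ᵁ U : Set (Y ⊗ G).left)).Nonempty := by
      refine ⟨(lift (𝟙 Y) g).left y, ?_, ?_⟩
      · change ((lift (𝟙 Y) g) ≫ fst Y G).left y = y
        rw [lift_fst]; rfl
      · change ((lift (𝟙 Y) g) ≫ τ).left y ∈ U
        rw [hτ, H21Rank1.one_left_apply]
        exact hU _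
    obtain ⟨q, hq, hqa, hqb⟩ := hirr.2 _ _ (τ.left ⁻¹ᵁ U).isOpen ((snd Y G).left ⁻¹ᵁ U).isOpen h2 h1
    exact ⟨⟨q, hqa, hqb⟩, hq⟩
  · change LocallyOfFinitePresentation (W.ι ≫ pullback.fst Y.hom G.hom)
    infer_instance
  · rintro _ ⟨q, rfl⟩; exact q.2.1
  · rintro _ ⟨q, rfl⟩; exact q.2.2

/-- a subgroup containing an open piece around the unit contains the group -/
theorem exists_le_of_open {G H H' Z : Over S} [GrpObj G] [GrpObj H] [GrpObj H'] [Smooth H.hom]
    (hH : RedSub.HasConnectedFibres H) (h : H ⟶ G) [IsMonHom h] (h' : H' ⟶ G) [IsMonHom h'] [Mono h'] (c : Z ⟶ H)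
    [IsOpenImmersion c.left] (hc : ∀ s : S, η[H].left s ∈ Set.range c.left.base) (w : Z ⟶ H') (hw : w ≫ h' = c ≫ h) :
    ∃ f : H ⟶ H', f ≫ h' = h := by
  haveI := geometricallyIrreducible_of_connected hH
  obtain ⟨Y', p, a, b, hp1, hp2, hp3, ha, hb, hab⟩ := exists_split_fppf c.left.opensRange hc (𝟙 H)
  haveI := hp1
  haveI := hp2
  haveI := hp3
  obtain ⟨za, hza⟩ := H21Rank1.exists_lift_of_range_subset c a ha
  obtain ⟨zb, hzb⟩ := H21Rank1.exists_lift_of_range_subset c b hb
  refine exists_lift_epi p h' h ((za ≫ w) * (zb ≫ w)) ?_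
  rw [MonObj.mul_comp, Category.assoc, Category.assoc, hw, ← Category.assoc, hza, ← Category.assoc, hzb,
    ← MonObj.mul_comp, ← hab, Category.comp_id]

variable {G H H' : Over S} [GrpObj G] [GrpObj H] [GrpObj H'] (D : Red.SplitRed G) {h : H ⟶ G} {h' : H' ⟶ G}
  [Smooth H.hom] [IsMonHom h] [IsImmersion h.left] [ConnectedSpace S] [IsMonHom h'] [Mono h']
  (t : D.T ⟶ H) (ht : t ≫ h = D.i) (R' : Set D.idx)
  (hR' : ∀ a : D.idx, (∃ v : Red.Ga S ⟶ H, v ≫ h = D.u a) ↔ a ∈ R') (b : D.P.Base)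

include ht hR' b in
/-- **A subgroup is contained in another as soon as its torus and root groups are.** -/
theorem exists_le (hH : RedSub.HasConnectedFibres H) (t' : D.T ⟶ H') (ht' : t' ≫ h' = D.i)
    (hsub : ∀ a ∈ R', ∃ v : Red.Ga S ⟶ H', v ≫ h' = D.u a) : ∃ f : H ⟶ H', f ≫ h' = h := by
  haveI : Finite D.idx := Finite.of_fintype _
  obtain ⟨n, en, hen⟩ : ∃ (n : ℕ) (e : Fin n → D.idx), RedSub.Enumerates (R' ∩ RedSub.negRoots D.P b) e := by
    obtain ⟨r, e', he'⟩ := exists_extend D (Ψ := R' ∩ RedSub.negRoots D.P b) (n := 0) Fin.elim0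
      (fun k => k.elim0) (fun k => k.elim0)
    exact ⟨_, _, he'⟩
  obtain ⟨m, ep, hep⟩ : ∃ (n : ℕ) (e : Fin n → D.idx), RedSub.Enumerates (R' ∩ RedSub.posRoots D.P b) e := by
    obtain ⟨r, e', he'⟩ := exists_extend D (Ψ := R' ∩ RedSub.posRoots D.P b) (n := 0) Fin.elim0
      (fun k => k.elim0) (fun k => k.elim0)
    exact ⟨_, _, he'⟩
  obtain ⟨f, hf, hfo⟩ := exists_cell_openImmersion D t ht R' hR' b en ep hen hep
  haveI := hfo
  obtain ⟨fn', hfn⟩ := exists_prodMap_lift (h := h') n (fun k => D.u (en k))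
    fun k => hsub _ (hen.2.subset ⟨k, rfl⟩).1
  obtain ⟨fp', hfp⟩ := exists_prodMap_lift (h := h') m (fun k => D.u (ep k))
    fun k => hsub _ (hep.2.subset ⟨k, rfl⟩).1
  have h1 : ∀ s : S, η[H].left s ∈ Set.range f.left.base := fun s => by
    haveI : Mono h := (Over.forget S).mono_of_mono_map (inferInstanceAs (Mono h.left))
    have e : (lift (tuple n fun _ => 1) (lift 1 (tuple m fun _ => 1)) :
        𝟙_ (Over S) ⟶ RedSub.pow (Red.Ga S) n ⊗ (D.T ⊗ RedSub.pow (Red.Ga S) m)) ≫ f = η[H] := by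
      rw [← cancel_mono h, Category.assoc, hf, RedSub.cellMap, MonObj.comp_mul, MonObj.comp_mul, lift_fst_assoc,
        lift_snd_assoc, lift_fst_assoc, lift_snd_assoc, lift_snd_assoc, comp_prodMap, comp_prodMap, MonObj.one_comp]
      simp only [Category.assoc, tuple_pr, MonObj.one_comp, List.ofFn_const, List.prod_replicate, one_pow,
        _root_.mul_one, _root_.one_mul]
      exact (congrArg (· ≫ h) Hom.one_def).symm.trans ((MonObj.one_comp h)) |>.trans rfl |>.symm
    exact ⟨_, congrArg (fun q : 𝟙_ (Over S) ⟶ H => q.left.base s) e⟩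
  refine exists_le_of_open hH h h' f h1
    ((fst _ _ ≫ fn') * ((snd _ _ ≫ fst _ _ ≫ t') * (snd _ _ ≫ snd _ _ ≫ fp'))) ?_
  rw [hf]
  simp only [MonObj.mul_comp, Category.assoc, hfn, hfp, ht']
  rfl

end Groth.Agent.H21Split.TypeR
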