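import Groth.Agent.H21Split.TypeR.Cell
import Groth.Agent.H21Split.TypeR.Generate
import Groth.Agent.H21Split.Bru.Fibre
import Groth.Agent.H21Split.Bru.Borel
import Groth.Agent.H21Split.R3.Cell
import Groth.Agent.H21Split.Red0.BaseExists
import Groth.Agent.S1618

/-!
The dimension of a cell and of a group with an open cell.
-/

open CategoryTheory MonoidalCategory CartesianMonoidalCategory MonObj GrpObj AlgebraicGeometry
open CategoryTheory.Limits

universe u

set_option autoImplicit false
set_option backward.isDefEq.respectTransparency false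
set_option linter.style.haveILetI false
set_option linter.unusedSectionVars false
set_option synthInstance.maxHeartbeats 400000
set_option maxHeartbeats 1000000

noncomputable section

namespace Groth.Agent.H21Split.TypeR

variable {S : Scheme.{u}} {G : Over S} [GrpObj G] (D : Red.SplitRed G)

theorem isAffineHom_borelDom (k : ℕ) : IsAffineHom (D.T ⊗ RedSub.pow (Red.Ga S) k).hom :=
  R3.isAffineHom_tensor' (R3.isAffineHom_T D) (R3.isAffineHom_pow R3.isAffineHom_Ga k)

variable {K : Type u} [Field K] (g : Spec (CommRingCat.of K) ⟶ S)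

/-- the coordinate ring of the torus times a power of the additive group -/
theorem nonempty_crdEquiv (k : ℕ) :
    Nonempty (Crd g (D.T ⊗ RedSub.pow (Red.Ga S) k) ≃ₐ[K] MvPolynomial (Fin k) (MonoidAlgebra K (Multiplicative D.M))) := by
  haveI := isAffineHom_borelDom D k
  let X := D.T ⊗ RedSub.pow (Red.Ga S) k
  let U := MvPolynomial (Fin k) (MonoidAlgebra K (Multiplicative D.M))
  let χ0 : Multiplicative D.M →* U := MvPolynomial.C.toMonoidHom.comp (MonoidAlgebra.of K (Multiplicative D.M))
  let u0 : pt g U ⟶ X := lift (ds g χ0 ≫ D.split.inv.hom.hom) (gas g fun i => MvPolynomial.X i)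
  obtain ⟨φu, hφu⟩ := fn_surjective (B := Crd g X) g (G := X) (AlgHom.id K _)
  obtain ⟨χ, hχ⟩ := ds_surjective g ((φu ≫ fst _ _) ≫ D.split.hom.hom.hom)
  let ψ : U →ₐ[K] Crd g X :=
    { MvPolynomial.eval₂Hom (MonoidAlgebra.lift K (Crd g X) (Multiplicative D.M) χ).toRingHom
        (gvs g (φu ≫ snd _ _)) with
      commutes' := fun r => by
        change MvPolynomial.eval₂Hom _ _ (algebraMap K U r) = _
        rw [IsScalarTower.algebraMap_apply K (MonoidAlgebra K (Multiplicative D.M)) U]
        change MvPolynomial.eval₂Hom _ _ (MvPolynomial.C (algebraMap K _ r)) = _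
        rw [MvPolynomial.eval₂Hom_C]
        exact AlgHom.commutes _ r }
  have hψC : ∀ x, ψ (MvPolynomial.C x) = MonoidAlgebra.lift K (Crd g X) (Multiplicative D.M) χ x :=
    fun x => MvPolynomial.eval₂Hom_C _ _ x
  have hψX : ∀ i, ψ (MvPolynomial.X i) = gvs g (φu ≫ snd _ _) i := fun i => MvPolynomial.eval₂Hom_X' _ _ i
  have hψo : ψ.toRingHom.toMonoidHom.comp χ0 = χ :=
    MonoidHom.ext fun x => (hψC _).trans (MonoidAlgebra.lift_of _ _)
  have e : pmap g ψ ≫ u0 = φu := by
    refine CartesianMonoidalCategory.hom_ext _ _ ?_ ?_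
    · simp only [u0, Category.assoc, lift_fst]
      rw [← Category.assoc, pmap_ds, hψo, hχ, Category.assoc, split_hom_inv, Category.comp_id]
    · simp only [u0, Category.assoc, lift_snd]
      rw [pmap_gas, funext hψX, gas_gvs]
  let F := fn g u0
  have h1 : ψ.comp F = AlgHom.id K _ := by rw [← fn_pmap, e, hφu]
  have e' : pmap g F ≫ φu = u0 := fn_injective g (by rw [fn_pmap, hφu, AlgHom.comp_id])
  have h2 : F.comp ψ = AlgHom.id K U := by
    have hfst := congrArg (fun m => (m ≫ fst _ _) ≫ D.split.hom.hom.hom) e'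
    simp only [u0, Category.assoc, lift_fst_assoc, split_inv_hom, Category.comp_id] at hfst
    rw [← Category.assoc φu, ← hχ, pmap_ds] at hfst
    have hC : F.toRingHom.toMonoidHom.comp χ = χ0 := ds_injective g hfst
    have hsnd := congrArg (fun m => gvs g (m ≫ snd _ _)) e'
    simp only [u0, Category.assoc, lift_snd, gvs_gas] at hsnd
    rw [← gas_gvs g (φu ≫ snd _ _), pmap_gas, gvs_gas] at hsnd
    have e1 : (F.comp ψ).comp (IsScalarTower.toAlgHom K (MonoidAlgebra K (Multiplicative D.M)) U) =
        (IsScalarTower.toAlgHom K (MonoidAlgebra K (Multiplicative D.M)) U) := by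
      refine (MonoidAlgebra.lift K U (Multiplicative D.M)).symm.injective (MonoidHom.ext fun m => ?_)
      change F (ψ (MvPolynomial.C (MonoidAlgebra.of K (Multiplicative D.M) m))) =
        MvPolynomial.C (MonoidAlgebra.of K (Multiplicative D.M) m)
      rw [hψC, MonoidAlgebra.lift_of]
      exact DFunLike.congr_fun hC m
    refine AlgHom.coe_ringHom_injective (MvPolynomial.ringHom_ext (fun x => DFunLike.congr_fun e1 x) fun i => ?_)
    change F (ψ (MvPolynomial.X i)) = MvPolynomial.X i
    rw [hψX]
    exact congrFun hsnd i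
  exact ⟨AlgEquiv.ofAlgHom F ψ h2 h1⟩

/-- the dimension of the torus times a power of the additive group -/
theorem dim_borelDom (k : ℕ) :
    topologicalKrullDim ↥(Red.bc g (D.T ⊗ RedSub.pow (Red.Ga S) k)).left =
      ringKrullDim (MonoidAlgebra K (Multiplicative D.M)) + (k : WithBot ℕ∞) := by
  haveI := isAffineHom_borelDom D k
  haveI : Monoid.FG (Multiplicative D.M) := by
    haveI : AddGroup.FG D.M := Module.Finite.iff_addGroup_fg.mp D.finiteM
    exact AddMonoid.fg_iff_mul_fg.mp (AddGroup.fg_iff_addMonoid_fg.mp inferInstance)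
  haveI : Algebra.FiniteType K (MonoidAlgebra K (Multiplicative D.M)) := inferInstance
  haveI : IsNoetherianRing (MonoidAlgebra K (Multiplicative D.M)) := Algebra.FiniteType.isNoetherianRing K _
  obtain ⟨eU⟩ := nonempty_crdEquiv D g k
  haveI := isAffine_pb g (G := D.T ⊗ RedSub.pow (Red.Ga S) k)
  change topologicalKrullDim ↥(pullback (D.T ⊗ RedSub.pow (Red.Ga S) k).hom g) = _
  rw [(Scheme.homeoOfIso (pullback (D.T ⊗ RedSub.pow (Red.Ga S) k).hom g).isoSpec).isHomeomorph.topologicalKrullDim_eq]
  refine (PrimeSpectrum.topologicalKrullDim_eq_ringKrullDim _).trans ?_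
  change ringKrullDim (Crd g (D.T ⊗ RedSub.pow (Red.Ga S) k)) = _
  rw [ringKrullDim_eq_of_ringEquiv eU.toRingEquiv, MvPolynomial.ringKrullDim_of_isNoetherianRing, Nat.card_fin]

/-- the cell is the torus times a power of the additive group -/
theorem dim_cellDom (n m : ℕ) :
    topologicalKrullDim ↥(Red.bc g (RedSub.pow (Red.Ga S) n ⊗ (D.T ⊗ RedSub.pow (Red.Ga S) m))).left =
      ringKrullDim (MonoidAlgebra K (Multiplicative D.M)) + ((n + m : ℕ) : WithBot ℕ∞) := by
  rw [← dim_borelDom D g (n + m)]
  let C := RedSub.pow (Red.Ga S) n ⊗ (D.T ⊗ RedSub.pow (Red.Ga S) m)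
  let B := D.T ⊗ RedSub.pow (Red.Ga S) (n + m)
  let a : C ⟶ B := lift (snd _ _ ≫ fst _ _)
    (tuple (n + m) (Fin.append (fun i => fst _ _ ≫ pr (Red.Ga S) n i) fun j => snd _ _ ≫ snd _ _ ≫ pr (Red.Ga S) m j))
  let b : B ⟶ C := lift (tuple n fun i => snd _ _ ≫ pr (Red.Ga S) (n + m) (Fin.castAdd m i))
    (lift (fst _ _) (tuple m fun j => snd _ _ ≫ pr (Red.Ga S) (n + m) (Fin.natAdd n j)))
  have hab : a ≫ b = 𝟙 C := by
    refine CartesianMonoidalCategory.hom_ext _ _ (pow_hom_ext n fun i => ?_) (CartesianMonoidalCategory.hom_ext _ _ ?_ (pow_hom_ext m fun i => ?_))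
    · simp only [a, b, Category.assoc, lift_fst_assoc, tuple_pr, lift_snd_assoc, Fin.append_left, Category.id_comp]
    · simp only [a, b, Category.assoc, lift_snd_assoc, lift_fst, Category.id_comp]
    · simp only [a, b, Category.assoc, lift_snd_assoc, tuple_pr, Fin.append_right, Category.id_comp]
  have hba : b ≫ a = 𝟙 B := by
    refine CartesianMonoidalCategory.hom_ext _ _ ?_ (pow_hom_ext (n + m) fun i => ?_)
    · simp only [a, b, Category.assoc, lift_fst, lift_snd_assoc, Category.id_comp]
    · induction i using Fin.addCases with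
      | left i => simp only [a, b, Category.assoc, lift_snd_assoc, tuple_pr, Fin.append_left, lift_fst_assoc, Category.id_comp]
      | right i => simp only [a, b, Category.assoc, lift_snd_assoc, tuple_pr, Fin.append_right, Category.id_comp]
  let e : Red.bc g C ≅ Red.bc g B := (Over.pullback g).mapIso ⟨a, b, hab, hba⟩
  exact (Scheme.homeoOfIso ((Over.forget _).mapIso e)).isHomeomorph.topologicalKrullDim_eq

/-- a group with an open cell has the dimension of the cell -/
theorem dim_of_cell {H : Over S} [GrpObj H] [Smooth H.hom] (hconn : RedSub.HasConnectedFibres H) {n m : ℕ}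
    (c : RedSub.pow (Red.Ga S) n ⊗ (D.T ⊗ RedSub.pow (Red.Ga S) m) ⟶ H) [IsOpenImmersion c.left] :
    topologicalKrullDim ↥(Red.bc g H).left =
      ringKrullDim (MonoidAlgebra K (Multiplicative D.M)) + ((n + m : ℕ) : WithBot ℕ∞) := by
  rw [← dim_cellDom D g n m]
  haveI := geometricallyIrreducible_of_connected hconn
  haveI : GeometricallyIrreducible (Red.bc g H).hom :=
    inferInstanceAs (GeometricallyIrreducible (pullback.snd H.hom g))
  haveI : IrreducibleSpace (Red.bc g H).left :=
    GeometricallyIrreducible.irreducibleSpace_of_subsingleton (Red.bc g H).hom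
  haveI : Smooth (Red.bc g H).hom := MorphismProperty.pullback_snd (P := @Smooth) _ _ inferInstance
  haveI hc : IsOpenImmersion ((Over.pullback g).map c).left :=
    MorphismProperty.overPullbackMap (P := @IsOpenImmersion) _ _ inferInstance
  letI : (Red.bc g H).left.Over (Spec (CommRingCat.of K)) := ⟨(Red.bc g H).hom⟩
  haveI : LocallyOfFiniteType ((Red.bc g H).left ↘ Spec (CommRingCat.of K)) :=
    inferInstanceAs (LocallyOfFiniteType (Red.bc g H).hom)
  haveI := connected_fib_cell D g m
  have hne : ((((Over.pullback g).map c).left.opensRange : (Red.bc g H).left.Opens) : Set (Red.bc g H).left).Nonempty := by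
    obtain ⟨o⟩ : Nonempty (Red.bc g (RedSub.pow (Red.Ga S) n ⊗ (D.T ⊗ RedSub.pow (Red.Ga S) m))).left := by
      let o : 𝟙_ (Over S) ⟶ RedSub.pow (Red.Ga S) n ⊗ (D.T ⊗ RedSub.pow (Red.Ga S) m) :=
        lift (tuple n fun _ => (1 : 𝟙_ (Over S) ⟶ Red.Ga S))
          (lift (1 : 𝟙_ (Over S) ⟶ D.T) (tuple m fun _ => (1 : 𝟙_ (Over S) ⟶ Red.Ga S)))
      obtain ⟨z, -, -⟩ := Scheme.Pullback.exists_preimage_pullback
        (f := (RedSub.pow (Red.Ga S) n ⊗ (D.T ⊗ RedSub.pow (Red.Ga S) m)).hom) (g := g)
        (o.left.base (g.base (IsLocalRing.closedPoint K))) (IsLocalRing.closedPoint K)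
        ((Scheme.Hom.comp_apply _ _ _).symm.trans (congrArg (fun q => q (g.base (IsLocalRing.closedPoint K))) (Over.w o)))
      exact ⟨z⟩
    exact ⟨_, o, rfl⟩
  rw [← Groth.Agent.S1618.result K (Red.bc g H).left _ hne]
  exact (Scheme.homeoOfIso (((Over.pullback g).map c).left.isoOpensRange)).isHomeomorph.topologicalKrullDim_eq.symm

/-- the dimension of the coordinate ring of the torus -/
theorem dim_torusRing [Nonempty S] (s : S) :
    ringKrullDim (MonoidAlgebra (AlgebraicClosure (S.residueField s)) (Multiplicative D.M)) =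
      (Module.finrank ℤ D.M : WithBot ℕ∞) := by
  classical
  haveI : Finite D.idx := Finite.of_fintype _
  haveI := isAffineHom_hom D
  haveI := smooth_hom D
  obtain ⟨b⟩ := H21Red0.nonempty_base D
  obtain ⟨n, en, hn⟩ := exists_enumerates D (RedSub.negRoots D.P b)
  obtain ⟨m, ep, hp⟩ := exists_enumerates D (RedSub.posRoots D.P b)
  obtain ⟨hD, hbij⟩ := isCellData_of_base D b hn hp
  haveI := isOpenImmersion_cellMap D en ep hD hbij
  have hconn : RedSub.HasConnectedFibres G := fun s' => by
    obtain ⟨-, -, hc, -⟩ := D.reductive.2.2 s'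
    haveI := hc
    let α := Spec.map (CommRingCat.ofHom (algebraMap (S.residueField s') (AlgebraicClosure (S.residueField s'))))
    haveI : Surjective α := ⟨fun x => ⟨IsLocalRing.closedPoint _, Subsingleton.elim (α := PrimeSpectrum (S.residueField s')) _ _⟩⟩
    let ψ : (Red.geomFibre s' G).left ⟶ pullback G.hom (S.fromSpecResidueField s') :=
      (pullbackLeftPullbackSndIso G.hom (S.fromSpecResidueField s') α).inv ≫ pullback.fst _ _
    haveI : Surjective ψ := inferInstance
    haveI : ConnectedSpace ↥(G.hom.fiber s') := ψ.surjective.connectedSpace ψ.continuous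
    exact isConnected_iff_connectedSpace.mpr
      ((G.hom.fiberHomeo s').surjective.connectedSpace (G.hom.fiberHomeo s').continuous)
  have h := dim_of_cell D (Red.geomPt s) hconn (RedSub.cellMap D en ep)
  have hcard : n + m = Fintype.card D.idx := by
    have := Fintype.card_of_bijective hbij
    simpa using this
  rw [hcard] at h
  have h' := h.symm.trans (D.dim_fibre s)
  generalize hX : ringKrullDim (MonoidAlgebra (AlgebraicClosure (S.residueField s)) (Multiplicative D.M)) = X at h'
  induction X using WithBot.recBotCoe with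
  | bot =>
    rw [WithBot.bot_add] at h'
    exact absurd h'.symm (WithBot.natCast_ne_bot _)
  | coe x =>
    induction x using ENat.recTopCoe with
    | top =>
      rw [show ((⊤ : ℕ∞) : WithBot ℕ∞) + ((Fintype.card D.idx : ℕ) : WithBot ℕ∞) =
        (((⊤ : ℕ∞) + (Fintype.card D.idx : ℕ∞) : ℕ∞) : WithBot ℕ∞) from rfl, top_add] at h'
      exact absurd (WithBot.coe_inj.mp h') (ENat.top_ne_natCast _)
    | coe x =>
      have : x + Fintype.card D.idx = Module.finrank ℤ D.M + Fintype.card D.idx := by exact_mod_cast h'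
      exact_mod_cast Nat.add_right_cancel this

end Groth.Agent.H21Split.TypeR
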