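import Groth.Agent.H21Split.TypeR.Borel
import Groth.Agent.H21Split.DualLocal
import Groth.Agent.H21Split.Red0.Kill

/-!
Solvability of a type (R) subgroup.
-/

open CategoryTheory MonoidalCategory CartesianMonoidalCategory MonObj GrpObj AlgebraicGeometry
open CategoryTheory.Limits
open scoped commutatorElement

universe u

set_option backward.isDefEq.respectTransparency false
set_option linter.style.haveILetI false
set_option linter.unusedSectionVars false
set_option synthInstance.maxHeartbeats 400000
set_option maxHeartbeats 1000000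

noncomputable section

namespace Groth.Agent.H21Split.TypeR

variable {S : Scheme.{u}}

theorem derivedSeries_eq_bot_of_injective {A B : Type*} [Group A] [Group B] (ψ : A →* B)
    (hψ : Function.Injective ψ) {n : ℕ} (h : derivedSeries B n = ⊥) : derivedSeries A n = ⊥ := by
  have h1 := map_derivedSeries_le_derivedSeries ψ n
  rw [h, le_bot_iff, Subgroup.map_eq_bot_iff_of_injective _ hψ] at h1
  exact h1

/-- a subgroup of a solvable group is solvable -/
theorem isSolvableGrp_of_mono {A B : Over S} [GrpObj A] [GrpObj B] (f : A ⟶ B) [IsMonHom f] [Mono f]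
    (h : Red.IsSolvableGrp B) : Red.IsSolvableGrp A := by
  obtain ⟨n, hn⟩ := h
  exact ⟨n, fun X => derivedSeries_eq_bot_of_injective
    (MonoidHom.mk' (fun a : X ⟶ A => a ≫ f) fun a b => MonObj.mul_comp a b f)
    (fun a b hab => (cancel_mono f).mp hab) (hn X)⟩

/-- base change keeps solvability -/
theorem isSolvableGrp_bc {T : Scheme.{u}} (g : T ⟶ S) {A : Over S} [GrpObj A] (h : Red.IsSolvableGrp A) :
    Red.IsSolvableGrp (Red.bc g A) := by
  obtain ⟨n, hn⟩ := h
  exact ⟨n, fun X => derivedSeries_eq_bot_of_injective (H21Diag.bcHom g A X) (H21Diag.bcEquiv g A X).symm.injective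
    (hn _)⟩

variable {G H : Over S} [GrpObj G] [GrpObj H] (D : Red.SplitRed G) {h : H ⟶ G}
  [Smooth H.hom] [IsMonHom h] [IsImmersion h.left] [ConnectedSpace S]
  (t : D.T ⟶ H) (ht : t ≫ h = D.i) (R' : Set D.idx)
  (hR' : ∀ a : D.idx, (∃ v : Red.Ga S ⟶ H, v ≫ h = D.u a) ↔ a ∈ R') (b : D.P.Base)

include ht hR' in
/-- a subgroup with positive roots is solvable -/
theorem isSolvableGrp_of_pos (hH : RedSub.HasConnectedFibres H) (hsub : R' ⊆ RedSub.posRoots D.P b) :
    Red.IsSolvableGrp H := by
  haveI := D.fintypeIdx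
  haveI : Finite D.idx := Finite.of_fintype _
  haveI : Mono h := (Over.forget S).mono_of_mono_map (inferInstanceAs (Mono h.left))
  obtain ⟨m, e, he⟩ := exists_enumerates D (RedSub.posRoots D.P b)
  obtain ⟨grp, hmon⟩ := exists_borelGrp D b he
  letI := grp
  haveI := hmon
  haveI hcl := isClosedImmersion_borelMap D b he
  haveI : Mono (RedSub.borelMap D e) := Over.mono_of_mono_left _
  obtain ⟨t', ht'⟩ : ∃ t', t' ≫ RedSub.borelMap D e = D.i :=
    exists_lift_of_pts _ _ fun R _ g j => exists_lift_borel D g b he (Tg_le_Bp D b g (pt_mem_Tg D g j))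
  have hroots : ∀ a ∈ R', ∃ v, v ≫ RedSub.borelMap D e = D.u a := fun a ha =>
    exists_lift_of_pts _ _ fun R _ g j => exists_lift_borel D g b he (by
      rw [← ga_gv g j]
      exact uPt_mem_Bp D b g (hsub ha) _)
  obtain ⟨k, hk⟩ := exists_le D t ht R' hR' b hH t' ht' hroots
  haveI : IsMonHom k := by
    haveI : IsMonHom (k ≫ RedSub.borelMap D e) := by rw [hk]; infer_instance
    exact H21Diag.isMonHom_of_comp_mono k (RedSub.borelMap D e)
  haveI : Mono k := by
    haveI : Mono (k ≫ RedSub.borelMap D e) := by rw [hk]; infer_instance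
    exact mono_of_mono k (RedSub.borelMap D e)
  exact isSolvableGrp_of_mono k (isSolvable_borel D b he)

omit [Smooth H.hom] [IsImmersion h.left] [ConnectedSpace S] in
include hR' in
/-- a subgroup with two opposite roots has a non-solvable fibre -/
theorem not_solvable_of_opp [Nonempty S] (s : S) {a : D.idx} (ha : a ∈ R') (ha' : D.P.reflectionPerm a a ∈ R') :
    ¬ Red.IsSolvableGrp (Red.geomFibre s H) := by
  classical
  rintro ⟨n, hn⟩
  haveI := D.fintypeIdx
  haveI : Finite D.idx := Finite.of_fintype _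
  haveI := H21Red0.isReduced_of_nonempty D
  haveI := isAffineHom_hom D
  let K := AlgebraicClosure (S.residueField s)
  let g : Spec (CommRingCat.of K) ⟶ S := Red.geomPt s
  have hbot : derivedSeries (pt g K ⟶ H) n = ⊥ := by
    have hsurj : Function.Surjective (fibHom g K H) := (H21Diag.bcEquiv g H (affO K)).symm.surjective
    have h1 := map_derivedSeries_eq hsurj n
    rw [← h1]
    exact (congrArg (Subgroup.map _) (hn (affO K))).trans (Subgroup.map_bot _)
  let ψ : (pt g K ⟶ H) →* (pt g K ⟶ G) := MonoidHom.mk' (fun x => x ≫ h) fun x y => MonObj.mul_comp x y h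
  set c := D.P.reflectionPerm a a with hc
  have key : ∀ k, ∀ d ∈ ({a, c} : Set D.idx), ∀ x : K, uPt g D d x ∈ (derivedSeries (pt g K ⟶ H) k).map ψ := by
    intro k
    induction k with
    | zero =>
      intro d hd x
      have hdR : d ∈ R' := by rcases hd with rfl | rfl <;> assumption
      obtain ⟨v, hv⟩ := (hR' d).mpr hdR
      exact ⟨ga g x ≫ v, Subgroup.mem_top _, show (ga g x ≫ v) ≫ h = _ by rw [Category.assoc, hv]; rfl⟩
    | succ k ih =>
      obtain ⟨κ, hκ, hku⟩ := exists_dual D g a
      obtain ⟨w, rfl⟩ := hku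
      have hcor : ∀ z : Kˣ, tPt g D (cor D z a) ∈ (derivedSeries (pt g K ⟶ H) k).map ψ := fun z => by
        have hz : (z : K) = 1 + algebraMap K K w * (((z : K) - 1) * ↑w⁻¹) * 1 := by
          simp only [Algebra.algebraMap_self, RingHom.id_apply, _root_.mul_one, mul_left_comm (w : K), Units.mul_inv]
          ring
        have h1 := hκ K (((z : K) - 1) * ↑w⁻¹) 1 z hz
        have h2 := Subgroup.mul_mem _ (Subgroup.mul_mem _ (Subgroup.inv_mem _ (ih c (Or.inr rfl) (↑z⁻¹ * 1)))
          (Subgroup.mul_mem _ (ih a (Or.inl rfl) (((z : K) - 1) * ↑w⁻¹)) (ih c (Or.inr rfl) 1)))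
          (Subgroup.inv_mem _ (ih a (Or.inl rfl) (↑z⁻¹ * (((z : K) - 1) * ↑w⁻¹))))
        rw [h1] at h2
        simpa only [← hc, _root_.mul_assoc, inv_mul_cancel_left, mul_inv_cancel, _root_.mul_one] using h2
      obtain ⟨z₀, hz₀⟩ := Infinite.exists_notMem_finset ({0, 1, -1} : Finset K)
      simp only [Finset.mem_insert, Finset.mem_singleton, not_or] at hz₀
      let z : Kˣ := Units.mk0 z₀ hz₀.1
      intro d hd x
      obtain ⟨μ', hμ, hμv⟩ : ∃ μ' : Kˣ, (μ' : K) ≠ 1 ∧
          cor D z a (Multiplicative.ofAdd (D.P.root d)) = (μ' : K) := by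
        have hsq : z₀ * z₀ ≠ 1 := fun e => by
          rcases mul_self_eq_one_iff.mp e with e | e
          · exact hz₀.2.1 e
          · exact hz₀.2.2 e
        rcases hd with h' | h' <;> rw [h']
        · exact ⟨z * z, by simpa [z] using hsq, cor_self D z a⟩
        · have hroot : D.P.root c = -D.P.root a := by rw [hc, D.P.root_reflectionPerm, D.P.reflection_apply_self]
          refine ⟨(z * z)⁻¹, fun e => hsq ?_, ?_⟩
          · simpa [z] using congrArg Units.val (inv_eq_one.mp (Units.val_eq_one.mp e))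
          · rw [hroot, Units.val_inv_eq_inv_val]
            refine eq_inv_of_mul_eq_one_left ?_
            rw [← cor_self D z a, ← map_mul, ← ofAdd_add, neg_add_cancel, ofAdd_zero, map_one]
      have hcomm : uPt g D d x = ⁅tPt g D (cor D z a), uPt g D d (((μ' : K) - 1)⁻¹ * x)⁆ := by
        rw [commutatorElement_def, tPt_conj, hμv, ← uPt_neg, ← uPt_add]
        congr 1
        rw [← sub_eq_add_neg, ← sub_one_mul, mul_inv_cancel_left₀ (sub_ne_zero.mpr hμ)]
      rw [hcomm, derivedSeries_succ, Subgroup.map_commutator]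
      exact Subgroup.commutator_mem_commutator (hcor z) (ih d hd _)
  have h0 := key n a (Or.inl rfl) 1
  rw [hbot, Subgroup.map_bot, Subgroup.mem_bot] at h0
  exact one_ne_zero (α := K) (uPt_injective g D a (h0.trans (uPt_zero g D a).symm))

end Groth.Agent.H21Split.TypeR
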