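import Groth.Agent.H21Split.Psi
import Groth.Agent.H21Split.R2.ChevRoots

/-!
Sets of roots without opposite pairs, closed under the sums allowed by the commutator constants, lie in an open
half space.
-/

namespace Groth.Agent.H21Split.TypeR

open RootPairing

set_option linter.style.haveILetI false
set_option linter.unusedSectionVars false

variable {ι M N : Type} [Finite ι] [AddCommGroup M] [AddCommGroup N] (P : RootPairing ι ℤ M N) [P.IsReduced]

/-- the closure property of the roots of a subgroup with maximal torus -/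
def SumClosed (R' : Set ι) : Prop :=
  ∀ a b : ι, a ∈ R' → b ∈ R' → ∀ e : ι, P.root e = P.root a + P.root b →
    ((∃ m : ℤ, (m = 1 ∨ m = 2 ∨ m = 3) ∧ P.pairing b a = -m ∧ P.pairing a b = -1 ∧
        P.root b - P.root a ∉ Set.range P.root) → e ∈ R') ∧
      ∀ d c₂ c₃ : ι, P.root d = P.root b - P.root a → P.pairing d a = -3 → P.pairing a d = -1 →
        P.root c₂ = (2 : ℤ) • P.root a + P.root b → P.root c₃ = P.root a + (2 : ℤ) • P.root b →
        e ∈ R' ∨ (c₂ ∈ R' ∧ c₃ ∈ R')

/-- the pairs of short roots of a component of type G₂ making an angle of 120 degrees, with the sums in the set -/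
def Bad (R' : Set ι) (x y : ι) : Prop :=
  P.pairing x y = -1 ∧ P.pairing y x = -1 ∧ P.root y - P.root x ∈ Set.range P.root ∧
    (∃ p ∈ R', P.root p = (2 : ℤ) • P.root x + P.root y) ∧ (∃ q ∈ R', P.root q = (2 : ℤ) • P.root y + P.root x)

theorem root_refl (a b : ι) : P.root (P.reflectionPerm a b) = P.root b - P.pairing b a • P.root a := by
  rw [P.root_reflectionPerm, P.reflection_apply_root]

theorem root_neg (a : ι) : P.root (P.reflectionPerm a a) = -P.root a := by
  rw [P.root_reflectionPerm, P.reflection_apply_self]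

theorem indep_of_pairing_neg {a b : ι} (h : P.pairing b a < 0) (hne : P.root b ≠ -P.root a) :
    LinearIndependent ℤ ![P.root a, P.root b] := by
  haveI : Module.IsReflexive ℤ M := .of_isPerfPair P.toLinearMap
  haveI : IsAddTorsionFree M := .of_isTorsionFree ℤ M
  refine IsReduced.linearIndependent P (fun e => ?_) (fun e => hne (by rw [e, neg_neg]))
  subst e
  rw [P.pairing_same] at h
  omega

/-- two members with negative pairing whose sum is not in the set -/
theorem bad_of_notMem {R' : Set ι} (hcl : SumClosed P R') {a b e : ι} (ha : a ∈ R') (hb : b ∈ R')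
    (he : P.root e = P.root a + P.root b) (hneg : P.pairing b a < 0) (hne : P.root b ≠ -P.root a) (heR : e ∉ R') :
    Bad P R' a b := by
  haveI : Module.IsReflexive ℤ M := .of_isPerfPair P.toLinearMap
  haveI : IsAddTorsionFree M := .of_isTorsionFree ℤ M
  have hind := indep_of_pairing_neg P hneg hne
  have h4 := R2.pairing_prod_lt_four P hind
  have hpos := R2.pairing_prod_nonneg P a b
  have hne0 : P.pairing a b ≠ 0 := fun h0 => by rw [P.pairing_eq_zero_iff'] at h0; omega
  have hab : P.pairing a b < 0 := by
    by_contra hc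
    have : 1 ≤ P.pairing a b := by omega
    nlinarith
  have hgood : ∀ x y : ι, x ∈ R' → y ∈ R' → P.root e = P.root x + P.root y → P.pairing x y = -1 →
      P.pairing y x < -1 → LinearIndependent ℤ ![P.root x, P.root y] → P.pairing x y * P.pairing y x < 4 → False := by
    intro x y hx hy he' hxy hyx hind' h4'
    rw [hxy] at h4'
    refine heR ((hcl x y hx hy e he').1 ⟨-P.pairing y x, by omega, by omega, hxy, fun hd => ?_⟩)
    rw [← one_zsmul (P.root x), P.root_sub_zsmul_mem_range_iff hind', Set.mem_Icc] at hd
    have h1 := P.chainBotCoeff_sub_chainTopCoeff hind'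
    have h3 := P.chainBotCoeff_add_chainTopCoeff_le_three (i := x) (j := y)
    rw [pairingIn_int] at h1
    omega
  have hA : P.pairing a b = -1 ∧ P.pairing b a = -1 := by
    have h1 : P.pairing a b = -1 ∨ P.pairing b a = -1 := by
      by_contra hc
      have : P.pairing a b ≤ -2 := by omega
      have : P.pairing b a ≤ -2 := by omega
      nlinarith
    rcases h1 with h1 | h1
    · refine ⟨h1, ?_⟩
      by_contra hc
      exact hgood a b ha hb he h1 (by omega) hind h4
    · refine ⟨?_, h1⟩
      by_contra hc
      exact hgood b a hb ha (by rw [he, add_comm]) h1 (by omega) (LinearIndependent.pair_symm_iff.mp hind)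
        (by rw [mul_comm]; exact h4)
  obtain ⟨hA, hB⟩ := hA
  by_cases hsub : P.root b - P.root a ∈ Set.range P.root
  swap
  · exact absurd ((hcl a b ha hb e he).1 ⟨1, by omega, hB, hA, hsub⟩) heR
  obtain ⟨d, hd⟩ := hsub
  have hda : P.pairing d a = -3 := by
    rw [← P.root_coroot'_eq_pairing, hd, map_sub, P.root_coroot'_eq_pairing, P.root_coroot'_eq_pairing,
      P.pairing_same, hB]
    norm_num
  have had : P.pairing a d = -1 := R2.pairing_partner P
    (R2.indep_shift P hind (-1) (by rw [hd]; module)) (by norm_num) hda (by norm_num)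
  have hadb : P.pairing (P.reflectionPerm d d) b = -3 := by
    rw [← P.root_coroot'_eq_pairing, root_neg, hd, neg_sub, map_sub, P.root_coroot'_eq_pairing,
      P.root_coroot'_eq_pairing, P.pairing_same, hA]
    norm_num
  obtain ⟨c₂, hc₂⟩ : ∃ c, P.root c = (2 : ℤ) • P.root a + P.root b :=
    ⟨P.reflectionPerm a d, by rw [root_refl, hda, hd]; module⟩
  obtain ⟨c₃, hc₃⟩ : ∃ c, P.root c = P.root a + (2 : ℤ) • P.root b :=
    ⟨P.reflectionPerm b (P.reflectionPerm d d), by rw [root_refl, hadb, root_neg, hd]; module⟩
  obtain ⟨h2, h3⟩ := ((hcl a b ha hb e he).2 d c₂ c₃ hd hda had hc₂ hc₃).resolve_left heR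
  exact ⟨hA, hB, ⟨d, hd⟩, ⟨c₂, h2, hc₂⟩, ⟨c₃, h3, by rw [hc₃, add_comm]⟩⟩

theorem Bad.symm {R' : Set ι} {x y : ι} (h : Bad P R' x y) : Bad P R' y x := by
  obtain ⟨h1, h2, ⟨d, hd⟩, h3, h4⟩ := h
  exact ⟨h2, h1, ⟨P.reflectionPerm d d, by rw [root_neg, hd, neg_sub]⟩, h4, h3⟩

/-- three roots of which two pairs are as above and the third is orthogonal: there are none -/
theorem not_bad_orth [Fintype ι] {R' : Set ι} {a b c : ι} (hab : Bad P R' a b) (hcb : Bad P R' c b)
    (hca : P.pairing c a = 0) : False := by
  obtain ⟨d, hd⟩ := hab.2.2.1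
  have sym : ∀ x y : M, P.RootForm x y = P.RootForm y x := fun x y => (P.rootForm_symmetric.eq x y)
  have e1 := two_mul_rootForm (P := P) (P.root c) d
  have e2 := two_mul_rootForm (P := P) (P.root c) a
  have e3 := two_mul_rootForm (P := P) (P.root c) b
  have e4 := two_mul_rootForm (P := P) (P.root a) b
  have e5 := two_mul_rootForm (P := P) (P.root b) a
  rw [P.root_coroot'_eq_pairing] at e1 e2 e3 e4 e5
  rw [hca] at e2
  rw [hcb.1] at e3
  rw [hab.1] at e4
  rw [hab.2.1, sym (P.root b) (P.root a)] at e5
  simp only [hd, map_sub, LinearMap.sub_apply, sym (P.root b) (P.root a)] at e1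
  have hpos := rootForm_root_pos (P := P) a
  have key : 3 * P.pairing c d * P.RootForm (P.root a) (P.root a) = -1 * P.RootForm (P.root a) (P.root a) := by
    linear_combination -e1 - e2 + e3 - (1 + P.pairing c d) * (e4 - e5) + P.pairing c d * e5
  have := mul_right_cancel₀ hpos.ne' key
  omega

/-- three roots making angles of 120 degrees sum to zero -/
theorem eq_zero_of_bad_triangle [Fintype ι] {R' : Set ι} {a b c : ι} (hab : Bad P R' a b) (hcb : Bad P R' c b)
    (hca : Bad P R' c a) : P.root a + P.root b + P.root c = 0 := by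
  haveI : Module.IsReflexive ℤ M := .of_isPerfPair P.toLinearMap
  haveI : IsAddTorsionFree M := .of_isTorsionFree ℤ M
  set x := P.root a + P.root b + P.root c with hx
  have h0 : ∀ y ∈ ({a, b, c} : Set ι), P.RootForm x (P.root y) = 0 := by
    intro y hy
    have e := two_mul_rootForm (P := P) x y
    have : P.coroot' y x = 0 := by
      simp only [hx, map_add, P.root_coroot'_eq_pairing]
      rcases hy with rfl | rfl | rfl <;>
        simp [P.pairing_same, hab.1, hab.2.1, hcb.1, hcb.2.1, hca.1, hca.2.1]
    rw [this, zero_mul] at e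
    omega
  have hxx : P.RootForm x x = 0 := by
    rw [show P.RootForm x x = P.RootForm x (P.root a + P.root b + P.root c) from rfl]
    simp [map_add, h0]
  have hmem : x ∈ P.rootSpan ℤ := add_mem (add_mem (Submodule.subset_span ⟨a, rfl⟩) (Submodule.subset_span ⟨b, rfl⟩))
    (Submodule.subset_span ⟨c, rfl⟩)
  have hker : x ∈ LinearMap.ker P.RootForm := by
    refine LinearMap.mem_ker.mpr (LinearMap.ext fun y => ?_)
    rw [P.rootForm_apply_apply, LinearMap.zero_apply]
    rw [P.rootForm_apply_apply] at hxx
    have h' := (Finset.sum_eq_zero_iff_of_nonneg fun i _ => mul_self_nonneg (P.coroot' i x)).mp hxx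
    exact Finset.sum_eq_zero fun i hi => by rw [mul_self_eq_zero.mp (h' i hi), zero_mul]
  exact (Submodule.disjoint_def.mp P.disjoint_rootSpan_ker_rootForm) x hmem hker

/-- **No positive relation.** -/
theorem eq_zero_of_sum_eq_zero {R' : Set ι} (hcl : SumClosed P R') (hd : ∀ a ∈ R', P.reflectionPerm a a ∉ R')
    (m : Multiset ι) (hm : ∀ a ∈ m, a ∈ R') (h : (m.map P.root).sum = 0) : m = 0 := by
  classical
  haveI := Fintype.ofFinite ι
  induction hn : Multiset.card m using Nat.strong_induction_on generalizing m with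
  | _ n ih =>
    by_contra hne
    have hopp : ∀ x ∈ R', ∀ y ∈ R', P.root y ≠ -P.root x := fun x hx y hy e => hd x hx (by
      rw [show P.reflectionPerm x x = y from P.root.injective (by rw [root_neg, e])]
      exact hy)
    have hkey : ∀ x ∈ m, ∀ y ∈ m.erase x, P.pairing y x < 0 → Bad P R' x y := by
      intro x hx y hy hneg
      have hxR := hm x hx
      have hyR := hm y (Multiset.mem_of_mem_erase hy)
      obtain ⟨e, he⟩ := P.root_add_root_mem_of_pairingIn_neg (i := y) (j := x) (by rw [pairingIn_int]; exact hneg)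
        (hopp x hxR y hyR)
      rw [add_comm] at he
      refine bad_of_notMem P hcl hxR hyR he hneg (hopp x hxR y hyR) fun heR => ?_
      have hm' : ∀ a ∈ e ::ₘ (m.erase x).erase y, a ∈ R' := fun a ha => by
        rcases Multiset.mem_cons.mp ha with rfl | ha
        · exact heR
        · exact hm a (Multiset.mem_of_mem_erase (Multiset.mem_of_mem_erase ha))
      have hdec : m = x ::ₘ y ::ₘ (m.erase x).erase y := by rw [Multiset.cons_erase hy, Multiset.cons_erase hx]
      have hlt : Multiset.card (e ::ₘ (m.erase x).erase y) < n := by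
        rw [← hn]; conv_rhs => rw [hdec]
        simp
      have := ih _ hlt _ hm' (by
        rw [← h]; conv_rhs => rw [hdec]
        simp only [Multiset.map_cons, Multiset.sum_cons, he, add_assoc]) rfl
      exact Multiset.cons_ne_zero this
    obtain ⟨a, ha⟩ := Multiset.exists_mem_of_ne_zero hne
    have hlin : ∀ f : M →ₗ[ℤ] ℤ, (m.map fun x => f (P.root x)).sum = 0 := fun f => by
      rw [← Function.comp_def, ← Multiset.map_map, ← map_multiset_sum, h, map_zero]
    obtain ⟨b, hb, hba⟩ : ∃ b ∈ m.erase a, P.pairing b a < 0 := by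
      by_contra hc
      push Not at hc
      have h1 := hlin (P.coroot' a)
      rw [← Multiset.cons_erase ha, Multiset.map_cons, Multiset.sum_cons, P.root_coroot'_eq_pairing,
        P.pairing_same] at h1
      have h2 : 0 ≤ ((m.erase a).map fun x => P.coroot' a (P.root x)).sum := Multiset.sum_nonneg fun z hz => by
        obtain ⟨x, hx, rfl⟩ := Multiset.mem_map.mp hz
        rw [P.root_coroot'_eq_pairing]
        exact hc x hx
      omega
    have hab := hkey a ha b hb hba
    let f : M →ₗ[ℤ] ℤ := P.coroot' a + P.coroot' b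
    have hf : ∀ x, f (P.root x) = P.pairing x a + P.pairing x b := fun x => by
      simp [f, P.root_coroot'_eq_pairing]
    obtain ⟨c, hc, hcn⟩ : ∃ c ∈ (m.erase a).erase b, P.pairing c a + P.pairing c b < 0 := by
      by_contra hc
      push Not at hc
      have h1 := hlin f
      rw [← Multiset.cons_erase ha, ← Multiset.cons_erase hb] at h1
      simp only [Multiset.map_cons, Multiset.sum_cons, hf, P.pairing_same, hab.1, hab.2.1] at h1
      have h2 : 0 ≤ (((m.erase a).erase b).map fun x => P.pairing x a + P.pairing x b).sum :=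
        Multiset.sum_nonneg fun z hz => by
          obtain ⟨x, hx, rfl⟩ := Multiset.mem_map.mp hz
          exact hc x hx
      omega
    have hbm : b ∈ m := Multiset.mem_of_mem_erase hb
    have hca' : c ∈ m.erase a := Multiset.mem_of_mem_erase hc
    have hcb' : c ∈ m.erase b := by
      rw [← Multiset.erase_comm] at hc
      exact Multiset.mem_of_mem_erase hc
    have hcontra : ∀ x y : ι, Bad P R' x y → x ∈ R' → y ∈ R' → Bad P R' c y → (P.pairing c x < 0 → Bad P R' c x) →
        P.pairing c x + P.pairing c y < 0 → False := by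
      intro x y hxy hxR hyR hcy hk hlt
      rcases lt_trichotomy (P.pairing c x) 0 with h1 | h1 | h1
      · have hcx := hk h1
        have hz := eq_zero_of_bad_triangle P hxy hcy hcx
        obtain ⟨p, hp, hpe⟩ := hcx.2.2.2.2
        obtain ⟨q, hq, hqe⟩ := hcy.2.2.2.2
        refine hopp p hp q hq ?_
        rw [hpe, hqe]
        linear_combination (norm := module) (2 : ℤ) • hz
      · exact not_bad_orth P hxy hcy h1
      · have := hcy.1
        omega
    rcases lt_or_ge (P.pairing c b) 0 with h1 | h1
    · exact hcontra a b hab (hm a ha) (hm b hbm) (hkey b hbm c hcb' h1).symm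
        (fun h2 => (hkey a ha c hca' h2).symm) hcn
    · exact hcontra b a hab.symm (hm b hbm) (hm a ha) (hkey a ha c hca' (by omega)).symm
        (fun h2 => (hkey b hbm c hcb' h2).symm) (by omega)

/-- **Such a set lies in a closed set without opposite pairs.** -/
theorem exists_posSet {R' : Set ι} (hcl : SumClosed P R') (hd : ∀ a ∈ R', P.reflectionPerm a a ∉ R') :
    ∃ Ψ : Set ι, R' ⊆ Ψ ∧ IsPosSet P Ψ := by
  classical
  refine ⟨{x | ∃ m : Multiset ι, (∀ a ∈ m, a ∈ R') ∧ (m.map P.root).sum = P.root x},
    fun a ha => ⟨{a}, by simpa using ha, by simp⟩, ⟨?_, ?_⟩⟩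
  · rintro a b c ⟨m, hm, hma⟩ ⟨m', hm', hmb⟩ hc
    exact ⟨m + m', fun x hx => (Multiset.mem_add.mp hx).elim (hm x) (hm' x), by simp [hma, hmb, hc]⟩
  · rintro a b ⟨m, hm, hma⟩ hb ⟨m', hm', hmb⟩
    have h0 := eq_zero_of_sum_eq_zero P hcl hd (m + m') (fun x hx => (Multiset.mem_add.mp hx).elim (hm x) (hm' x))
      (by simp [hma, hmb, hb])
    rw [(add_eq_zero.mp h0).1] at hma
    exact P.ne_zero a (by simpa using hma.symm)

end Groth.Agent.H21Split.TypeR
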