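import Groth.Agent.H21Split.TypeR.Comm
import Groth.Agent.H21Split.TypeR.Asym

/-!
Stability of the roots of a subgroup under the reflections of its opposite pairs, long strings.
-/

open CategoryTheory MonoidalCategory CartesianMonoidalCategory MonObj GrpObj AlgebraicGeometry
open CategoryTheory.Limits
open TrivSqZeroExt (inl inr)
open Groth.Agent.H21Split.R2

universe u

set_option backward.isDefEq.respectTransparency false
set_option linter.style.haveILetI false
set_option linter.unusedSectionVars false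
set_option synthInstance.maxHeartbeats 400000
set_option maxHeartbeats 1000000

noncomputable section

namespace Groth.Agent.H21Split.TypeR

variable {S : Scheme.{u}} {G : Over S} [GrpObj G]
variable {H : Over S} [GrpObj H] {h : H ⟶ G} {D : Red.SplitRed G}
  [Smooth H.hom] [IsMonHom h] [IsImmersion h.left] [ConnectedSpace S]
  (t : D.T ⟶ H) (ht : t ≫ h = D.i) (R' : Set D.idx)
  (hR' : ∀ a : D.idx, (∃ v : Red.Ga S ⟶ H, v ≫ h = D.u a) ↔ a ∈ R')

include ht hR'

/-- reflections of opposite pairs stabilise the roots of the subgroup -/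
theorem refl_mem (c x : D.idx) (hc : c ∈ R') (hc' : D.P.reflectionPerm c c ∈ R') (hx : x ∈ R') :
    D.P.reflectionPerm c x ∈ R' := by
  haveI := isAffineHom_hom D
  haveI : Mono h := (Over.forget S).mono_of_mono_map (inferInstanceAs (Mono h.left))
  obtain ⟨v, hv, s, hs⟩ := exists_signed D
  let D' : Red.SplitRed G := withU D v hv
  have ht' : t ≫ h = D'.i := ht
  have hR'' : ∀ a : D'.idx, (∃ w : Red.Ga S ⟶ H, w ≫ h = D'.u a) ↔ a ∈ R' := rootSet_withU t ht R' hR' v hv
  obtain ⟨s₀⟩ := (inferInstance : Nonempty S)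
  obtain ⟨R, iR, g, hg, ⟨p, -⟩, A, iA, iAR, iAs, ε, j, hj, hε⟩ := exists_chart (H := H) s₀
  let p : PrimeSpectrum R := p
  letI := iR
  letI := iA
  letI := iAR
  haveI := hg
  haveI := iAs
  haveI := hj
  let K := p.asIdeal.ResidueField
  let E : DualNumber K := inr 1
  have hfac : ∀ (c : D.idx), c ∈ R' → ∀ z : DualNumber K, Fac h (uPt g D' c z) := fun c hc z =>
    fac_uPt_of_mem (D := D') g t ht' R' hR'' hc z
  let g' := Spec.map (CommRingCat.ofHom (algebraMap R (DualNumber K))) ≫ g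
  let τ := towerIso g (DualNumber K) (DualNumber K)
  have htr : ∀ (c : D.idx) (z : DualNumber K), τ.inv ≫ uPt g' D' c z = uPt g D' c z := fun c z => by
    rw [← towerIso_uPt D' g (DualNumber K) c z, Iso.inv_hom_id_assoc]
  have hE : E * E = 0 := TrivSqZeroExt.inr_mul_inr _ _ _
  have hw : ∀ B : Type u, ∀ [CommRing B] [Algebra R B], Fac h (uPt g D' c (1 : B)) ∧
      ∀ y : B, Fac h (uPt g D' (D.P.reflectionPerm c c) y) := fun B _ _ =>
    ⟨fac_uPt_of_mem (D := D') g t ht' R' hR'' hc _, fun y => fac_uPt_of_mem (D := D') g t ht' R' hR'' hc' y⟩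
  have h1 := (hs R g).2 c x (DualNumber K) E
  have hW : Fac h (wPt g D' c (D.P.reflectionPerm c c) (-(sU R (s c c))) (DualNumber K)) := by
    unfold wPt
    exact ((hw _).1.mul ((hw _).2 _)).mul (hw _).1
  have h2 : Fac h (uPt g D' (D.P.reflectionPerm c x) (inr ((s c x : ℤ) : K) : DualNumber K)) := by
    have h3 := (hW.mul (hfac x hx E)).mul hW.inv
    rw [h1] at h3
    convert h3 using 2
    rw [sU_val, map_intCast]
    refine TrivSqZeroExt.ext ?_ ?_
    · simp [E]
    · simp [E]
  by_contra hn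
  have h4 := (fac_uPt_inr_iff (D := D') t ht' R' hR'' g ε j hε _ _).mp h2 hn
  rcases sign_cases (s c x) with h | h <;> simp [h] at h4

/-- the middle of a string of length three -/
theorem long_string_mem (a b c₂ : D.idx) (ha : a ∈ R') (hb : b ∈ R') (hA : D.P.pairing b a = -3)
    (hB : D.P.pairing a b = -1) (hc₂ : D.P.root c₂ = (2 : ℤ) • D.P.root a + D.P.root b) : c₂ ∈ R' := by
  haveI := isAffineHom_hom D
  haveI : Mono h := (Over.forget S).mono_of_mono_map (inferInstanceAs (Mono h.left))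
  obtain ⟨v, hv, s, hs⟩ := exists_signed D
  let D' : Red.SplitRed G := withU D v hv
  have ht' : t ≫ h = D'.i := ht
  have hR'' : ∀ a : D'.idx, (∃ w : Red.Ga S ⟶ H, w ≫ h = D'.u a) ↔ a ∈ R' := rootSet_withU t ht R' hR' v hv
  obtain ⟨s₀⟩ := (inferInstance : Nonempty S)
  obtain ⟨R, iR, g, hg, ⟨p, -⟩, A, iA, iAR, iAs, ε, j, hj, hε⟩ := exists_chart (H := H) s₀
  let p : PrimeSpectrum R := p
  letI := iR
  letI := iA
  letI := iAR
  haveI := hg
  haveI := iAs
  haveI := hj
  let K := p.asIdeal.ResidueField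
  let E : DualNumber K := inr 1
  have hfac : ∀ (c : D.idx), c ∈ R' → ∀ z : DualNumber K, Fac h (uPt g D' c z) := fun c hc z =>
    fac_uPt_of_mem (D := D') g t ht' R' hR'' hc z
  have hcomm : ∀ x y : DualNumber K, Fac h (uPt g D' b y * uPt g D' a x * (uPt g D' b y)⁻¹ * (uPt g D' a x)⁻¹) :=
    fun x y => (((hfac b hb y).mul (hfac a ha x)).mul (hfac b hb y).inv).mul (hfac a ha x).inv
  let g' := Spec.map (CommRingCat.ofHom (algebraMap R (DualNumber K))) ≫ g
  let τ := towerIso g (DualNumber K) (DualNumber K)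
  have htr : ∀ (c : D.idx) (z : DualNumber K), τ.inv ≫ uPt g' D' c z = uPt g D' c z := fun c z => by
    rw [← towerIso_uPt D' g (DualNumber K) c z, Iso.inv_hom_id_assoc]
  have hE : E * E = 0 := TrivSqZeroExt.inr_mul_inr _ _ _
  haveI := H21Red0.isReduced_of_nonempty D
  obtain ⟨e, he⟩ : ∃ f, D.P.root f = D.P.root a + D.P.root b :=
    ⟨D.P.reflectionPerm b a, by rw [root_refl, hB]; module⟩
  obtain ⟨c₃, hc₃⟩ : ∃ f, D.P.root f = (3 : ℤ) • D.P.root a + D.P.root b :=
    ⟨D.P.reflectionPerm a b, by rw [root_refl, hA]; module⟩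
  obtain ⟨c₄, hc₄⟩ : ∃ f, D.P.root f = (3 : ℤ) • D.P.root a + (2 : ℤ) • D.P.root b := by
    refine ⟨D.P.reflectionPerm b c₃, ?_⟩
    rw [root_refl, ← D.P.root_coroot'_eq_pairing, hc₃, map_add, map_zsmul,
      D.P.root_coroot'_eq_pairing, D.P.root_coroot'_eq_pairing, D.P.pairing_same, hB, smul_eq_mul]
    module
  have h1 := congrArg (τ.inv ≫ ·) (comm_13 (D := D') hs g' a b e c₂ c₃ c₄ hA hB he hc₂ hc₃ hc₄ 1 E)
  simp only [MonObj.comp_mul, GrpObj.comp_inv, htr] at h1
  have k := hcomm 1 E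
  rw [h1] at k
  simp only [one_pow, _root_.mul_one, pow_two, hE, mul_zero, uPt_zero] at k
  have hscal : ∀ σ : ℤˣ, ((σ : ℤ) : DualNumber K) * E = (inr ((σ : ℤ) : K) : DualNumber K) := fun σ => by
    refine TrivSqZeroExt.ext ?_ ?_
    · simp [E]
    · simp [E]
  simp only [hscal] at k
  classical
  have e1 : ∀ x y z : K, uPt g D' e (inr x : DualNumber K) * uPt g D' c₂ (inr y : DualNumber K) *
      uPt g D' c₃ (inr z : DualNumber K) =
      lieComb g D' (Pi.single e x + Pi.single c₂ y + Pi.single c₃ z) (0 + 0 + 0 : Fin (rk D) → K) := fun x y z => by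
    rw [lieComb_add, lieComb_add, lieComb_single, lieComb_single, lieComb_single]
  rw [e1] at k
  by_contra hn
  have h5 := (fac_lieComb_iff (D := D') t ht' R' hR'' g ε j hε _ _).mp k c₂ hn
  have n1 : c₂ ≠ e := fun h0 => by
    rw [h0, he] at hc₂
    exact D.P.ne_zero a (by linear_combination (norm := module) -hc₂)
  have n2 : c₂ ≠ c₃ := fun h0 => by
    rw [h0, hc₃] at hc₂
    exact D.P.ne_zero a (by linear_combination (norm := module) hc₂)
  simp only [Pi.add_apply, Pi.single_eq_same, Pi.single_eq_of_ne n1, Pi.single_eq_of_ne n2, zero_add, add_zero] at h5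
  rcases sign_cases (-(s a e * s b a)) with h | h <;> simp [h] at h5

end Groth.Agent.H21Split.TypeR
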