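import Groth.Agent.H21Split.TypeR.Inter

/-!
Reduction of statements over affine test schemes to charts.
-/

open CategoryTheory MonoidalCategory CartesianMonoidalCategory MonObj GrpObj AlgebraicGeometry
open CategoryTheory.Limits

universe u

set_option backward.isDefEq.respectTransparency false
set_option linter.style.haveILetI false
set_option linter.unusedSectionVars false
set_option synthInstance.maxHeartbeats 400000
set_option maxHeartbeats 1000000

noncomputable section

namespace Groth.Agent.H21Split.TypeR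

variable {S : Scheme.{u}}

/-- near every point an affine test scheme maps into a chart -/
theorem exists_chart_local {H : Over S} [GrpObj H] [Smooth H.hom] {R : Type u} [CommRing R]
    (g : Spec (CommRingCat.of R) ⟶ S) (p : PrimeSpectrum R) :
    ∃ (f : R) (_ : f ∉ p.asIdeal) (R₀ : Type u) (_ : CommRing R₀) (g₀ : Spec (CommRingCat.of R₀) ⟶ S)
      (_ : IsOpenImmersion g₀) (A : Type u) (_ : CommRing A) (_ : Algebra R₀ A) (_ : Algebra.Smooth R₀ A)
      (ε : A →ₐ[R₀] R₀) (j : pt g₀ A ⟶ H) (_ : IsOpenImmersion j.left) (_ : Algebra R₀ (Localization.Away f)),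
      pmap g₀ ε ≫ j = (1 : pt g₀ R₀ ⟶ H) ∧
        Spec.map (CommRingCat.ofHom (algebraMap R (Localization.Away f))) ≫ g =
          Spec.map (CommRingCat.ofHom (algebraMap R₀ (Localization.Away f))) ≫ g₀ := by
  obtain ⟨R₀, iR, g₀, hg, hs, A, iA, iAR, iAs, ε, j, hj, hε⟩ := exists_chart (H := H) (g.base p)
  letI := iR
  letI := iA
  letI := iAR
  haveI := hg
  obtain ⟨U, ⟨f, rfl⟩, hpf, hfU⟩ := PrimeSpectrum.isTopologicalBasis_basic_opens.exists_subset_of_mem_open
    (a := p) (u := g.base ⁻¹' Set.range g₀.base) hs (g₀.isOpenEmbedding.isOpen_range.preimage g.base.hom.continuous)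
  let k := Spec.map (CommRingCat.ofHom (algebraMap R (Localization.Away f))) ≫ g
  have hr : Set.range k.base ⊆ Set.range g₀.base := by
    rintro _ ⟨x, rfl⟩
    exact hfU ((PrimeSpectrum.localization_away_comap_range (Localization.Away f) f).subset ⟨x, rfl⟩)
  obtain ⟨ψ, hψ⟩ := Spec.map_surjective (IsOpenImmersion.lift g₀ k hr)
  refine ⟨f, hpf, R₀, iR, g₀, hg, A, iA, iAR, iAs, ε, j, hj, ψ.hom.toAlgebra, hε, ?_⟩
  exact (IsOpenImmersion.lift_fac g₀ k hr).symm.trans (congrArg (· ≫ g₀) hψ.symm)

variable {G H : Over S} [GrpObj G] [GrpObj H] {h : H ⟶ G} [IsAffineHom G.hom] {D : Red.SplitRed G}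
  [Smooth H.hom] [IsMonHom h] [IsImmersion h.left] [ConnectedSpace S] (t : D.T ⟶ H) (ht : t ≫ h = D.i)
  (R' : Set D.idx) (hR' : ∀ a : D.idx, (∃ v : Red.Ga S ⟶ H, v ≫ h = D.u a) ↔ a ∈ R')

include ht hR'

/-- a point of a root group outside the roots lies in the subgroup only if it is trivial -/
theorem eq_zero_of_fac' {R : Type u} [CommRing R] (g : Spec (CommRingCat.of R) ⟶ S) {a : D.idx} (ha : a ∉ R')
    {b : R} (hb : Fac h (uPt g D a b)) : b = 0 := by
  haveI : Mono h := (Over.forget S).mono_of_mono_map (inferInstanceAs (Mono h.left))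
  refine eq_of_span (s := {f | algebraMap R (Localization.Away f) b = 0}) ?_
    fun f hf => hf.trans (map_zero _).symm
  by_contra hne
  obtain ⟨m, hm, hle⟩ := Ideal.exists_le_maximal _ hne
  obtain ⟨f, hfm, R₀, iR, g₀, hg, A, iA, iAR, iAs, ε, j, hj, iRf, hε, hgf⟩ :=
    exists_chart_local (H := H) g ⟨m, hm.isPrime⟩
  letI := iR
  letI := iA
  letI := iAR
  letI := iRf
  haveI := hg
  haveI := iAs
  haveI := hj
  refine hfm (hle (Ideal.subset_span ?_))
  have h1 := hb.precomp (pmap g (IsScalarTower.toAlgHom R R (Localization.Away f)))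
  rw [pmap_uPt] at h1
  have h2 := (fac_tower (h := h) D g (Localization.Away f) a (algebraMap R (Localization.Away f) b)).mpr h1
  rw [hgf] at h2
  exact eq_zero_of_fac t ht g₀ ε j hε R' hR' ha ((fac_tower (h := h) D g₀ _ a _).mp h2)

end Groth.Agent.H21Split.TypeR
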