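import Groth.Agent.H21Split.TypeR.Chart
import Mathlib.RingTheory.Smooth.Basic
import Mathlib.Algebra.TrivSqZeroExt.Basic

/-!
The Lie vectors of a smooth subgroup are cut out by a projection.
-/

open CategoryTheory MonoidalCategory CartesianMonoidalCategory MonObj GrpObj AlgebraicGeometry
open CategoryTheory.Limits
open TrivSqZeroExt (inl inr)

universe u

set_option backward.isDefEq.respectTransparency false
set_option linter.style.haveILetI false
set_option linter.unusedSectionVars false
set_option synthInstance.maxHeartbeats 400000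
set_option maxHeartbeats 1000000

noncomputable section

namespace Groth.Agent.H21Split.TypeR

variable {S : Scheme.{u}} {G H : Over S} [GrpObj G] [GrpObj H]

/-- a point factors through a subgroup -/
def Fac (h : H ⟶ G) {X : Over S} (z : X ⟶ G) : Prop := ∃ w : X ⟶ H, w ≫ h = z

/-- linear functionals composed with an augmented derivation are derivations -/
theorem isDer_comp {R A M : Type u} [CommRing R] [CommRing A] [Algebra R A] [AddCommGroup M] [Module R M]
    (ε : A →ₐ[R] R) {B : Type u} [CommRing B] [Algebra R B] (D : A →ₗ[R] M)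
    (hD : ∀ a b, D (a * b) = ε a • D b + ε b • D a) (l : M →ₗ[R] B) : IsDer ε (l ∘ₗ D) := fun a b => by
  simp [hD a b, Algebra.smul_def]

section Alg

variable {R A : Type u} [CommRing R] [CommRing A] [Algebra R A] (ε : A →ₐ[R] R)

/-- the constants and the square of the augmentation ideal -/
def sqPart : Submodule R A :=
  LinearMap.range (Algebra.linearMap R A) ⊔ ((RingHom.ker ε) ^ 2).restrictScalars R

theorem mkQ_mul (W : Submodule R A) (hW : sqPart ε ≤ W) (a b : A) :
    W.mkQ (a * b) = ε a • W.mkQ b + ε b • W.mkQ a := by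
  rw [← map_smul, ← map_smul, ← map_add, Submodule.mkQ_apply, Submodule.mkQ_apply, Submodule.Quotient.eq]
  refine hW ?_
  have e : a * b - (ε a • b + ε b • a) =
      algebraMap R A (-(ε a * ε b)) + (a - algebraMap R A (ε a)) * (b - algebraMap R A (ε b)) := by
    simp only [Algebra.smul_def, map_neg, map_mul]; ring
  rw [e]
  refine Submodule.add_mem_sup ⟨_, rfl⟩ ?_
  rw [Submodule.restrictScalars_mem, pow_two]
  exact Ideal.mul_mem_mul (sub_eps_mem a) (sub_eps_mem b)

theorem IsDer.eq_zero_of_mem {B : Type u} [CommRing B] [Algebra R B] {δ : A →ₗ[R] B} (hδ : IsDer ε δ) {x : A}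
    (hx : x ∈ sqPart ε) : δ x = 0 := by
  obtain ⟨_, ⟨r, rfl⟩, z, hz, rfl⟩ := Submodule.mem_sup.mp hx
  rw [map_add, Algebra.linearMap_apply, hδ.map_algebraMap, hδ.map_sq hz, add_zero]

end Alg

variable {R : Type u} [CommRing R] (g : Spec (CommRingCat.of R) ⟶ S) [Mono g]
variable {A : Type u} [CommRing A] [Algebra R A] (ε : A →ₐ[R] R) (j : pt g A ⟶ H) [IsOpenImmersion j.left]
  (hε : pmap g ε ≫ j = (1 : pt g R ⟶ H)) (h : H ⟶ G) [IsMonHom h] [Mono h] [IsAffineHom G.hom]

include hε

omit [Mono g] [IsOpenImmersion j.left] [IsAffineHom G.hom] [Mono h] in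
theorem eps_eq : eps g G = ε.comp (fn g (j ≫ h)) := by
  rw [eps, ← fn_pmap, ← Category.assoc, hε, MonObj.one_comp]

omit [Mono g] [IsOpenImmersion j.left] [IsAffineHom G.hom] [Mono h] in
theorem comp_fn_comp (B : Type u) [CommRing B] [Algebra R B] :
    pmap g ((Algebra.ofId R B).comp ε) ≫ j = (1 : pt g B ⟶ H) := by
  rw [← pmap_comp, Category.assoc, hε, MonObj.comp_one]

/-- Lie vectors of the subgroup: derivations of the chart -/
theorem exists_lie_of_chart {B : Type u} [CommRing B] [Algebra R B] {δ : A →ₗ[R] B} (hδ : IsDer ε δ) :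
    ∃ φ : pt g (DualNumber B) ⟶ G, IsLie g φ ∧ Fac h φ ∧ lieDev g φ = δ ∘ₗ (fn g (j ≫ h)).toLinearMap := by
  let f : A →ₐ[R] DualNumber B :=
    { toFun := fun a => inl (algebraMap R B (ε a)) + inr (δ a)
      map_one' := by
        have h1 := hδ.map_algebraMap 1
        rw [map_one] at h1
        ext <;> simp [h1]
      map_zero' := by ext <;> simp
      map_add' := fun a b => by ext <;> simp
      map_mul' := fun a b => by
        ext
        · simp
        · simp [hδ a b]; ring
      commutes' := fun r => by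
        ext <;> simp [hδ.map_algebraMap, TrivSqZeroExt.algebraMap_eq_inl'] }
  refine ⟨pmap g f ≫ j ≫ h, ?_, ⟨pmap g f ≫ j, Category.assoc _ _ _⟩, LinearMap.ext fun a => ?_⟩
  · unfold IsLie
    rw [← Category.assoc, pmap_comp,
      show (fstA (R := R) (B := B)).comp f = (Algebra.ofId R B).comp ε from
        AlgHom.ext fun a => by simp [f, fstA_apply, Algebra.ofId_apply],
      ← Category.assoc, comp_fn_comp g ε j hε B, MonObj.one_comp]
  · rw [lieDev_apply]
    simp [dev, fn_pmap, f, Algebra.ofId_apply, TrivSqZeroExt.algebraMap_eq_inl', eps_eq g ε j hε h]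

/-- Lie vectors of the subgroup come from the chart -/
theorem exists_isDer_of_fac {B : Type u} [CommRing B] [Algebra R B] {φ : pt g (DualNumber B) ⟶ G}
    (hφ : IsLie g φ) (hf : Fac h φ) :
    ∃ δ : A →ₗ[R] B, IsDer ε δ ∧ lieDev g φ = δ ∘ₗ (fn g (j ≫ h)).toLinearMap ∧
      (φ = 1 → δ = 0) := by
  obtain ⟨w, rfl⟩ := hf
  have h1 : pmap g fstA ≫ w = (1 : pt g B ⟶ H) := by
    rw [← cancel_mono h, Category.assoc, MonObj.one_comp]; exact hφ
  have hr : Set.range w.left.base ⊆ Set.range j.left.base := by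
    refine range_subset_of_nilpotent g (fstA (R := R) (B := B)) (fun b => ⟨inl b, rfl⟩) (fun x hx => ⟨2, ?_⟩) w ?_
    · rw [fstA_apply] at hx
      rw [pow_two]; ext <;> simp [hx]
    · rw [h1, ← comp_fn_comp g ε j hε B]
      rintro _ ⟨p, rfl⟩
      exact ⟨_, rfl⟩
  obtain ⟨f, rfl⟩ := exists_algHom g j w hr
  haveI : Mono j := (Over.forget S).mono_of_mono_map (inferInstanceAs (Mono j.left))
  have hfst : ∀ a, TrivSqZeroExt.fst (f a) = algebraMap R B (ε a) := fun a => by
    have e := h1
    rw [← comp_fn_comp g ε j hε B, ← Category.assoc, pmap_comp, cancel_mono] at e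
    exact AlgHom.congr_fun (pmap_injective g e) a
  let δ : A →ₗ[R] B := sndL ∘ₗ f.toLinearMap
  refine ⟨δ, fun a b => ?_, LinearMap.ext fun a => ?_, fun h2 => ?_⟩
  · simp [δ, sndL_apply, hfst]
    ring
  · simp [lieDev_apply, dev, Category.assoc, fn_pmap, δ, sndL_apply, Algebra.ofId_apply, TrivSqZeroExt.algebraMap_eq_inl']
  · have h3 : pmap g f ≫ j = 1 := by rw [← cancel_mono h, MonObj.one_comp]; exact h2
    rw [← comp_fn_comp g ε j hε (DualNumber B), cancel_mono] at h3
    refine LinearMap.ext fun a => ?_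
    simp [δ, sndL_apply, pmap_injective g h3, Algebra.ofId_apply, TrivSqZeroExt.algebraMap_eq_inl']

/-- the cotangent map of the subgroup is surjective -/
theorem sup_eq_top : LinearMap.range (fn g (j ≫ h)).toLinearMap ⊔ sqPart ε = ⊤ := by
  set W := LinearMap.range (fn g (j ≫ h)).toLinearMap ⊔ sqPart ε
  let Q := A ⧸ W
  letI : Module Rᵐᵒᵖ Q := Module.compHom Q ((RingHom.id R).fromOpposite mul_comm)
  haveI : IsCentralScalar R Q := ⟨fun r q => rfl⟩
  let δ : A →ₗ[R] TrivSqZeroExt R Q := (TrivSqZeroExt.inrHom R Q) ∘ₗ W.mkQ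
  have hδ : IsDer ε δ := isDer_comp ε W.mkQ (mkQ_mul ε W le_sup_right) _
  obtain ⟨φ, hφ, hfac, hd⟩ := exists_lie_of_chart g ε j hε h hδ
  have hφ1 : φ = 1 := by
    refine eq_of_lieDev hφ isLie_one ?_
    rw [hd, lieDev_one]
    refine LinearMap.ext fun a => ?_
    have : W.mkQ (fn g (j ≫ h) a) = 0 := (Submodule.Quotient.mk_eq_zero _).mpr (Submodule.mem_sup_left ⟨a, rfl⟩)
    change inr (W.mkQ (fn g (j ≫ h) a)) = 0
    rw [this, TrivSqZeroExt.inr_zero]
  obtain ⟨δ', hδ', hd', hz⟩ := exists_isDer_of_fac g ε j hε h hφ hfac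
  obtain ⟨w, hw⟩ := hfac
  rw [eq_top_iff]
  intro x _
  have key : δ x = 0 := by
    let f : A →ₐ[R] DualNumber (TrivSqZeroExt R Q) :=
      { toFun := fun a => inl (algebraMap R _ (ε a)) + inr (δ a)
        map_one' := by
          have h1 := hδ.map_algebraMap 1
          rw [map_one] at h1
          ext <;> simp [h1]
        map_zero' := by ext <;> simp
        map_add' := fun a b => by ext <;> simp
        map_mul' := fun a b => by
          apply TrivSqZeroExt.ext
          · simp
          · simp [hδ a b]; ring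
        commutes' := fun r => by
          apply TrivSqZeroExt.ext <;> simp [hδ.map_algebraMap, TrivSqZeroExt.algebraMap_eq_inl'] }
    haveI : Mono j := (Over.forget S).mono_of_mono_map (inferInstanceAs (Mono j.left))
    have e1 : pmap g f ≫ j = pmap g ((Algebra.ofId R _).comp ε) ≫ j := by
      rw [comp_fn_comp g ε j hε _, ← cancel_mono h, MonObj.one_comp, Category.assoc]
      refine dev_injective g (LinearMap.ext fun a => ?_)
      have hz : δ (fn g (j ≫ h) a) = 0 := by
        change inr (W.mkQ (fn g (j ≫ h) a)) = 0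
        rw [show W.mkQ (fn g (j ≫ h) a) = 0 from
          (Submodule.Quotient.mk_eq_zero _).mpr (Submodule.mem_sup_left ⟨a, rfl⟩), TrivSqZeroExt.inr_zero]
      rw [dev_one]
      simp [dev, fn_pmap, f, hz, eps_eq g ε j hε h, Algebra.ofId_apply, TrivSqZeroExt.algebraMap_eq_inl']
    have e2 := congrArg TrivSqZeroExt.snd (AlgHom.congr_fun (pmap_injective g ((cancel_mono j).mp e1)) x)
    simpa [f, Algebra.ofId_apply, TrivSqZeroExt.algebraMap_eq_inl'] using e2
  have key' : W.mkQ x = 0 := by
    exact congrArg TrivSqZeroExt.snd key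
  exact (Submodule.Quotient.mk_eq_zero W).mp key'

/-- **Projection onto the Lie vectors of the subgroup.** -/
theorem exists_proj [Algebra.Smooth R A] : ∃ P : Crd g G →ₗ[R] Crd g G,
    (∀ (B : Type u) [CommRing B] [Algebra R B] (δ : Crd g G →ₗ[R] B),
      ∃ φ : pt g (DualNumber B) ⟶ G, IsLie g φ ∧ Fac h φ ∧ lieDev g φ = δ ∘ₗ P) ∧
    ∀ (B : Type u) [CommRing B] [Algebra R B] (φ : pt g (DualNumber B) ⟶ G), IsLie g φ → Fac h φ →
      lieDev g φ ∘ₗ P = lieDev g φ := by
  let π := (fn g (j ≫ h)).toLinearMap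
  let W := sqPart ε
  let N := A ⧸ W
  let M := Crd g G
  letI : Module Rᵐᵒᵖ N := Module.compHom N ((RingHom.id R).fromOpposite mul_comm)
  haveI : IsCentralScalar R N := ⟨fun r q => rfl⟩
  letI : Module Rᵐᵒᵖ M := Module.compHom M ((RingHom.id R).fromOpposite mul_comm)
  haveI : IsCentralScalar R M := ⟨fun r q => rfl⟩
  let p : M →ₗ[R] N := W.mkQ ∘ₗ π
  have hp : Function.Surjective p := fun n => by
    obtain ⟨a, rfl⟩ := Submodule.Quotient.mk_surjective W n
    have ha : a ∈ LinearMap.range π ⊔ W := by rw [sup_eq_top g ε j hε h]; trivial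
    obtain ⟨_, ⟨x, rfl⟩, y, hy, rfl⟩ := Submodule.mem_sup.mp ha
    refine ⟨x, ?_⟩
    have hy0 : W.mkQ y = 0 := (Submodule.Quotient.mk_eq_zero W).mpr hy
    change W.mkQ (π x) = W.mkQ (π x + y)
    rw [map_add, hy0, add_zero]
  let q : TrivSqZeroExt R M →ₐ[R] TrivSqZeroExt R N := TrivSqZeroExt.map p
  have hq : Function.Surjective q := fun z => by
    obtain ⟨x, hx⟩ := hp (TrivSqZeroExt.snd z)
    exact ⟨inl (TrivSqZeroExt.fst z) + inr x, TrivSqZeroExt.ext (by simp [q]) (by simp [q, hx])⟩
  have hnil : IsNilpotent (RingHom.ker (q : TrivSqZeroExt R M →+* TrivSqZeroExt R N)) := by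
    refine ⟨2, le_bot_iff.mp ?_⟩
    rw [pow_two, Ideal.mul_le]
    intro a ha b hb
    rw [RingHom.mem_ker] at ha hb
    have ha' := congrArg TrivSqZeroExt.fst ha
    have hb' := congrArg TrivSqZeroExt.fst hb
    simp [q] at ha' hb'
    rw [Ideal.mem_bot]
    ext <;> simp [ha', hb']
  let fN : A →ₐ[R] TrivSqZeroExt R N :=
    { toFun := fun a => inl (ε a) + inr (W.mkQ a)
      map_one' := by
        have : W.mkQ (1 : A) = 0 := (Submodule.Quotient.mk_eq_zero W).mpr
          (Submodule.mem_sup_left ⟨1, map_one (algebraMap R A)⟩)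
        ext <;> simp [this]
      map_zero' := by ext <;> simp
      map_add' := fun a b => by ext <;> simp
      map_mul' := fun a b => by
        ext
        · simp
        · simp [mkQ_mul ε W le_rfl a b]
      commutes' := fun r => by
        have : W.mkQ (algebraMap R A r) = 0 := (Submodule.Quotient.mk_eq_zero W).mpr
          (Submodule.mem_sup_left ⟨r, rfl⟩)
        ext <;> simp [this, TrivSqZeroExt.algebraMap_eq_inl] }
  let L := Algebra.FormallySmooth.liftOfSurjective fN q hq hnil
  have hL : ∀ a, q (L a) = fN a := Algebra.FormallySmooth.liftOfSurjective_apply fN q hq hnil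
  let D : A →ₗ[R] M := (TrivSqZeroExt.sndHom R M) ∘ₗ L.toLinearMap
  have hLfst : ∀ a, TrivSqZeroExt.fst (L a) = ε a := fun a => by
    simpa [q, fN] using congrArg TrivSqZeroExt.fst (hL a)
  have hD : ∀ a b, D (a * b) = ε a • D b + ε b • D a := fun a b => by
    simp [D, hLfst]
  have hDp : ∀ a, π (D a) - a ∈ W := fun a => by
    rw [← Submodule.Quotient.eq]
    have e := congrArg TrivSqZeroExt.snd (hL a)
    simp only [q, TrivSqZeroExt.snd_map] at e
    refine e.trans ?_
    simp [fN, N]
  refine ⟨D ∘ₗ π, fun B _ _ δ => ?_, fun B _ _ φ hφ hf => ?_⟩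
  · obtain ⟨φ, h1, h2, h3⟩ := exists_lie_of_chart g ε j hε h (isDer_comp ε D hD δ)
    exact ⟨φ, h1, h2, h3⟩
  · obtain ⟨δ, hδ, hd, -⟩ := exists_isDer_of_fac g ε j hε h hφ hf
    rw [hd]
    refine LinearMap.ext fun x => ?_
    simp only [LinearMap.comp_apply]
    have := IsDer.eq_zero_of_mem ε hδ (hDp (π x))
    rwa [map_sub, sub_eq_zero] at this

end Groth.Agent.H21Split.TypeR
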