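import Groth.Agent.H21Split.TypeR.TorusSub
import Groth.Agent.H21Split.TypeR.Proj
import Groth.Agent.H21Split.Red0.GeomSplit
import Groth.Agent.H21Mono.ClosedImmersion

/-!
A closed subgroup without subtori which retracts to its intersection with a split torus meets it trivially.
-/

open CategoryTheory MonoidalCategory CartesianMonoidalCategory MonObj GrpObj AlgebraicGeometry
open CategoryTheory.Limits
open Groth.Agent.H27Witt H20Mu H20Conj H20Borel

universe u

set_option autoImplicit false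
set_option backward.isDefEq.respectTransparency false
set_option linter.style.haveILetI false
set_option linter.unusedSectionVars false
set_option synthInstance.maxHeartbeats 400000
set_option maxHeartbeats 1000000

noncomputable section

namespace Groth.Agent.H21Split.TypeR

section Ideal

variable {S : Scheme.{u}} {G U : Over S} (u : U ⟶ G) [IsClosedImmersion u.left]
variable {R : Type u} [CommRing R] (g : Spec (CommRingCat.of R) ⟶ S) {A : Type u} [CommRing A] [Algebra R A]

/-- the ideal of the preimage of a closed subscheme -/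
theorem exists_ideal_fac (z : pt g A ⟶ G) :
    ∃ I : Ideal A, ∀ (B : Type u) [CommRing B] [Algebra R B] (φ : A →ₐ[R] B),
      Fac u (pmap g φ ≫ z) ↔ I ≤ RingHom.ker φ.toRingHom := by
  let π := pullback.snd u.left z.left
  obtain ⟨I, e, he⟩ := IsClosedImmersion.Spec_iff.mp
    (inferInstanceAs (IsClosedImmersion π) : IsClosedImmersion (π : _ ⟶ Spec (CommRingCat.of A)))
  refine ⟨I, fun B _ _ φ => ⟨?_, fun hI => ?_⟩⟩
  · rintro ⟨w, hw⟩
    let l : Spec (CommRingCat.of B) ⟶ pullback u.left z.left :=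
      pullback.lift w.left (Spec.map (CommRingCat.ofHom φ.toRingHom)) (congrArg (fun m : pt g B ⟶ G => m.left) hw)
    obtain ⟨ψ, hψ⟩ := Spec.map_surjective (l ≫ e.hom)
    have h2 : Spec.map (CommRingCat.ofHom φ.toRingHom) = Spec.map (CommRingCat.ofHom (Ideal.Quotient.mk I) ≫ ψ) := by
      rw [Spec.map_comp, hψ, Category.assoc, ← he]
      exact (pullback.lift_snd _ _ _).symm
    have h3 := Spec.map_injective h2
    intro a ha
    have h4 := ConcreteCategory.congr_hom h3 a
    rw [RingHom.mem_ker]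
    refine h4.trans ?_
    change ψ (Ideal.Quotient.mk I a) = 0
    rw [Ideal.Quotient.eq_zero_iff_mem.mpr ha, map_zero]
  · let ψ : Spec (CommRingCat.of B) ⟶ Spec (CommRingCat.of (A ⧸ I)) :=
      Spec.map (CommRingCat.ofHom (Ideal.Quotient.lift I φ.toRingHom fun a ha => hI ha))
    let l : Spec (CommRingCat.of B) ⟶ pullback u.left z.left := ψ ≫ e.inv
    have hl : l ≫ π = Spec.map (CommRingCat.ofHom φ.toRingHom) := by
      change (ψ ≫ e.inv) ≫ pullback.snd u.left z.left = _
      rw [he, Category.assoc, Iso.inv_hom_id_assoc, ← Spec.map_comp, ← CommRingCat.ofHom_comp,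
        Ideal.Quotient.lift_comp_mk]
    have hcomm : (l ≫ pullback.fst u.left z.left) ≫ u.left = (pmap g φ ≫ z).left := by
      rw [Category.assoc, pullback.condition, ← Category.assoc]
      change (l ≫ π) ≫ z.left = _
      rw [hl]
      rfl
    exact ⟨Over.homMk (l ≫ pullback.fst u.left z.left) ((congrArg (_ ≫ ·) (Over.w u)).symm.trans
      ((Category.assoc _ _ _).symm.trans ((congrArg (· ≫ G.hom) hcomm).trans (Over.w _)))),
      Over.OverMorphism.ext hcomm⟩

/-- factorisation through a closed subscheme descends along injective maps of rings -/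
theorem fac_of_injective {B : Type u} [CommRing B] [Algebra R B] (φ : A →ₐ[R] B) (hφ : Function.Injective φ)
    {z : pt g A ⟶ G} (hz : Fac u (pmap g φ ≫ z)) : Fac u z := by
  obtain ⟨I, hI⟩ := exists_ideal_fac u g z
  have h1 := (hI B φ).mp hz
  have h2 := (hI A (AlgHom.id R A)).mpr fun a ha => by
    have h3 : φ a = 0 := h1 ha
    rw [← map_zero φ] at h3
    rw [RingHom.mem_ker]
    exact hφ h3
  rwa [pmap_id, Category.id_comp] at h2

end Ideal

section Field

variable {K : Type u} [Field K] [IsAlgClosed K] {G U : Over (Sk K)} [GrpObj G] [GrpObj U] (D : Red.SplitRed G)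
  (u : U ⟶ G) [IsMonHom u] [IsClosedImmersion u.left] [Smooth U.hom] [ConnectedSpace U.left]

/-- the torus of a split group over an algebraically closed field is closed -/
theorem isClosedImmersion_torus : IsClosedImmersion D.i.left := by
  haveI := isAffineHom_hom D
  haveI : IsAffine G.left := isAffine_of_isAffineHom G.hom
  haveI : IsMonHom D.i := D.maximalTorus.1
  haveI : Mono D.i := D.maximalTorus.2.1
  haveI : Mono D.split.inv.hom.hom := ⟨fun a b hab => by
    have := congrArg (· ≫ D.split.hom.hom.hom) hab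
    simpa only [Category.assoc, split_inv_hom, Category.comp_id] using this⟩
  haveI := smooth_hom D
  haveI : AddGroup.FG D.M := Module.Finite.iff_addGroup_fg.mp D.finiteM
  haveI := D.freeM
  haveI : Mono (D.split.inv.hom.hom ≫ D.i) := inferInstance
  haveI := H21Mono.isClosedImmersion_of_mono_DS (D.split.inv.hom.hom ≫ D.i)
  rw [show D.i = D.split.hom.hom.hom ≫ (D.split.inv.hom.hom ≫ D.i) by rw [reassoc_of% split_hom_inv D]]
  haveI : IsIso D.split.hom.hom.hom.left :=
    ⟨D.split.inv.hom.hom.left, by rw [← Over.comp_left, split_hom_inv, Over.id_left],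
      by rw [← Over.comp_left, split_inv_hom, Over.id_left]⟩
  rw [Over.comp_left]
  infer_instance

/-- **The torus part is trivial over an algebraically closed field.** -/
theorem torusPart_field (hns : Red.HasNoSubtorus K U) (w : U ⟶ D.T)
    (h1 : ∀ y : 𝟙_ (Over (Sk K)) ⟶ U, ∃ y' : 𝟙_ (Over (Sk K)) ⟶ U, y' ≫ u = y ≫ w ≫ D.i)
    (h2 : ∀ (y : 𝟙_ (Over (Sk K)) ⟶ U) (s : 𝟙_ (Over (Sk K)) ⟶ D.T), y ≫ u = s ≫ D.i →
      y ≫ w ≫ D.i = y ≫ u) : w = 1 := by
  classical
  let g : Spec (CommRingCat.of K) ⟶ Sk K := 𝟙 _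
  haveI := isAffineHom_hom D
  haveI := smooth_hom D
  haveI : IsAffine G.left := isAffine_of_isAffineHom G.hom
  haveI : IsMonHom D.i := D.maximalTorus.1
  haveI : Mono D.i := D.maximalTorus.2.1
  haveI : IsAffine U.left := isAffine_of_isAffineHom u.left
  haveI := Fn.isDomain U
  haveI : Mono u := Over.mono_of_mono_left _
  haveI := isClosedImmersion_torus D
  haveI : IsAffine D.T.left := isAffine_of_isAffineHom D.i.left
  let UK : Subgroup (𝟙_ (Over (Sk K)) ⟶ G) :=
    (MonoidHom.mk' (fun y : 𝟙_ (Over (Sk K)) ⟶ U => y ≫ u) fun a b => MonObj.mul_comp a b _).range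
  let TK : Subgroup (𝟙_ (Over (Sk K)) ⟶ G) :=
    (MonoidHom.mk' (fun y : 𝟙_ (Over (Sk K)) ⟶ D.T => y ≫ D.i) fun a b => MonObj.mul_comp a b _).range
  have himg : ∀ y, y ≫ w ≫ D.i ∈ UK ⊓ TK := fun y =>
    ⟨(h1 y).elim fun y' hy' => ⟨y', hy'⟩, ⟨y ≫ w, (Category.assoc y w D.i : (y ≫ w) ≫ D.i = y ≫ w ≫ D.i)⟩⟩
  have hmem : ∀ z ∈ UK ⊓ TK, ∃ y, y ≫ w ≫ D.i = z := by
    rintro z ⟨⟨y, rfl⟩, ⟨s, hs⟩⟩
    exact ⟨y, h2 y s hs.symm⟩
  have hprime : (vanish ((UK ⊓ TK : Subgroup _) : Set (𝟙_ (Over (Sk K)) ⟶ G))).IsPrime := by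
    refine ⟨fun h1 => ?_, fun {a b} hab => ?_⟩
    · have := mem_vanish.mp ((Ideal.eq_top_iff_one _).mp h1) 1 (UK ⊓ TK).one_mem
      rw [map_one] at this
      exact one_ne_zero this
    · have h0 : Fn.pull (w ≫ D.i) a * Fn.pull (w ≫ D.i) b = 0 := Fn.ext_points fun y => by
        change val y _ = val y 0
        rw [map_zero, ← map_mul, val_pull]
        exact mem_vanish.mp hab _ (himg y)
      rcases mul_eq_zero.mp h0 with h0 | h0
      · refine Or.inl (mem_vanish.mpr fun z hz => ?_)
        obtain ⟨y, rfl⟩ := hmem z hz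
        rw [← val_pull, h0, map_zero]
      · refine Or.inr (mem_vanish.mpr fun z hz => ?_)
        obtain ⟨y, rfl⟩ := hmem z hz
        rw [← val_pull, h0, map_zero]
  obtain ⟨H', grp, i', hi'mon, hi'cl, hH'aff, hH'sm, hH'conn, hpts, hlift⟩ :=
    exists_subgroup_scheme_of_prime (UK ⊓ TK) hprime
  letI := grp
  haveI := hi'mon
  haveI := hi'cl
  haveI := hH'sm
  haveI := hH'conn
  haveI := hH'aff
  have hclo : ∀ z ∈ UK ⊓ TK, z ∈ clo (UK ⊓ TK) := fun z hz a ha => mem_vanish.mp ha z hz
  have hclU : ∀ z ∈ clo (UK ⊓ TK), ∀ a, Fn.pull u a = 0 → val z a = 0 := fun z hz a ha =>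
    hz a (mem_vanish.mpr fun v hv => by
      obtain ⟨y, rfl⟩ := hv.1
      change val (y ≫ u) a = 0
      rw [← val_pull, ha, map_zero])
  have hclT : ∀ z ∈ clo (UK ⊓ TK), ∀ a, Fn.pull D.i a = 0 → val z a = 0 := fun z hz a ha =>
    hz a (mem_vanish.mpr fun v hv => by
      obtain ⟨s, rfl⟩ := hv.2
      change val (s ≫ D.i) a = 0
      rw [← val_pull, ha, map_zero])
  have hs : Function.Surjective (Fn.pull u) := IsClosedImmersion.isAffine_surjective_of_isAffine u.left |>.2
  haveI : AlgebraicGeometry.IsReduced H'.left := H13AlgSp.isReduced_of_smooth_mor H'.hom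
  obtain ⟨j, hj⟩ := Fn.exists_hom (X := H') (Y := U) (AlgHom.liftOfSurjective (Fn.pull u) hs (Fn.pull i')
    fun a ha => Fn.ext_points fun y => by
      change val y (Fn.pull i' a) = val y 0
      rw [val_pull, map_zero]
      exact hclU _ (hpts y) a ha)
  have hju : j ≫ u = i' := Fn.hom_ext (by
    rw [Fn.pull_comp, hj]
    exact AlgHom.liftOfSurjective_comp _ _ _ _)
  haveI : IsMonHom j := by
    haveI : IsMonHom (j ≫ u) := by rw [hju]; infer_instance
    exact H21Diag.isMonHom_of_comp_mono j u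
  haveI : Mono j := by
    haveI : Mono (j ≫ u) := by rw [hju]; exact Over.mono_of_mono_left _
    exact mono_of_mono j u
  have hns' : Red.HasNoSubtorus K H' := fun T₁ _ j₁ _ _ hT₁ => hns T₁ (j₁ ≫ j) hT₁
  have h0 := points_eq_one_of_le_torus D i' hns' fun y => by
    obtain ⟨s, hs⟩ := exists_lift_of_vanish D.i (y ≫ i') (hclT _ (hpts y))
    obtain ⟨χ, hχ⟩ := exists_tPt g D (e₀.hom ≫ s)
    refine ⟨χ, ?_⟩
    rw [← hs, hχ]
    simp
  have hone : ∀ y, y ≫ w ≫ D.i = 1 := fun y => by
    haveI : AlgebraicGeometry.IsReduced (T0 K).left := inferInstanceAs (AlgebraicGeometry.IsReduced (Spec (CommRingCat.of K)))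
    haveI : IsAffine (𝟙_ (Over (Sk K))).left := inferInstanceAs (IsAffine (Spec (CommRingCat.of K)))
    haveI : LocallyOfFiniteType (𝟙_ (Over (Sk K))).hom := inferInstanceAs (LocallyOfFiniteType (𝟙 (Sk K)))
    haveI : AlgebraicGeometry.IsReduced (𝟙_ (Over (Sk K))).left :=
      inferInstanceAs (AlgebraicGeometry.IsReduced (Spec (CommRingCat.of K)))
    obtain ⟨q, hq⟩ := hlift (y ≫ w ≫ D.i) fun o => by
      rw [Subsingleton.elim o (𝟙 _), Category.id_comp]
      exact hclo _ (himg y)
    rw [← hq, h0]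
  rw [← cancel_mono D.i, MonObj.one_comp]
  haveI : AlgebraicGeometry.IsReduced U.left := H13AlgSp.isReduced_of_smooth_mor U.hom
  refine Fn.hom_ext (AlgHom.ext fun a => Fn.ext_points fun y => ?_)
  change val y (Fn.pull (w ≫ D.i) a) = val y (Fn.pull 1 a)
  rw [val_pull, val_pull, hone, MonObj.comp_one]

end Field

end Groth.Agent.H21Split.TypeR
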