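import Groth.Agent.H21Split.TypeR.Generate
import Groth.Agent.H21Split.Bru.BorelSub

/-!
A type (R) subgroup with positive roots is parametrised by its torus and root groups.
-/

open CategoryTheory MonoidalCategory CartesianMonoidalCategory MonObj GrpObj AlgebraicGeometry
open CategoryTheory.Limits

universe u

set_option backward.isDefEq.respectTransparency false
set_option linter.style.haveILetI false
set_option linter.unusedSectionVars false
set_option synthInstance.maxHeartbeats 400000
set_option maxHeartbeats 1000000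

noncomputable section

namespace Groth.Agent.H21Split.TypeR

variable {S : Scheme.{u}}

/-- an open and closed piece meeting every connected fibre is everything -/
theorem surjective_of_clopen {Z H : Over S} (c : Z ⟶ H) [IsOpenImmersion c.left] [IsClosedImmersion c.left]
    (hH : RedSub.HasConnectedFibres H) (hc : ∀ s : S, ∃ x ∈ Set.range c.left.base, H.hom.base x = s) :
    Surjective c.left := by
  refine ⟨fun y => ?_⟩
  have hclopen : IsClopen (Set.range c.left.base) :=
    ⟨c.left.isClosedEmbedding.isClosed_range, c.left.isOpenEmbedding.isOpen_range⟩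
  obtain ⟨x, hx, hxs⟩ := hc (H.hom.base y)
  exact (hH (H.hom.base y)).isPreconnected.subset_isClopen hclopen ⟨x, hxs, hx⟩ rfl

variable {G H : Over S} [GrpObj G] [GrpObj H] (D : Red.SplitRed G) {h : H ⟶ G}
  [Smooth H.hom] [IsMonHom h] [IsImmersion h.left] [ConnectedSpace S]
  (t : D.T ⟶ H) (ht : t ≫ h = D.i) (R' : Set D.idx)
  (hR' : ∀ a : D.idx, (∃ v : Red.Ga S ⟶ H, v ≫ h = D.u a) ↔ a ∈ R') (b : D.P.Base)

include ht hR' in
/-- **The parametrisation by an ordered product.** -/
theorem exists_iso_borelMap (hH : RedSub.HasConnectedFibres H) (hsub : R' ⊆ RedSub.posRoots D.P b)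
    {m : ℕ} (e : Fin m → D.idx) (he : RedSub.Enumerates R' e) :
    ∃ φ : D.T ⊗ RedSub.pow (Red.Ga S) m ≅ H, φ.hom ≫ h = RedSub.borelMap D e := by
  haveI := isAffineHom_hom D
  haveI : Mono h := (Over.forget S).mono_of_mono_map (inferInstanceAs (Mono h.left))
  haveI : IsSeparated H.hom := by rw [← Over.w h]; infer_instance
  have hempty : R' ∩ RedSub.negRoots D.P b = ∅ :=
    Set.eq_empty_of_forall_notMem fun a ha => notMem_neg_of_mem_pos b (hsub ha.1) ha.2
  have hen : RedSub.Enumerates (R' ∩ RedSub.negRoots D.P b) (Fin.elim0 : Fin 0 → D.idx) :=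
    ⟨fun k => k.elim0, by rw [hempty, Set.range_eq_empty]⟩
  have hep : RedSub.Enumerates (R' ∩ RedSub.posRoots D.P b) e := by
    rw [Set.inter_eq_left.mpr hsub]; exact he
  obtain ⟨f, hf, hfo⟩ := exists_cell_openImmersion D t ht R' hR' b Fin.elim0 e hen hep
  haveI := hfo
  let φ₀ : D.T ⊗ RedSub.pow (Red.Ga S) m ⟶ H := borelEmb D 0 ≫ f
  have hφ₀ : φ₀ ≫ h = RedSub.borelMap D e := by rw [Category.assoc, hf, borelEmb_comp]
  haveI : IsIso (borelEmb D 0 : D.T ⊗ RedSub.pow (Red.Ga S) m ⟶ _) := ⟨snd _ _, lift_snd _ _, by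
    refine CartesianMonoidalCategory.hom_ext _ _ (toUnit_unique _ _) ?_
    rw [Category.assoc, borelEmb, lift_snd, Category.comp_id, Category.id_comp]⟩
  haveI : IsOpenImmersion φ₀.left := by
    change IsOpenImmersion ((borelEmb D 0).left ≫ f.left)
    haveI : IsIso (borelEmb D 0 : D.T ⊗ RedSub.pow (Red.Ga S) m ⟶ _).left :=
      (Over.forget S).map_isIso (borelEmb D 0 : D.T ⊗ RedSub.pow (Red.Ga S) m ⟶ _)
    infer_instance
  obtain ⟨r, e', he'⟩ := exists_extend D e he.1 fun k => hsub (he.2.subset ⟨k, rfl⟩)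
  obtain ⟨grp, hmon⟩ := exists_borelGrp D b he'
  letI := grp
  haveI := hmon
  haveI hcl := isClosedImmersion_borelMap D b he'
  haveI : Mono (RedSub.borelMap D (Fin.append e e')) := Over.mono_of_mono_left _
  obtain ⟨t', ht'⟩ : ∃ t', t' ≫ RedSub.borelMap D (Fin.append e e') = D.i :=
    exists_lift_of_pts _ _ fun R _ g j => exists_lift_borel D g b he' (Tg_le_Bp D b g (pt_mem_Tg D g j))
  have hroots : ∀ a ∈ R', ∃ v, v ≫ RedSub.borelMap D (Fin.append e e') = D.u a := fun a ha =>
    exists_lift_of_pts _ _ fun R _ g j => exists_lift_borel D g b he' (by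
      rw [← ga_gv g j]
      exact uPt_mem_Bp D b g (hsub ha) _)
  obtain ⟨k, hk⟩ := exists_le D t ht R' hR' b hH t' ht' hroots
  let pad : D.T ⊗ RedSub.pow (Red.Ga S) m ⟶ D.T ⊗ RedSub.pow (Red.Ga S) (m + r) :=
    lift (fst _ _) (tuple (m + r) (Fin.append (fun i => snd _ _ ≫ pr (Red.Ga S) m i) fun _ => 1))
  let ret : D.T ⊗ RedSub.pow (Red.Ga S) (m + r) ⟶ D.T ⊗ RedSub.pow (Red.Ga S) m :=
    lift (fst _ _) (tuple m fun i => snd _ _ ≫ pr (Red.Ga S) (m + r) (Fin.castAdd r i))
  haveI : IsSeparated (D.T ⊗ RedSub.pow (Red.Ga S) (m + r)).hom := by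
    haveI : IsSeparated G.hom := inferInstance
    rw [← Over.w (RedSub.borelMap D (Fin.append e e'))]; infer_instance
  haveI : IsClosedImmersion pad.left := by
    refine H21Rank1.isClosedImmersion_of_section pad ret (CartesianMonoidalCategory.hom_ext _ _ ?_ ?_)
    · simp [pad, ret]
    · refine pow_hom_ext m fun i => ?_
      simp only [pad, ret, Category.assoc, lift_snd_assoc, tuple_pr, Fin.append_left, Category.id_comp]
  have hpad : pad ≫ RedSub.borelMap D (Fin.append e e') = RedSub.borelMap D e := by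
    refine hom_ext_pt fun R _ g z => ?_
    rw [← Category.assoc, RedSub.borelMap, RedSub.borelMap, MonObj.comp_mul, MonObj.comp_mul, ← Category.assoc,
      ← Category.assoc, ← Category.assoc, ← Category.assoc, comp_prodMap_u, comp_prodMap_u]
    have hg : gvs g (((z ≫ pad) ≫ snd _ _)) = Fin.append (gvs g (z ≫ snd _ _)) 0 := by
      funext i
      induction i using Fin.addCases with
      | left i => simp [gvs, pad, tuple_pr]
      | right i => simp [gvs, pad, tuple_pr, ← ga_zero, gv_ga]
    rw [hg, uProd_append, uProd_zero, _root_.mul_one]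
    simp [pad]
  have hφk : φ₀ ≫ k = pad := by
    rw [← cancel_mono (RedSub.borelMap D (Fin.append e e')), Category.assoc, hk, hφ₀, hpad]
  haveI : IsClosedImmersion φ₀.left := by
    haveI : IsClosedImmersion (φ₀.left ≫ k.left) := by
      rw [← Over.comp_left, hφk]; infer_instance
    haveI : IsSeparated (k.left ≫ (D.T ⊗ RedSub.pow (Red.Ga S) (m + r)).hom) := by rw [Over.w]; infer_instance
    haveI : IsSeparated k.left := IsSeparated.of_comp k.left (D.T ⊗ RedSub.pow (Red.Ga S) (m + r)).hom
    exact IsClosedImmersion.of_comp φ₀.left k.left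
  haveI : Surjective φ₀.left := surjective_of_clopen φ₀ hH fun s => by
    let o : 𝟙_ (Over S) ⟶ D.T ⊗ RedSub.pow (Red.Ga S) m := lift 1 (tuple m fun _ => 1)
    refine ⟨(o ≫ φ₀).left.base s, ⟨o.left.base s, rfl⟩, ?_⟩
    exact (Scheme.Hom.comp_apply _ _ _).symm.trans (congrArg (fun q => q s) (Over.w (o ≫ φ₀)))
  haveI : IsIso φ₀.left := (isIso_iff_isOpenImmersion_and_epi_base φ₀.left).mpr
    ⟨inferInstance, (TopCat.epi_iff_surjective _).mpr φ₀.left.surjective⟩
  haveI : IsIso ((Over.forget S).map φ₀) := inferInstanceAs (IsIso φ₀.left)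
  haveI : IsIso φ₀ := isIso_of_reflects_iso φ₀ (Over.forget S)
  exact ⟨asIso φ₀, hφ₀⟩

end Groth.Agent.H21Split.TypeR
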