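import Groth.Agent.H21Split.TypeR.CellLift
import Groth.Agent.H21Split.TypeR.Local

/-!
The cell of a type (R) subgroup is open in it.
-/

open CategoryTheory MonoidalCategory CartesianMonoidalCategory MonObj GrpObj AlgebraicGeometry
open CategoryTheory.Limits

universe u

set_option backward.isDefEq.respectTransparency false
set_option linter.style.haveILetI false
set_option linter.unusedSectionVars false
set_option synthInstance.maxHeartbeats 400000
set_option maxHeartbeats 1000000

noncomputable section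

namespace Groth.Agent.H21Split.TypeR

variable {S : Scheme.{u}} {G : Over S} [GrpObj G] (D : Red.SplitRed G)
variable {R : Type u} [CommRing R] (g : Spec (CommRingCat.of R) ⟶ S) {B : Type u} [CommRing B] [Algebra R B]

theorem uProd_append {n r : ℕ} (e : Fin n → D.idx) (e' : Fin r → D.idx) (x : Fin n → B) (x' : Fin r → B) :
    uProd g D (Fin.append e e') (Fin.append x x') = uProd g D e x * uProd g D e' x' := by
  rw [uProd, uProd, uProd, ← List.prod_append, ← List.ofFn_fin_append]
  congr
  funext k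
  refine Fin.addCases (fun i => ?_) (fun i => ?_) k <;> simp

/-- a list of roots extends to an enumeration -/
theorem exists_extend {Ψ : Set D.idx} {n : ℕ} (e : Fin n → D.idx) (he : Function.Injective e)
    (hsub : ∀ k, e k ∈ Ψ) : ∃ (r : ℕ) (e' : Fin r → D.idx), RedSub.Enumerates Ψ (Fin.append e e') := by
  classical
  haveI : Finite D.idx := Finite.of_fintype _
  obtain ⟨r, ⟨φ⟩⟩ := Finite.exists_equiv_fin {a : D.idx // a ∈ Ψ ∧ a ∉ Set.range e}
  refine ⟨r, fun k => (φ.symm k).1, ?_, ?_⟩
  · intro k l hkl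
    induction k using Fin.addCases with
    | left i =>
      induction l using Fin.addCases with
      | left i' => simp at hkl; rw [he hkl]
      | right i' => simp at hkl; exact absurd ⟨i, hkl⟩ (φ.symm i').2.2
    | right i =>
      induction l using Fin.addCases with
      | left i' => simp at hkl; exact absurd ⟨i', hkl.symm⟩ (φ.symm i).2.2
      | right i' => simp at hkl; rw [φ.symm.injective (Subtype.ext hkl)]
  · refine Set.ext fun a => ⟨?_, fun ha => ?_⟩
    · rintro ⟨k, rfl⟩
      induction k using Fin.addCases with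
      | left i => simpa using hsub i
      | right i => simpa using (φ.symm i).2.1
    · by_cases he' : a ∈ Set.range e
      · obtain ⟨i, rfl⟩ := he'
        exact ⟨Fin.castAdd r i, by simp⟩
      · exact ⟨Fin.natAdd n (φ ⟨a, ha, he'⟩), by simp⟩

/-- coordinates of a partial cell are unique -/
theorem subcell_injective (b : D.P.Base) {n m : ℕ} (en : Fin n → D.idx) (ep : Fin m → D.idx)
    (hn : Function.Injective en) (hp : Function.Injective ep) (hn' : ∀ k, en k ∈ RedSub.negRoots D.P b)
    (hp' : ∀ k, ep k ∈ RedSub.posRoots D.P b) (x x' : Fin n → B) (χ χ' : Multiplicative D.M →* B) (y y' : Fin m → B)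
    (hh : cellPt g D en ep x χ y = cellPt g D en ep x' χ' y') : x = x' ∧ χ = χ' ∧ y = y' := by
  haveI := isAffineHom_hom D
  obtain ⟨r, en', hen⟩ := exists_extend D en hn hn'
  obtain ⟨r', ep', hep⟩ := exists_extend D ep hp hp'
  obtain ⟨hD, -⟩ := isCellData_of_base D b hen hep
  have hpad : ∀ (x : Fin n → B) (χ : Multiplicative D.M →* B) (y : Fin m → B),
      cellPt g D (Fin.append en en') (Fin.append ep ep') (Fin.append x 0) χ (Fin.append y 0) =
        cellPt g D en ep x χ y := fun x χ y => by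
    rw [cellPt, cellPt, uProd_append, uProd_append, uProd_zero, uProd_zero, _root_.mul_one, _root_.mul_one]
  obtain ⟨h1, h2, h3⟩ := cellPt_injective g D hD ((hpad x χ y).trans (hh.trans (hpad x' χ' y').symm))
  exact ⟨funext fun k => by simpa using congrFun h1 (Fin.castAdd r k), h2,
    funext fun k => by simpa using congrFun h3 (Fin.castAdd r' k)⟩

/-- a partial cell is a monomorphism -/
theorem mono_subcell (b : D.P.Base) {n m : ℕ} (en : Fin n → D.idx) (ep : Fin m → D.idx)
    (hn : Function.Injective en) (hp : Function.Injective ep) (hn' : ∀ k, en k ∈ RedSub.negRoots D.P b)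
    (hp' : ∀ k, ep k ∈ RedSub.posRoots D.P b) : Mono (RedSub.cellMap D en ep) := by
  refine ⟨fun z z' h => hom_ext_pt fun R _ g k => ?_⟩
  have h' : (k ≫ z) ≫ RedSub.cellMap D en ep = (k ≫ z') ≫ RedSub.cellMap D en ep := by
    rw [Category.assoc, Category.assoc, h]
  obtain ⟨χ, hχ⟩ := exists_tPt g D ((k ≫ z) ≫ snd _ _ ≫ fst _ _)
  obtain ⟨χ', hχ'⟩ := exists_tPt g D ((k ≫ z') ≫ snd _ _ ≫ fst _ _)
  rw [comp_cellMap g D en ep _ χ hχ, comp_cellMap g D en ep _ χ' hχ'] at h'
  obtain ⟨h1, h2, h3⟩ := subcell_injective D g b en ep hn hp hn' hp' _ _ _ _ _ _ h'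
  subst h2
  refine CartesianMonoidalCategory.hom_ext _ _ (gvs_injective g h1) (CartesianMonoidalCategory.hom_ext _ _ ?_ ?_)
  · simpa [Category.assoc] using (cancel_mono D.i).mp (hχ.symm.trans hχ')
  · simpa [Category.assoc] using gvs_injective g h3

variable {H : Over S} [GrpObj H] {h : H ⟶ G} [IsMonHom h]

theorem exists_prodMap_lift {A : Over S} : ∀ (n : ℕ) (f : Fin n → (A ⟶ G)), (∀ k, ∃ v : A ⟶ H, v ≫ h = f k) →
    ∃ v, v ≫ h = RedSub.prodMap A n f
  | 0, f, _ => ⟨1, MonObj.one_comp h⟩
  | n + 1, f, hf => by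
    obtain ⟨v, hv⟩ := hf 0
    obtain ⟨w, hw⟩ := exists_prodMap_lift n (fun k => f k.succ) fun k => hf k.succ
    refine ⟨(fst A (RedSub.pow A n) ≫ v) * (snd A (RedSub.pow A n) ≫ w), ?_⟩
    rw [MonObj.mul_comp, Category.assoc, Category.assoc, hv, hw]
    rfl

variable [Smooth H.hom] [IsImmersion h.left] [ConnectedSpace S] (t : D.T ⟶ H) (ht : t ≫ h = D.i) (R' : Set D.idx)
  (hR' : ∀ a : D.idx, (∃ v : Red.Ga S ⟶ H, v ≫ h = D.u a) ↔ a ∈ R') (b : D.P.Base)

include ht hR'

/-- **The cell of the subgroup is open in it.** -/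
theorem exists_cell_openImmersion {n m : ℕ} (en : Fin n → D.idx) (ep : Fin m → D.idx)
    (hneg : RedSub.Enumerates (R' ∩ RedSub.negRoots D.P b) en) (hpos : RedSub.Enumerates (R' ∩ RedSub.posRoots D.P b) ep) :
    ∃ f : RedSub.pow (Red.Ga S) n ⊗ (D.T ⊗ RedSub.pow (Red.Ga S) m) ⟶ H,
      f ≫ h = RedSub.cellMap D en ep ∧ IsOpenImmersion f.left := by
  haveI := isAffineHom_hom D
  haveI : Mono h := (Over.forget S).mono_of_mono_map (inferInstanceAs (Mono h.left))
  have hn : ∀ k, en k ∈ R' ∧ en k ∈ RedSub.negRoots D.P b := fun k => hneg.2.subset ⟨k, rfl⟩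
  have hp : ∀ k, ep k ∈ R' ∧ ep k ∈ RedSub.posRoots D.P b := fun k => hpos.2.subset ⟨k, rfl⟩
  obtain ⟨fn, hfn⟩ := exists_prodMap_lift (h := h) n (fun k => D.u (en k)) fun k => (hR' _).mpr (hn k).1
  obtain ⟨fp, hfp⟩ := exists_prodMap_lift (h := h) m (fun k => D.u (ep k)) fun k => (hR' _).mpr (hp k).1
  let f : RedSub.pow (Red.Ga S) n ⊗ (D.T ⊗ RedSub.pow (Red.Ga S) m) ⟶ H :=
    (fst _ _ ≫ fn) * ((snd _ _ ≫ fst _ _ ≫ t) * (snd _ _ ≫ snd _ _ ≫ fp))
  have hf : f ≫ h = RedSub.cellMap D en ep := by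
    simp only [f, MonObj.mul_comp, Category.assoc, hfn, hfp, ht]
    rfl
  refine ⟨f, hf, ?_⟩
  haveI hmono : Mono (RedSub.cellMap D en ep) :=
    mono_subcell D b en ep hneg.1 hpos.1 (fun k => (hn k).2) (fun k => (hp k).2)
  haveI : Mono f := by
    haveI : Mono (f ≫ h) := by rw [hf]; exact hmono
    exact mono_of_mono f h
  haveI : Mono f.left := inferInstance
  have he : Function.Injective (Sum.elim en ep) := hneg.1.sumElim hpos.1 fun k l hkl =>
    notMem_neg_of_mem_pos b (hp l).2 (hkl ▸ (hn k).2)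
  have hrange : Set.range (Sum.elim en ep) = R' := by
    rw [Set.Sum.elim_range, hneg.2, hpos.2, ← Set.inter_union_distrib_left, Set.inter_eq_left]
    exact fun a _ => (mem_pos_or_neg b a).symm
  have hfe : MoreMor.IsFormallyEtaleHom f.left := by
    intro A _ I hI a β hab
    let g : Spec (CommRingCat.of A) ⟶ S := β ≫ H.hom
    let Z : Over S := Over.mk g
    let zH : Z ⟶ H := Over.homMk β rfl
    obtain ⟨v, hv⟩ : ∃ v : Z ⟶ _, v ≫ f = zH := by
      refine exists_lift_of_locally f zH fun x => ?_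
      obtain ⟨c, hc, R₀, iR, g₀, hg, A₀, iA, iAR, iAs, ε, j, hj, iRf, hε, hgf⟩ := exists_chart_local (H := H) g x
      letI := iR
      letI := iA
      letI := iAR
      letI := iRf
      haveI := hg
      haveI := iAs
      haveI := hj
      let Af := Localization.Away c
      let J : Ideal Af := I.map (algebraMap A Af)
      have hJ : J * J = ⊥ := by rw [← Ideal.map_mul, ← pow_two, hI, Ideal.map_bot]
      let φ : pt g₀ Af ⟶ H := Over.homMk (Spec.map (CommRingCat.ofHom (algebraMap A Af)) ≫ β) (by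
        change (_ ≫ β) ≫ H.hom = _
        rw [Category.assoc]
        exact hgf)
      let π : A ⧸ I →+* Af ⧸ J := Ideal.quotientMap J (algebraMap A Af) Ideal.le_comap_map
      have hab' : Spec.map (CommRingCat.ofHom (Ideal.Quotient.mk J)) ≫ φ.left =
          (Spec.map (CommRingCat.ofHom π) ≫ a) ≫ f.left := by
        change Spec.map _ ≫ Spec.map _ ≫ β = _
        rw [Category.assoc, ← hab, ← Category.assoc, ← Spec.map_comp, ← Category.assoc, ← Spec.map_comp]
        rfl
      let zb : pt g₀ (Af ⧸ J) ⟶ RedSub.pow (Red.Ga S) n ⊗ (D.T ⊗ RedSub.pow (Red.Ga S) m) :=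
        Over.homMk (Spec.map (CommRingCat.ofHom π) ≫ a) (by
          rw [← Over.w f, ← Category.assoc, ← hab']
          refine (Category.assoc _ _ _).trans ?_
          rw [Over.w φ]
          exact Over.w (pmap g₀ (Ideal.Quotient.mkₐ R₀ J)))
      have hzb : pmap g₀ (Ideal.Quotient.mkₐ R₀ J) ≫ φ ≫ h = zb ≫ RedSub.cellMap D en ep := by
        rw [← hf, ← Category.assoc, ← Category.assoc]
        congr 1
        ext : 1
        exact hab'
      obtain ⟨χb, hχb⟩ := exists_tPt g₀ D (zb ≫ snd _ _ ≫ fst _ _)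
      obtain ⟨χ, hχ⟩ := exists_char_lift J hJ χb
      choose x' hx using fun k => Ideal.Quotient.mk_surjective (gvs g₀ (zb ≫ fst _ _) k)
      choose y' hy using fun k => Ideal.Quotient.mk_surjective (gvs g₀ (zb ≫ snd _ _ ≫ snd _ _) k)
      have h0 : pmap g₀ (Ideal.Quotient.mkₐ R₀ J) ≫ φ ≫ h =
          pmap g₀ (Ideal.Quotient.mkₐ R₀ J) ≫ cellPt g₀ D en ep x' χ y' := by
        rw [hzb, comp_cellMap g₀ D en ep zb χb hχb, pmap_cellPt,
          show (fun k => Ideal.Quotient.mkₐ R₀ J (x' k)) = gvs g₀ (zb ≫ fst _ _) from funext hx,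
          show (fun k => Ideal.Quotient.mkₐ R₀ J (y' k)) = gvs g₀ (zb ≫ snd _ _ ≫ snd _ _) from funext hy,
          show (Ideal.Quotient.mkₐ R₀ J).toRingHom.toMonoidHom.comp χ = χb from hχ]
      obtain ⟨x₁, χ₁, y₁, hφ⟩ := exists_subcell_lift g₀ ε j hε t ht R' hR' en ep he hrange
        (fun B _ _ => subcell_injective D g₀ b en ep hneg.1 hpos.1 (fun k => (hn k).2) (fun k => (hp k).2))
        J hJ ⟨φ, rfl⟩ h0
      let z : pt g₀ Af ⟶ RedSub.pow (Red.Ga S) n ⊗ (D.T ⊗ RedSub.pow (Red.Ga S) m) :=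
        lift (gas g₀ x₁) (lift (ds g₀ χ₁ ≫ D.split.inv.hom.hom) (gas g₀ y₁))
      have hz : z ≫ f = φ := by
        rw [← cancel_mono h, Category.assoc, hf, hφ,
          comp_cellMap g₀ D en ep z χ₁ (by simp only [z, lift_snd_assoc, lift_fst, tPt, Category.assoc]),
          lift_fst, lift_snd_assoc, lift_snd, gvs_gas, gvs_gas]
      let k := Spec.map (CommRingCat.ofHom (algebraMap A Af))
      haveI : IsOpenImmersion k := IsOpenImmersion.of_isLocalization (S := Af) c
      refine ⟨k.opensRange, ?_, k.isoOpensRange.inv ≫ z.left, ?_⟩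
      · change x ∈ Set.range k.base
        exact (PrimeSpectrum.localization_away_comap_range Af c).symm.subset hc
      · have e := congrArg (fun w => Over.Hom.left w) hz
        simp only [Over.comp_left] at e
        rw [Category.assoc, e]
        change k.isoOpensRange.inv ≫ k ≫ β = _
        rw [← Category.assoc, Scheme.Hom.isoOpensRange_inv_comp]
        rfl
    refine ⟨v.left, ⟨?_, congrArg (fun w => Over.Hom.left w) hv⟩,
      fun l hl => (cancel_mono f.left).mp (hl.2.trans (congrArg (fun w => Over.Hom.left w) hv).symm)⟩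
    rw [← cancel_mono f.left, Category.assoc]
    exact (congrArg (_ ≫ ·) (congrArg (fun w => Over.Hom.left w) hv)).trans hab
  haveI := smooth_cell D (n := n) (m := m)
  haveI : IsSeparated H.hom := by rw [← Over.w h]; infer_instance
  haveI : LocallyOfFinitePresentation (f.left ≫ H.hom) := by rw [Over.w]; infer_instance
  haveI := H12AlgSp.lfp_of_comp f.left H.hom
  haveI : Etale f.left := (S1489.result _).mpr ⟨inferInstance, hfe⟩
  exact IsOpenImmersion.of_flat_of_mono _

end Groth.Agent.H21Split.TypeR
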