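import Groth.Agent.H21Split.TypeR.Inter
import Groth.Agent.H21Split.CellMap
import Mathlib.LinearAlgebra.Matrix.NonsingularInverse
import Mathlib.LinearAlgebra.Matrix.ToLinearEquiv

/-!
Infinitesimal lifting for the cell of a subgroup.
-/

open CategoryTheory MonoidalCategory CartesianMonoidalCategory MonObj GrpObj AlgebraicGeometry
open CategoryTheory.Limits
open TrivSqZeroExt (inl inr fst snd)

universe u

set_option backward.isDefEq.respectTransparency false
set_option linter.style.haveILetI false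
set_option linter.unusedSectionVars false
set_option synthInstance.maxHeartbeats 400000
set_option maxHeartbeats 1000000

noncomputable section

namespace Groth.Agent.H21Split.TypeR

variable {S : Scheme.{u}} {G H : Over S} [GrpObj G] [GrpObj H] {h : H ⟶ G} [IsAffineHom G.hom] {D : Red.SplitRed G}

section Alg

variable {R : Type u} [CommRing R] {B : Type u} [CommRing B] [Algebra R B] {K : Type}

/-- a kernel, as an ideal of a commutative ring -/
def kerIdeal {C B' : Type u} [CommRing C] [CommRing B'] (f : C →+* B') : Ideal C := RingHom.ker f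

/-- evaluation of infinitesimal parameters -/
def parEval [Fintype K] {B' : Type u} [CommRing B'] [Algebra R B'] (q : B →ₐ[R] B') (d : K → B')
    (hd : ∀ k l, d k * d l = 0) : TrivSqZeroExt B (K → B) →ₐ[R] B' where
  toFun z := q (fst z) + ∑ k, q (snd z k) * d k
  map_one' := by simp
  map_zero' := by simp
  map_add' z z' := by simp [add_mul, Finset.sum_add_distrib]; ring
  map_mul' z z' := by
    have h0 : (∑ k, q (snd z k) * d k) * (∑ k, q (snd z' k) * d k) = 0 := by
      rw [Finset.sum_mul_sum]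
      refine Finset.sum_eq_zero fun k _ => Finset.sum_eq_zero fun l _ => ?_
      rw [_root_.mul_mul_mul_comm, hd, mul_zero]
    have e : ∑ k, q (snd (z * z') k) * d k =
        q (fst z) * (∑ k, q (snd z' k) * d k) + (∑ k, q (snd z k) * d k) * q (fst z') := by
      rw [Finset.mul_sum, Finset.sum_mul, ← Finset.sum_add_distrib]
      refine Finset.sum_congr rfl fun k _ => ?_
      simp only [TrivSqZeroExt.snd_mul, Pi.add_apply, Pi.smul_apply, op_smul_eq_smul, smul_eq_mul, map_add, map_mul]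
      ring
    rw [TrivSqZeroExt.fst_mul, map_mul, e]
    linear_combination -h0
  commutes' r := by simp [TrivSqZeroExt.algebraMap_eq_inl']

theorem parEval_apply [Fintype K] {B' : Type u} [CommRing B'] [Algebra R B'] (q : B →ₐ[R] B') (d : K → B')
    (hd : ∀ k l, d k * d l = 0) (z : TrivSqZeroExt B (K → B)) :
    parEval q d hd z = q (fst z) + ∑ k, q (snd z k) * d k := rfl

theorem sum_inr {Ix : Type*} (s : Finset Ix) {κ : Type u} [CommRing κ] (f : Ix → κ) :
    ∑ x ∈ s, (inr (f x) : DualNumber κ) = inr (∑ x ∈ s, f x) :=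
  (map_sum (TrivSqZeroExt.inrHom κ κ) f s).symm

/-- a first order exponential -/
def expPar {M : Type} [AddCommGroup M] (Φ : M →+ (K → B)) : Multiplicative M →* TrivSqZeroExt B (K → B) where
  toFun m := 1 + inr (Φ (Multiplicative.toAdd m))
  map_one' := by simp
  map_mul' m m' := by simp [add_mul, mul_add, TrivSqZeroExt.inr_mul_inr, add_assoc, add_comm, add_left_comm]

theorem fst_expPar {M : Type} [AddCommGroup M] (Φ : M →+ (K → B)) (m : Multiplicative M) :
    fst (expPar Φ m) = 1 := by simp [expPar]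

theorem snd_expPar {M : Type} [AddCommGroup M] (Φ : M →+ (K → B)) (m : Multiplicative M) :
    snd (expPar Φ m) = Φ (Multiplicative.toAdd m) := by simp [expPar]

end Alg

variable {R : Type u} [CommRing R] (g : Spec (CommRingCat.of R) ⟶ S) [IsOpenImmersion g]
variable {A : Type u} [CommRing A] [Algebra R A] [Algebra.Smooth R A] (ε : A →ₐ[R] R) (j : pt g A ⟶ H)
  [IsOpenImmersion j.left] (hε : pmap g ε ≫ j = (1 : pt g R ⟶ H))
variable [Smooth H.hom] [IsMonHom h] [Mono h] [IsImmersion h.left] [ConnectedSpace S] (t : D.T ⟶ H) (ht : t ≫ h = D.i)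
  (R' : Set D.idx) (hR' : ∀ a : D.idx, (∃ v : Red.Ga S ⟶ H, v ≫ h = D.u a) ↔ a ∈ R')

include ht hR'

theorem fac_uPt_of_mem {B : Type u} [CommRing B] [Algebra R B] {a : D.idx} (ha : a ∈ R') (b : B) :
    Fac h (uPt g D a b) := by
  obtain ⟨v, hv⟩ := (hR' a).mpr ha
  exact ⟨ga g b ≫ v, by rw [Category.assoc, hv]; rfl⟩

theorem fac_cellPt {n m : ℕ} (en : Fin n → D.idx) (ep : Fin m → D.idx) (hen : ∀ k, en k ∈ R') (hep : ∀ k, ep k ∈ R')
    {B : Type u} [CommRing B] [Algebra R B] (x : Fin n → B) (χ : Multiplicative D.M →* B) (y : Fin m → B) :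
    Fac h (cellPt g D en ep x χ y) := by
  have h1 : ∀ {l : ℕ} (e : Fin l → D.idx), (∀ k, e k ∈ R') → ∀ z : Fin l → B, Fac h (uProd g D e z) := by
    intro l e he z
    rw [uProd, List.ofFn_eq_map]
    exact Fac.list_prod _ (fun k => fac_uPt_of_mem g t ht R' hR' (he k) _) _
  exact (h1 en hen x).mul ((fac_tPt g D t ht χ).mul (h1 ep hep y))

include hε

/-- **Infinitesimal lifting to the cell of the subgroup.** -/
theorem exists_subcell_lift {n m : ℕ} (en : Fin n → D.idx) (ep : Fin m → D.idx)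
    (he : Function.Injective (Sum.elim en ep)) (hrange : Set.range (Sum.elim en ep) = R')
    (hinj : ∀ (B : Type u) [CommRing B] [Algebra R B] (x x' : Fin n → B) (χ χ' : Multiplicative D.M →* B)
      (y y' : Fin m → B), cellPt g D en ep x χ y = cellPt g D en ep x' χ' y' → x = x' ∧ χ = χ' ∧ y = y')
    {B : Type u} [CommRing B] [Algebra R B] (I : Ideal B) (hI : I * I = ⊥) {φ : pt g B ⟶ G} (hφ : Fac h φ)
    {x : Fin n → B} {χ : Multiplicative D.M →* B} {y : Fin m → B}
    (hq : pmap g (Ideal.Quotient.mkₐ R I) ≫ φ = pmap g (Ideal.Quotient.mkₐ R I) ≫ cellPt g D en ep x χ y) :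
    ∃ (x' : Fin n → B) (χ' : Multiplicative D.M →* B) (y' : Fin m → B), φ = cellPt g D en ep x' χ' y' := by
  classical
  have hen : ∀ k, en k ∈ R' := fun k => hrange ▸ ⟨Sum.inl k, rfl⟩
  have hep : ∀ k, ep k ∈ R' := fun k => hrange ▸ ⟨Sum.inr k, rfl⟩
  obtain ⟨e, he', hspan⟩ := exists_dual_split g D
  let row : ((Fin n ⊕ Fin m) ⊕ Fin (rk D)) → D.idx ⊕ Fin (rk D) := Sum.map (Sum.elim en ep) id
  have hrow : Function.Injective row := he.sumMap Function.injective_id
  let cst : B →ₐ[R] (TrivSqZeroExt B (((Fin n ⊕ Fin m) ⊕ Fin (rk D)) → B)) := IsScalarTower.toAlgHom R B (TrivSqZeroExt B (((Fin n ⊕ Fin m) ⊕ Fin (rk D)) → B))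
  let Φ : D.M →+ (((Fin n ⊕ Fin m) ⊕ Fin (rk D)) → B) :=
    { toFun := fun m₁ => Sum.elim 0 fun i => ((bM D).repr m₁ i : B)
      map_zero' := by funext k; rcases k with k | k <;> simp
      map_add' := fun m₁ m₂ => by funext k; rcases k with k | k <;> simp }
  let xC : Fin n → (TrivSqZeroExt B (((Fin n ⊕ Fin m) ⊕ Fin (rk D)) → B)) := fun k => inl (x k) + inr (Pi.single (Sum.inl (Sum.inl k)) (1 : B))
  let yC : Fin m → (TrivSqZeroExt B (((Fin n ⊕ Fin m) ⊕ Fin (rk D)) → B)) := fun k => inl (y k) + inr (Pi.single (Sum.inl (Sum.inr k)) (1 : B))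
  let χC : Multiplicative D.M →* (TrivSqZeroExt B (((Fin n ⊕ Fin m) ⊕ Fin (rk D)) → B)) := (cst.toRingHom.toMonoidHom.comp χ) * expPar Φ
  let Z₀ := cellPt g D en ep x χ y
  let W := (pmap g cst ≫ Z₀)⁻¹ * cellPt g D en ep xC χC yC
  have hWfac : Fac h W :=
    ((fac_cellPt g t ht R' hR' en ep hen hep _ _ _).precomp (pmap g cst)).inv.mul
      (fac_cellPt g t ht R' hR' en ep hen hep _ _ _)
  let J := kerIdeal (TrivSqZeroExt.fstHom B B (((Fin n ⊕ Fin m) ⊕ Fin (rk D)) → B)).toRingHom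
  have hJmem : ∀ z : (TrivSqZeroExt B (((Fin n ⊕ Fin m) ⊕ Fin (rk D)) → B)), z ∈ J ↔ fst z = 0 := fun z => Iff.rfl
  have hJ : J * J = ⊥ := by
    refine le_bot_iff.mp (Ideal.mul_le.mpr fun a ha b hb => ?_)
    rw [hJmem] at ha hb
    exact Ideal.mem_bot.mpr (TrivSqZeroExt.ext (by simp [ha]) (by simp [ha, hb]))
  have hW1 : pmap g (Ideal.Quotient.mkₐ R J) ≫ W = 1 := by
    have hx : ∀ (b : B) (v : ((Fin n ⊕ Fin m) ⊕ Fin (rk D)) → B), Ideal.Quotient.mkₐ R J (inl b + inr v) = Ideal.Quotient.mkₐ R J (cst b) := by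
      intro b v
      rw [Ideal.Quotient.mkₐ_eq_mk, Ideal.Quotient.eq, hJmem]
      simp [cst, TrivSqZeroExt.algebraMap_eq_inl]
    rw [MonObj.comp_mul, GrpObj.comp_inv, inv_mul_eq_one, pmap_cellPt, pmap_cellPt, pmap_cellPt]
    congr 1
    · exact funext fun k => (hx (x k) _).symm
    · refine MonoidHom.ext fun m₁ => ?_
      change Ideal.Quotient.mkₐ R J (cst (χ m₁)) = Ideal.Quotient.mkₐ R J (cst (χ m₁) * expPar Φ m₁)
      rw [Ideal.Quotient.mkₐ_eq_mk, Ideal.Quotient.eq, hJmem]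
      simp [cst, fst_expPar]
    · exact funext fun k => (hx (y k) _).symm
  obtain ⟨φW, hφW, hφWfac, hdW⟩ := exists_lie_of_congr g ε j hε J hJ hWfac hW1
  have hWspan : ∀ z, dev g W z = ∑ i, algebraMap R (TrivSqZeroExt B (((Fin n ⊕ Fin m) ⊕ Fin (rk D)) → B)) (vec g D i z) * dev g W (e i) := fun z => by
    rw [← hdW]; exact hspan (TrivSqZeroExt B (((Fin n ⊕ Fin m) ⊕ Fin (rk D)) → B)) _ hφW.isDer z
  have hcoef : ∀ {B₀ : Type u} [CommRing B₀] [Algebra R B₀] {φ₀ : pt g (DualNumber B₀) ⟶ G}, IsLie g φ₀ →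
      Fac h φ₀ → ∀ a, a ∉ R' → lieDev g φ₀ (e (Sum.inl a)) = 0 := by
    intro B₀ _ _ φ₀ hl hf a ha
    obtain ⟨⟨c, k⟩, hck, -⟩ := existsUnique_lieComb g D hl
    simp only at hck
    subst hck
    rw [lieDev_lieComb]
    simpa [he', apply_ite (algebraMap R B₀)] using (fac_lieComb_iff t ht R' hR' g ε j hε c k).mp hf a ha
  have hrows : ∀ i, i ∉ Set.range row → ∃ a, a ∉ R' ∧ i = Sum.inl a := by
    intro i hi
    rcases i with a | i
    · refine ⟨a, fun ha => hi ?_, rfl⟩
      obtain ⟨k, hk⟩ := hrange.symm ▸ ha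
      exact ⟨Sum.inl k, by simp [row, hk]⟩
    · exact absurd ⟨Sum.inr i, rfl⟩ hi
  have hout : ∀ i, i ∉ Set.range row → dev g W (e i) = 0 := fun i hi => by
    obtain ⟨a, ha, rfl⟩ := hrows i hi
    rw [← hdW]; exact hcoef hφW hφWfac a ha
  have hfstW : ∀ z, fst (dev g W z) = 0 := fun z => by
    have h1 := dev_pmap g (Ideal.Quotient.mkₐ R J) W z
    rw [hW1, dev_one, LinearMap.zero_apply, Ideal.Quotient.mkₐ_eq_mk] at h1
    exact (hJmem _).mp (Ideal.Quotient.eq_zero_iff_mem.mp h1.symm)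
  let L : Matrix ((Fin n ⊕ Fin m) ⊕ Fin (rk D)) ((Fin n ⊕ Fin m) ⊕ Fin (rk D)) B := Matrix.of fun k l => snd (dev g W (e (row k))) l
  have hFW : ∀ {B' : Type u} [CommRing B'] [Algebra R B'] (q : B →ₐ[R] B') (d : ((Fin n ⊕ Fin m) ⊕ Fin (rk D)) → B') (hd : ∀ k l, d k * d l = 0)
      (z : Crd g G), dev g (pmap g (parEval q d hd) ≫ W) z =
        ∑ i, algebraMap R B' (vec g D i z) * parEval q d hd (dev g W (e i)) := fun q d hd z => by
    rw [dev_pmap, hWspan, map_sum]
    simp only [map_mul, AlgHom.commutes]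
  have hFrow : ∀ {B' : Type u} [CommRing B'] [Algebra R B'] (q : B →ₐ[R] B') (d : ((Fin n ⊕ Fin m) ⊕ Fin (rk D)) → B') (hd : ∀ k l, d k * d l = 0)
      (k : ((Fin n ⊕ Fin m) ⊕ Fin (rk D))), parEval q d hd (dev g W (e (row k))) = ∑ l, q (L k l) * d l := fun q d hd k => by
    rw [parEval_apply, hfstW, map_zero, zero_add]
    rfl
  have hdet : IsUnit L.det := by
    by_contra hnu
    obtain ⟨p, hp, hdp⟩ := exists_max_ideal_of_mem_nonunits hnu
    letI := Ideal.Quotient.field p
    let κ := B ⧸ p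
    let q : B →ₐ[R] κ := Ideal.Quotient.mkₐ R p
    have hd0 : (L.map q).det = 0 := by
      change (q.toRingHom.mapMatrix L).det = 0
      rw [← RingHom.map_det]
      exact Ideal.Quotient.eq_zero_iff_mem.mpr hdp
    obtain ⟨v, hv0, hv⟩ := Matrix.exists_mulVec_eq_zero_iff.mpr hd0
    let q' : B →ₐ[R] DualNumber κ := (IsScalarTower.toAlgHom R κ (DualNumber κ)).comp q
    let d : ((Fin n ⊕ Fin m) ⊕ Fin (rk D)) → DualNumber κ := fun k => inr (v k)
    have hd : ∀ k l, d k * d l = 0 := fun k l => TrivSqZeroExt.inr_mul_inr _ _ _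
    let F := parEval q' d hd
    have hone : pmap g F ≫ W = 1 := by
      refine dev_injective g (LinearMap.ext fun z => ?_)
      rw [dev_one, LinearMap.zero_apply, hFW]
      refine Finset.sum_eq_zero fun i _ => ?_
      by_cases hi : i ∈ Set.range row
      · obtain ⟨k, rfl⟩ := hi
        rw [hFrow, show (∑ l, q' (L k l) * d l) = (inr ((L.map q).mulVec v k) : DualNumber κ) by
          rw [Matrix.mulVec, dotProduct, ← sum_inr]
          refine Finset.sum_congr rfl fun l _ => ?_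
          ext <;> simp [q', d, TrivSqZeroExt.algebraMap_eq_inl'],
          hv, Pi.zero_apply, TrivSqZeroExt.inr_zero, mul_zero]
      · rw [hout i hi, map_zero, mul_zero]
    rw [MonObj.comp_mul, GrpObj.comp_inv, inv_mul_eq_one, ← Category.assoc, pmap_comp, pmap_cellPt, pmap_cellPt] at hone
    obtain ⟨hx, hχ, hy⟩ := hinj _ _ _ _ _ _ _ hone
    refine hv0 (funext fun k => ?_)
    have hcst : ∀ b : B, F (cst b) = inl (q b) := fun b => by
      simp [F, parEval_apply, cst, q', TrivSqZeroExt.algebraMap_eq_inl, TrivSqZeroExt.algebraMap_eq_inl']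
    rcases k with (k | k) | i
    · have h1 := congrArg TrivSqZeroExt.snd (congrFun hx k)
      simpa [hcst, F, parEval_apply, xC, d, q', Pi.single_apply, TrivSqZeroExt.snd_sum,
        TrivSqZeroExt.algebraMap_eq_inl'] using h1.symm
    · have h1 := congrArg TrivSqZeroExt.snd (congrFun hy k)
      simpa [hcst, F, parEval_apply, yC, d, q', Pi.single_apply, TrivSqZeroExt.snd_sum,
        TrivSqZeroExt.algebraMap_eq_inl'] using h1.symm
    · let μ₀ := Multiplicative.ofAdd (bM D i)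
      have hu : IsUnit (q (χ μ₀)) := ((Group.isUnit μ₀).map χ).map q
      have hE : F (expPar Φ μ₀) = 1 + inr (v (Sum.inr i)) := by
        simp only [F, parEval_apply, fst_expPar, snd_expPar, map_one]
        congr 1
        rw [Finset.sum_eq_single (Sum.inr i) (fun l _ hl => ?_) (by simp)]
        · simp [Φ, μ₀, d]
        · rcases l with l | l
          · simp [Φ]
          · have hli : l ≠ i := fun hh => hl (by rw [hh])
            simp [Φ, μ₀, Finsupp.single_eq_of_ne hli]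
      have h1 : snd (F (cst (χ μ₀))) = snd (F (cst (χ μ₀) * expPar Φ μ₀)) :=
        congrArg TrivSqZeroExt.snd (DFunLike.congr_fun hχ μ₀)
      rw [map_mul, hcst, hE, DualNumber.snd_mul] at h1
      simp at h1
      exact h1.resolve_left hu.ne_zero
  let ψ := Z₀⁻¹ * φ
  have hψfac : Fac h ψ := (fac_cellPt g t ht R' hR' en ep hen hep _ _ _).inv.mul hφ
  have hψ1 : pmap g (Ideal.Quotient.mkₐ R I) ≫ ψ = 1 := by
    rw [MonObj.comp_mul, GrpObj.comp_inv, hq, inv_mul_cancel]
  obtain ⟨φψ, hφψ, hφψfac, hdψ⟩ := exists_lie_of_congr g ε j hε I hI hψfac hψ1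
  let τ : ((Fin n ⊕ Fin m) ⊕ Fin (rk D)) → B := fun k => dev g ψ (e (row k))
  have hτ : ∀ k, τ k ∈ I := fun k => by
    have h1 := dev_pmap g (Ideal.Quotient.mkₐ R I) ψ (e (row k))
    rw [hψ1, dev_one, LinearMap.zero_apply, Ideal.Quotient.mkₐ_eq_mk] at h1
    exact Ideal.Quotient.eq_zero_iff_mem.mp h1.symm
  let d : ((Fin n ⊕ Fin m) ⊕ Fin (rk D)) → B := L⁻¹.mulVec τ
  have hdI : ∀ k, d k ∈ I := fun k => by
    change (∑ l, L⁻¹ k l * τ l) ∈ I
    exact I.sum_mem fun l _ => I.mul_mem_left _ (hτ l)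
  have hd : ∀ k l, d k * d l = 0 := fun k l => by
    rw [← Ideal.mem_bot, ← hI]; exact Ideal.mul_mem_mul (hdI k) (hdI l)
  have hLd : L.mulVec d = τ := by
    rw [Matrix.mulVec_mulVec, Matrix.mul_nonsing_inv _ hdet, Matrix.one_mulVec]
  let F := parEval (AlgHom.id R B) d hd
  have hψeq : pmap g F ≫ W = ψ := by
    refine dev_injective g (LinearMap.ext fun z => ?_)
    rw [hFW, ← hdψ, hspan B _ hφψ.isDer z]
    refine Finset.sum_congr rfl fun i _ => ?_
    congr 1
    by_cases hi : i ∈ Set.range row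
    · obtain ⟨k, rfl⟩ := hi
      rw [hFrow, hdψ]
      exact congrFun hLd k
    · obtain ⟨a, ha, rfl⟩ := hrows i hi
      rw [hout _ hi, map_zero, hcoef hφψ hφψfac a ha]
  refine ⟨fun k => F (xC k), F.toRingHom.toMonoidHom.comp χC, fun k => F (yC k), ?_⟩
  rw [← pmap_cellPt, show cellPt g D en ep xC χC yC = (pmap g cst ≫ Z₀) * W by simp only [W, mul_inv_cancel_left],
    MonObj.comp_mul, hψeq, ← Category.assoc, pmap_comp,
    show F.comp cst = AlgHom.id R B from AlgHom.ext fun b => by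
      simp [F, parEval_apply, cst, TrivSqZeroExt.algebraMap_eq_inl], pmap_id, Category.id_comp]
  simp only [ψ, mul_inv_cancel_left]

end Groth.Agent.H21Split.TypeR
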