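import Groth.Agent.H21Split.Lie
import Mathlib.RingTheory.Nilpotent.Basic
import Mathlib.RingTheory.Spectrum.Prime.RingHom

/-!
A smooth affine chart along the unit section of a smooth group.
-/

open CategoryTheory MonoidalCategory CartesianMonoidalCategory MonObj GrpObj AlgebraicGeometry
open CategoryTheory.Limits

universe u

set_option backward.isDefEq.respectTransparency false
set_option linter.style.haveILetI false
set_option linter.unusedSectionVars false
set_option synthInstance.maxHeartbeats 400000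

noncomputable section

namespace Groth.Agent.H21Split.TypeR

variable {S : Scheme.{u}}

/-- an affine chart along the unit section, near a point of the base -/
theorem exists_chart {H : Over S} [GrpObj H] [Smooth H.hom] (s : S) :
    ∃ (R : Type u) (_ : CommRing R) (g : Spec (CommRingCat.of R) ⟶ S) (_ : IsOpenImmersion g)
      (_ : s ∈ Set.range g.base) (A : Type u) (_ : CommRing A) (_ : Algebra R A) (_ : Algebra.Smooth R A)
      (ε : A →ₐ[R] R) (j : pt g A ⟶ H), IsOpenImmersion j.left ∧ pmap g ε ≫ j = (1 : pt g R ⟶ H) := by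
  let e : S ⟶ H.left := ((1 : 𝟙_ (Over S) ⟶ H)).left
  have he : e ≫ H.hom = 𝟙 S := Over.w (1 : 𝟙_ (Over S) ⟶ H)
  have hes : H.hom.base (e.base s) = s := by
    rw [← Scheme.Hom.comp_apply, he]; rfl
  obtain ⟨U, hU, hsU, -⟩ := exists_isAffineOpen_mem_and_subset (U := ⊤) (x := s) (Set.mem_univ _)
  obtain ⟨V, hV, heV, hVU⟩ := exists_isAffineOpen_mem_and_subset (U := H.hom ⁻¹ᵁ U) (x := e.base s)
    (show H.hom.base (e.base s) ∈ U by rw [hes]; exact hsU)
  obtain ⟨f, hfle, hsf⟩ := hU.exists_basicOpen_le (V := e ⁻¹ᵁ V) ⟨s, heV⟩ hsU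
  let W : S.Opens := S.basicOpen f
  have hW : IsAffineOpen W := hU.basicOpen f
  let V' : H.left.Opens := V ⊓ H.hom ⁻¹ᵁ W
  have hV' : IsAffineOpen V' := by
    have hle : V ≤ H.hom ⁻¹ᵁ U := fun x hx => hVU hx
    have : V' = H.left.basicOpen ((H.hom.appLE U V hle).hom f) := by
      rw [Scheme.Hom.appLE, CommRingCat.comp_apply, Scheme.basicOpen_res, ← Scheme.preimage_basicOpen]
    rw [this]
    exact hV.basicOpen _
  have hleV : V' ≤ H.hom ⁻¹ᵁ W := inf_le_right
  let φ : Γ(S, W) ⟶ Γ(H.left, V') := H.hom.appLE W V' hleV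
  letI : Algebra Γ(S, W) Γ(H.left, V') := φ.hom.toAlgebra
  have hcomm : Spec.map φ ≫ hW.fromSpec = hV'.fromSpec ≫ H.hom :=
    hW.SpecMap_appLE_fromSpec H.hom hV' hleV
  let g := hW.fromSpec
  let j : pt g Γ(H.left, V') ⟶ H := Over.homMk hV'.fromSpec (by
    change _ = Spec.map (CommRingCat.ofHom (algebraMap Γ(S, W) Γ(H.left, V'))) ≫ g
    rw [← hcomm]; rfl)
  have hsmooth : Algebra.Smooth Γ(S, W) Γ(H.left, V') := by
    have h : Smooth (Spec.map φ) := by
      haveI : Smooth (Spec.map φ ≫ g) := by rw [hcomm]; infer_instance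
      exact MorphismProperty.of_postcomp (W := @Smooth) (W' := @IsOpenImmersion) _ g inferInstance inferInstance
    exact (HasRingHomProperty.Spec_iff (P := @Smooth)).mp h
  have hrange : Set.range ((1 : pt g Γ(S, W) ⟶ H)).left.base ⊆ Set.range hV'.fromSpec.base := by
    rintro _ ⟨p, rfl⟩
    rw [hV'.range_fromSpec]
    have h1 : ((1 : pt g Γ(S, W) ⟶ H)).left = (Spec.map (CommRingCat.ofHom (algebraMap Γ(S, W) Γ(S, W))) ≫ g) ≫ e := by
      have : (1 : pt g Γ(S, W) ⟶ H) = toUnit _ ≫ (1 : 𝟙_ (Over S) ⟶ H) := (MonObj.comp_one _).symm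
      rw [this, Over.comp_left]
      rfl
    have hpW : (Spec.map (CommRingCat.ofHom (algebraMap Γ(S, W) Γ(S, W))) ≫ g).base p ∈ W := by
      rw [← SetLike.mem_coe, ← hW.range_fromSpec]
      exact ⟨_, rfl⟩
    rw [h1, Scheme.Hom.comp_apply]
    set w := (Spec.map (CommRingCat.ofHom (algebraMap Γ(S, W) Γ(S, W))) ≫ g).base p
    refine ⟨hfle hpW, ?_⟩
    change H.hom.base (e.base w) ∈ W
    rw [← Scheme.Hom.comp_apply, he]
    exact hpW
  let l := IsOpenImmersion.lift hV'.fromSpec ((1 : pt g Γ(S, W) ⟶ H)).left hrange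
  have hl : l ≫ hV'.fromSpec = ((1 : pt g Γ(S, W) ⟶ H)).left := IsOpenImmersion.lift_fac _ _ _
  obtain ⟨ψ, hψ⟩ := Spec.map_surjective l
  have hψR : φ ≫ ψ = 𝟙 _ := by
    apply Spec.map_injective
    rw [← cancel_mono g, Spec.map_comp, hψ, Category.assoc, hcomm, ← Category.assoc, hl]
    refine (Over.w (1 : pt g Γ(S, W) ⟶ H)).trans ?_
    change Spec.map (CommRingCat.ofHom (algebraMap Γ(S, W) Γ(S, W))) ≫ g = Spec.map (𝟙 _) ≫ g
    rfl
  let ε : Γ(H.left, V') →ₐ[Γ(S, W)] Γ(S, W) :=
    { ψ.hom with commutes' := fun r => ConcreteCategory.congr_hom hψR r }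
  refine ⟨Γ(S, W), inferInstance, g, inferInstance, ?_, Γ(H.left, V'), inferInstance, inferInstance, hsmooth,
    ε, j, inferInstanceAs (IsOpenImmersion hV'.fromSpec), ?_⟩
  · change s ∈ Set.range hW.fromSpec.base; rw [hW.range_fromSpec]; exact hsf
  · ext : 1
    change Spec.map (CommRingCat.ofHom ε.toRingHom) ≫ hV'.fromSpec = _
    rw [show CommRingCat.ofHom ε.toRingHom = ψ from rfl, hψ, hl]

variable {R : Type u} [CommRing R] (g : Spec (CommRingCat.of R) ⟶ S) {B B₀ : Type u} [CommRing B] [Algebra R B]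
  [CommRing B₀] [Algebra R B₀]

/-- maps of test objects come from algebra maps -/
theorem pmap_injective : Function.Injective (pmap g : (B →ₐ[R] B₀) → _) := fun f f' h => by
  have h1 : Spec.map (CommRingCat.ofHom f.toRingHom) = Spec.map (CommRingCat.ofHom f'.toRingHom) :=
    congrArg (fun m => m.left) h
  exact AlgHom.coe_ringHom_injective (congrArg CommRingCat.Hom.hom (Spec.map_injective h1))

variable {A : Type u} [CommRing A] [Algebra R A] [Mono g] {H : Over S} (j : pt g A ⟶ H) [IsOpenImmersion j.left]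

/-- points landing in the chart come from it -/
theorem exists_algHom (w : pt g B ⟶ H) (hw : Set.range w.left.base ⊆ Set.range j.left.base) :
    ∃ f : A →ₐ[R] B, pmap g f ≫ j = w := by
  let l := IsOpenImmersion.lift j.left w.left hw
  have hl : l ≫ j.left = w.left := IsOpenImmersion.lift_fac _ _ _
  obtain ⟨ψ, hψ⟩ := Spec.map_surjective l
  have h : CommRingCat.ofHom (algebraMap R A) ≫ ψ = CommRingCat.ofHom (algebraMap R B) := by
    apply Spec.map_injective
    rw [← cancel_mono g, Spec.map_comp, hψ, Category.assoc]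
    have hj := Over.w j
    change j.left ≫ H.hom = Spec.map (CommRingCat.ofHom (algebraMap R A)) ≫ g at hj
    rw [← hj, ← Category.assoc, hl]
    exact Over.w w
  refine ⟨{ ψ.hom with commutes' := fun r => ConcreteCategory.congr_hom h r }, ?_⟩
  ext : 1
  change Spec.map ψ ≫ j.left = _
  rw [hψ, hl]

omit [Mono g] [IsOpenImmersion j.left] in
/-- a point lands where its reduction does -/
theorem range_subset_of_nilpotent (f : B →ₐ[R] B₀) (hf : Function.Surjective f)
    (hnil : ∀ x, f x = 0 → IsNilpotent x) (w : pt g B ⟶ H) {C : Set ↥H.left}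
    (hw : Set.range (pmap g f ≫ w).left.base ⊆ C) : Set.range w.left.base ⊆ C := by
  rintro _ ⟨p, rfl⟩
  have hker : RingHom.ker f.toRingHom ≤ p.asIdeal := fun x hx => by
    obtain ⟨n, hn⟩ := hnil x hx
    exact p.isPrime.mem_of_pow_mem n (hn ▸ p.asIdeal.zero_mem)
  have hp : p ∈ Set.range (PrimeSpectrum.comap f.toRingHom) := by
    rw [range_comap_of_surjective _ _ hf]
    exact hker
  obtain ⟨q, rfl⟩ := hp
  exact hw ⟨q, rfl⟩

end Groth.Agent.H21Split.TypeR
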