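import Groth.Agent.H21Split.TypeR.Radical
import Groth.Agent.H21Split.TypeR.Generate

/-!
The roots of a geometric fibre of a type (R) subgroup.
-/

open CategoryTheory MonoidalCategory CartesianMonoidalCategory MonObj GrpObj AlgebraicGeometry
open CategoryTheory.Limits

universe u

set_option backward.isDefEq.respectTransparency false
set_option linter.style.haveILetI false
set_option linter.unusedSectionVars false
set_option synthInstance.maxHeartbeats 400000
set_option maxHeartbeats 1000000

noncomputable section

namespace Groth.Agent.H21Split.TypeR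

variable {S : Scheme.{u}} {G H : Over S} [GrpObj G] [GrpObj H] (D : Red.SplitRed G) {h : H ⟶ G}
  [Smooth H.hom] [IsMonHom h] [IsImmersion h.left] [ConnectedSpace S] (t : D.T ⟶ H) (ht : t ≫ h = D.i) (R' : Set D.idx)
  (hR' : ∀ a : D.idx, (∃ v : Red.Ga S ⟶ H, v ≫ h = D.u a) ↔ a ∈ R')

theorem isImmersion_bcMap {T : Scheme.{u}} (g : T ⟶ S) : IsImmersion ((Over.pullback g).map h).left :=
  MorphismProperty.overPullbackMap (P := @IsImmersion) _ _ inferInstance

include ht in
theorem fibre_torus (s : S) :
    (Over.pullback (Red.geomPt s)).map t ≫ (Over.pullback (Red.geomPt s)).map h = (H21Red0.geomSplit D s).i := by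
  rw [← Functor.map_comp, ht]
  rfl

include ht hR' in
/-- **The roots of a geometric fibre.** -/
theorem fibre_roots (s : S) (a : D.idx) :
    (∃ v : Red.Ga (Spec (CommRingCat.of (AlgebraicClosure (S.residueField s)))) ⟶ Red.geomFibre s H,
      v ≫ (Over.pullback (Red.geomPt s)).map h = (H21Red0.geomSplit D s).u a) ↔ a ∈ R' := by
  haveI := isAffineHom_hom D
  haveI : Mono h := (Over.forget S).mono_of_mono_map (inferInstanceAs (Mono h.left))
  let K := AlgebraicClosure (S.residueField s)
  let gi := H21Red0.gaIso (Red.geomPt s)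
  constructor
  · rintro ⟨v, hv⟩
    by_contra hn
    let P := Red.bc (Red.geomPt s) (Red.Ga S)
    let j : affO (R := K) K ⟶ P := (fibEquiv (Red.geomPt s) K (Red.Ga S)).symm (ga (Red.geomPt s) (1 : K))
    have e : (gi.hom ≫ v) ≫ (Over.pullback (Red.geomPt s)).map h = (Over.pullback (Red.geomPt s)).map (D.u a) := by
      rw [Category.assoc, hv]
      change gi.hom ≫ gi.inv ≫ _ = _
      rw [Iso.hom_inv_id_assoc]

    have h1 : fibEquiv (Red.geomPt s) K H (j ≫ gi.hom ≫ v) ≫ h = uPt (Red.geomPt s) D a (1 : K) := by
      rw [← fibEquiv_comp, Category.assoc j, e, fibEquiv_comp]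
      simp [j, uPt]
    exact one_ne_zero (eq_zero_of_fac' t ht R' hR' (Red.geomPt s) hn (b := (1 : K)) ⟨_, h1⟩)
  · intro ha
    obtain ⟨v, hv⟩ := (hR' a).mpr ha
    refine ⟨gi.inv ≫ (Over.pullback (Red.geomPt s)).map v, ?_⟩
    rw [Category.assoc, ← Functor.map_comp, hv]
    rfl

include ht hR' in
/-- the geometric fibres of a subgroup with symmetric roots are reductive -/
theorem isReductiveOver_of_symm (hconn : RedSub.HasConnectedFibres H)
    (hsymm : ∀ a ∈ R', D.P.reflectionPerm a a ∈ R') (s : S) :
    Red.IsReductiveOver (AlgebraicClosure (S.residueField s)) (Red.geomFibre s H) := by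
  let K := AlgebraicClosure (S.residueField s)
  let D' := H21Red0.geomSplit D s
  let h' : Red.geomFibre s H ⟶ Red.geomFibre s G := (Over.pullback (Red.geomPt s)).map h
  haveI : IsMonHom h' := H21Diag.isMonHom_bcMap _ h
  haveI : IsImmersion h'.left := isImmersion_bcMap _
  haveI hsm : Smooth (Red.geomFibre s H).hom := MorphismProperty.pullback_snd (P := @Smooth) _ _ inferInstance
  haveI := isAffineHom_hom D'
  haveI : IsAffine (Red.geomFibre s G).left := isAffine_of_isAffineHom (Red.geomFibre s G).hom
  haveI : IsClosedImmersion h'.left := isClosedImmersion_of_sub D' h'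
  haveI : IsAffine (Red.geomFibre s H).left := isAffine_of_isAffineHom h'.left
  haveI hc : ConnectedSpace (Red.geomFibre s H).left := by
    haveI := geometricallyIrreducible_of_connected hconn
    haveI : GeometricallyIrreducible (Red.geomFibre s H).hom :=
      inferInstanceAs (GeometricallyIrreducible (pullback.snd H.hom (Red.geomPt s)))
    haveI : IrreducibleSpace (Red.geomFibre s H).left :=
      GeometricallyIrreducible.irreducibleSpace_of_subsingleton (Red.geomFibre s H).hom
    infer_instance
  refine ⟨inferInstance, hsm, hc, fun U _ i _ hcl hUsm hUc hN hns => ?_⟩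
  haveI := hcl
  haveI := hUsm
  haveI := hUc
  exact radical_trivial D' ((Over.pullback (Red.geomPt s)).map t) (fibre_torus D t ht s) R'
    (fibre_roots D t ht R' hR' s) hsymm i hN hns

end Groth.Agent.H21Split.TypeR
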