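import Mathlib.AlgebraicGeometry.ValuativeCriterion
import Mathlib.AlgebraicGeometry.AlgClosed.Basic
import Mathlib.FieldTheory.IsAlgClosed.AlgebraicClosure

/-!
Specializations are realised by valuation rings with algebraically closed fraction field.
-/

open CategoryTheory AlgebraicGeometry IsLocalRing

universe u

noncomputable section

namespace Groth.Agent.H21Split.TypeR

set_option backward.isDefEq.respectTransparency false
set_option linter.style.haveILetI false

/-- a specialization is realised by a valuation subring of an algebraically closed field -/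
theorem exists_valuation {Y : Scheme.{u}} {y' y : Y} (h : y' ⤳ y) :
    ∃ (Ω : Type u) (_ : Field Ω) (_ : IsAlgClosed Ω) (V : ValuationSubring Ω) (g : Spec (CommRingCat.of V) ⟶ Y),
      g (closedPoint V) = y ∧ g (Spec.map (CommRingCat.ofHom V.subtype) (closedPoint Ω)) = y' := by
  let Ω := AlgebraicClosure (Y.residueField y')
  let b : Spec (CommRingCat.of Ω) ⟶ Y :=
    Spec.map (CommRingCat.ofHom (algebraMap (Y.residueField y') Ω)) ≫ Y.fromSpecResidueField y'
  have hb : b (closedPoint Ω) = y' := by
    rw [Scheme.Hom.comp_apply]; exact Scheme.fromSpecResidueField_apply _ _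
  have hs : b (closedPoint Ω) ⤳ y := hb.symm ▸ h
  let ψ : Y.presheaf.stalk y ⟶ CommRingCat.of Ω := Y.presheaf.stalkSpecializes hs ≫ Scheme.stalkClosedPointTo b
  obtain ⟨V, hV, hloc⟩ := IsLocalRing.exists_factor_valuationRing ψ.hom
  let γ : Y.presheaf.stalk y ⟶ CommRingCat.of V := CommRingCat.ofHom (ψ.hom.codRestrict _ hV)
  refine ⟨Ω, inferInstance, inferInstance, V, Spec.map γ ≫ Y.fromSpecStalk y, ?_, ?_⟩
  · haveI := hloc
    rw [Scheme.Hom.comp_apply]
    refine Eq.trans (congrArg (Y.fromSpecStalk y) ?_) Scheme.fromSpecStalk_closedPoint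
    exact comap_closedPoint (S := V) (ψ.hom.codRestrict V.toSubring hV)
  · rw [← Scheme.Hom.comp_apply, ← Category.assoc, ← Spec.map_comp]
    have he : Spec.map ψ ≫ Y.fromSpecStalk y = b := by
      rw [Spec.map_comp, Category.assoc, Scheme.SpecMap_stalkSpecializes_fromSpecStalk]
      exact Scheme.Spec_stalkClosedPointTo_fromSpecStalk b
    exact (congrArg (fun m : Spec (CommRingCat.of Ω) ⟶ Y => m (closedPoint Ω)) he).trans hb

end Groth.Agent.H21Split.TypeR
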