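import Groth.Agent.H21Split.TypeR.Iwasawa
import Groth.Agent.H21Split.Bru.Borel
import Groth.Agent.H21Split.TypeR.Fibre
import Groth.Agent.H21Split.TypeR.Valuation

/-!
A subgroup of type (R) with symmetric roots is closed.
-/

open CategoryTheory MonoidalCategory CartesianMonoidalCategory MonObj GrpObj AlgebraicGeometry
open CategoryTheory.Limits
open Groth.Agent.H21Split.R2

universe u

set_option backward.isDefEq.respectTransparency false
set_option linter.style.haveILetI false
set_option linter.unusedSectionVars false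
set_option synthInstance.maxHeartbeats 400000
set_option maxHeartbeats 1000000

noncomputable section

namespace Groth.Agent.H21Split.TypeR

/-- a morphism from a reduced scheme with image in that of an immersion factors through it -/
theorem exists_lift_reduced {W X Y : Scheme.{u}} (i : X ⟶ Y) [IsPreimmersion i] (f : W ⟶ Y) [IsReduced W]
    (hf : Set.range f.base ⊆ Set.range i.base) : ∃ w : W ⟶ X, w ≫ i = f := by
  have hsurj : Surjective (pullback.snd i f) := ⟨fun p => by
    obtain ⟨q, hq⟩ := hf ⟨p, rfl⟩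
    obtain ⟨z, -, hz⟩ := Scheme.Pullback.exists_preimage_pullback q p hq
    exact ⟨z, hz⟩⟩
  haveI : IsClosedImmersion (pullback.snd i f) := by
    rw [IsClosedImmersion.iff_isPreimmersion]
    exact ⟨inferInstance, by rw [hsurj.surj.range_eq]; exact isClosed_univ⟩
  haveI := isIso_of_isClosedImmersion_of_surjective (pullback.snd i f)
  exact ⟨CategoryTheory.inv (pullback.snd i f) ≫ pullback.fst i f, by
    rw [Category.assoc, pullback.condition, IsIso.inv_hom_id_assoc]⟩

variable {S : Scheme.{u}} {G H : Over S} [GrpObj G] [GrpObj H] {h : H ⟶ G}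

section Generic

variable {A : Type u} [CommRing A] (gA : Spec (CommRingCat.of A) ⟶ S) (L : Type u) [CommRing L] [Algebra A L]

/-- the generic fibre of a test object -/
abbrev genBase : Spec (CommRingCat.of L) ⟶ S := Spec.map (CommRingCat.ofHom (algebraMap A L)) ≫ gA

/-- the map of test objects -/
def qMap : pt (Spec.map (CommRingCat.ofHom (algebraMap A L)) ≫ gA) L ⟶ pt gA A :=
  (towerIso gA L L).hom ≫ pmap gA (Algebra.ofId A L)

theorem towerIso_ga (K : Type u) [CommRing K] [Algebra A K] {B : Type u} [CommRing B] [Algebra A B] [Algebra K B]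
    [IsScalarTower A K B] (b : B) :
    (towerIso gA K B).hom ≫ ga gA b = ga (Spec.map (CommRingCat.ofHom (algebraMap A K)) ≫ gA) b := by
  refine gv_injective _ ?_
  rw [gv_ga]
  refine (H21Diag.gval_comp (RingHom.id B) (ga gA b) _ ?_).trans (gv_ga gA b)
  exact congrArg (· ≫ (ga gA b).left) (Spec.map_id (CommRingCat.of B)).symm

theorem generic_ga_self (x : A) : (towerIso gA L L).hom ≫ ga gA (algebraMap A L x) =
    ga (Spec.map (CommRingCat.ofHom (algebraMap A L)) ≫ gA) (algebraMap A L x) :=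
  towerIso_ga gA L (algebraMap A L x)

theorem ofId_ga (x : A) : pmap gA (Algebra.ofId A L) ≫ ga gA x = ga gA (algebraMap A L x) := pmap_ga gA _ x

theorem generic_ga (x : A) : ((towerIso gA L L).hom ≫ pmap gA (Algebra.ofId A L)) ≫ ga gA x =
    ga (Spec.map (CommRingCat.ofHom (algebraMap A L)) ≫ gA) (algebraMap A L x) :=
  (Category.assoc _ _ _).trans ((congrArg ((towerIso gA L L).hom ≫ ·) (ofId_ga gA L x)).trans (generic_ga_self gA L x))

theorem qMap_ga (x : A) : qMap gA L ≫ ga gA x =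
    ga (Spec.map (CommRingCat.ofHom (algebraMap A L)) ≫ gA) (algebraMap A L x) := generic_ga gA L x

theorem qMap_left : (qMap gA L).left = Spec.map (CommRingCat.ofHom (algebraMap A L)) := by
  simp only [qMap, Over.comp_left, towerIso, Over.isoMk_hom_left, Iso.refl_hom, pmap_left]
  erw [Category.id_comp]
  all_goals rfl

theorem qMap_uPt (D : Red.SplitRed G) (c : D.idx) (x : A) :
    qMap gA L ≫ uPt gA D c x = uPt (genBase gA L) D c (algebraMap A L x) := by
  rw [uPt, uPt, ← Category.assoc, qMap_ga]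

end Generic

variable [Smooth H.hom] [IsMonHom h] [IsImmersion h.left] [ConnectedSpace S] {D : Red.SplitRed G}
  (t : D.T ⟶ H) (ht : t ≫ h = D.i) (R' : Set D.idx)
  (hR' : ∀ a : D.idx, (∃ v : Red.Ga S ⟶ H, v ≫ h = D.u a) ↔ a ∈ R')
  (hsymm : ∀ a ∈ R', D.P.reflectionPerm a a ∈ R') (hconn : RedSub.HasConnectedFibres H)

include ht hR' hsymm hconn in
/-- a valued point whose generic point is in the subgroup has its special point in it -/
theorem closedPoint_mem {sg : D.idx → D.idx → ℤˣ} (hs : Signs D sg) {Ω : Type u} [Field Ω] [IsAlgClosed Ω]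
    (O : ValuationSubring Ω) (m : Spec (CommRingCat.of O) ⟶ G.left)
    (hm : m.base (PrimeSpectrum.comap (algebraMap O Ω) (IsLocalRing.closedPoint Ω)) ∈ Set.range h.left.base) :
    m.base (IsLocalRing.closedPoint O) ∈ Set.range h.left.base := by
  haveI := D.fintypeIdx
  haveI : Finite D.idx := Finite.of_fintype _
  haveI := isAffineHom_hom D
  haveI : Nonempty S := inferInstance
  haveI := H21Red0.isReduced_of_nonempty D
  haveI : Mono h := (Over.forget S).mono_of_mono_map (inferInstanceAs (Mono h.left))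
  let gA : Spec (CommRingCat.of O) ⟶ S := m ≫ G.hom
  let gL := genBase gA Ω
  let q := qMap gA Ω
  let zA : pt gA O ⟶ G := Over.homMk m (by
    change m ≫ G.hom = Spec.map (CommRingCat.ofHom (algebraMap O O)) ≫ gA
    exact ((congrArg (· ≫ gA) (Spec.map_id (CommRingCat.of O))).trans (Category.id_comp _)).symm)
  have hzL : Fac h (q ≫ zA) := by
    haveI : IsReduced (pt gL Ω).left := inferInstanceAs (IsReduced (Spec (CommRingCat.of Ω)))
    obtain ⟨w, hw⟩ := exists_lift_reduced h.left (q ≫ zA).left (by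
      rintro _ ⟨(p : PrimeSpectrum Ω), rfl⟩
      rw [Subsingleton.elim p (IsLocalRing.closedPoint Ω), Over.comp_left, Scheme.Hom.comp_apply]
      change m.base ((qMap gA Ω).left.base (IsLocalRing.closedPoint Ω)) ∈ _
      rw [qMap_left]
      exact hm)
    exact ⟨Over.homMk w ((congrArg (w ≫ ·) (Over.w h)).symm.trans ((Category.assoc _ _ _).symm.trans
      ((congrArg (· ≫ G.hom) hw).trans (Over.w _)))), Over.OverMorphism.ext hw⟩
  obtain ⟨b0⟩ := H21Red0.nonempty_base D
  obtain ⟨f, hfp, hfn⟩ := exists_regular D b0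
  have hpn : ∀ c, c ∈ RedSub.posRoots D.P b0 ↔ 0 < f (D.P.root c) := fun c => ⟨hfp c, fun hc => by
    rw [pos_iff_not_neg]
    intro hneg
    have := hfn c hneg
    omega⟩
  have hf : ∀ c ∈ R', f (D.P.root c) ≠ 0 := fun c _ => by
    rcases mem_pos_or_neg b0 c with hc | hc
    · exact (hfp c hc).ne'
    · exact (hfn c hc).ne
  obtain ⟨b, hb, k, hk, hbk⟩ := iwasawa t ht R' hR' hsymm hs f hf gL O hconn hzL
  obtain ⟨kA, hkA, hkq⟩ : ∃ kA : pt gA O ⟶ G, Fac h kA ∧ q ≫ kA = k := by
    let K : Subgroup (pt gL Ω ⟶ G) :=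
      { carrier := {k | ∃ kA : pt gA O ⟶ G, Fac h kA ∧ q ≫ kA = k}
        one_mem' := ⟨1, fac_one, MonObj.comp_one _⟩
        mul_mem' := fun ⟨x, hx, ex⟩ ⟨y, hy, ey⟩ => ⟨x * y, hx.mul hy, by rw [MonObj.comp_mul, ex, ey]⟩
        inv_mem' := fun ⟨x, hx, ex⟩ => ⟨x⁻¹, hx.inv, by rw [GrpObj.comp_inv, ex]⟩ }
    suffices hle : KO D R' gL O ≤ K from hle hk
    refine (Subgroup.closure_le _).mpr ?_
    rintro _ ⟨c, hc, x, hx, rfl⟩
    obtain ⟨v, hv⟩ := (hR' c).mpr hc
    exact ⟨uPt gA D c ⟨x, hx⟩, ⟨ga gA _ ≫ v, by rw [Category.assoc, hv]; rfl⟩, qMap_uPt gA Ω D c _⟩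
  let bA : pt gA O ⟶ G := zA * kA⁻¹
  have hbA : q ≫ bA = b := by
    simp only [bA, MonObj.comp_mul, GrpObj.comp_inv, hkq, hbk, mul_inv_cancel_right]
  obtain ⟨τ, hτ, v, hv, rfl⟩ := (mem_TU D gL).mp hb
  obtain ⟨χ, rfl⟩ := (mem_Tg D gL).mp hτ
  obtain ⟨n, e, he, hrange⟩ := exists_enum D (R' ∩ half D f)
  obtain ⟨r, e₂, hee⟩ := exists_extend D (Ψ := RedSub.posRoots D.P b0) e he fun i =>
    (hpn _).mpr (hrange.subset ⟨i, rfl⟩).2
  obtain ⟨x, rfl⟩ := (mem_inter_iff t ht R' hR' f e ⟨he, hrange⟩ gL v).mp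
    ⟨Ug_mono D gL (fun c hc => hc.2) hv, fac_Bf t ht R' hR' f gL (le_sup_right (a := Tg D gL) hv)⟩
  let c := RedSub.borelMap D (Fin.append e e₂)
  haveI hcl : IsClosedImmersion c.left := isClosedImmersion_borelMap D b0 hee
  haveI : Mono c := Over.mono_of_mono_left _
  let zb : pt gL Ω ⟶ D.T ⊗ RedSub.pow (Red.Ga S) (n + r) :=
    lift (ds gL χ ≫ D.split.inv.hom.hom) (gas gL (Fin.append x 0))
  have hzb : zb ≫ c = q ≫ bA := by
    rw [hbA]
    simp only [zb, c, RedSub.borelMap, MonObj.comp_mul, lift_fst_assoc, lift_snd_assoc, comp_prodMap_u, gvs_gas,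
      uProd_append, uProd_zero, _root_.mul_one]
    rw [tPt, Category.assoc]
  obtain ⟨w, hw⟩ : ∃ w : pt gA O ⟶ D.T ⊗ RedSub.pow (Red.Ga S) (n + r), w ≫ c = bA := by
    haveI : IsReduced (pt gA O).left := inferInstanceAs (IsReduced (Spec (CommRingCat.of O)))
    obtain ⟨w, hw⟩ := exists_lift_reduced c.left bA.left (by
      rintro _ ⟨(p : PrimeSpectrum O), rfl⟩
      have hcs : IsClosed (bA.left.base ⁻¹' Set.range c.left.base) :=
        c.left.isClosedEmbedding.isClosed_range.preimage bA.left.continuous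
      refine hcs.stableUnderSpecialization (?_ : (⟨⊥, Ideal.isPrime_bot⟩ : PrimeSpectrum O) ⤳ p) ?_
      · rw [← PrimeSpectrum.le_iff_specializes]
        exact fun a ha => by rw [Submodule.mem_bot] at ha; rw [ha]; exact zero_mem _
      · have e0 : PrimeSpectrum.comap (algebraMap O Ω) (IsLocalRing.closedPoint Ω) =
            (⟨⊥, Ideal.isPrime_bot⟩ : PrimeSpectrum O) := PrimeSpectrum.ext (by
          change Ideal.comap (algebraMap O Ω) (IsLocalRing.maximalIdeal Ω) = ⊥
          rw [IsLocalRing.maximalIdeal_eq_bot, Ideal.comap_bot_of_injective _ Subtype.val_injective])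
        refine ⟨zb.left.base (IsLocalRing.closedPoint Ω), ?_⟩
        rw [← Scheme.Hom.comp_apply, ← Over.comp_left, hzb, Over.comp_left, Scheme.Hom.comp_apply, qMap_left, ← e0]
        rfl)
    exact ⟨Over.homMk w ((congrArg (w ≫ ·) (Over.w c)).symm.trans ((Category.assoc _ _ _).symm.trans
      ((congrArg (· ≫ G.hom) hw).trans (Over.w _)))), Over.OverMorphism.ext hw⟩
  have hqw : q ≫ w = zb := by rw [← cancel_mono c, Category.assoc, hw, hzb]
  obtain ⟨χA, hχA⟩ := comp_borelMap D gA (Fin.append e e₂) w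
  have hzero : ∀ i, gvs gA (w ≫ snd _ _) (Fin.natAdd n i) = 0 := fun i => by
    refine (Subtype.val_injective : Function.Injective (algebraMap O Ω)) ?_
    change algebraMap O Ω _ = algebraMap O Ω 0
    rw [map_zero]
    have h1 : q ≫ w ≫ snd _ _ ≫ pr (Red.Ga S) (n + r) (Fin.natAdd n i) = ga gL (0 : Ω) := by
      rw [← Category.assoc q, hqw]
      simp only [zb, lift_snd_assoc, gas, tuple_pr, Fin.append_right, Pi.zero_apply]
    have h2 : w ≫ snd _ _ ≫ pr (Red.Ga S) (n + r) (Fin.natAdd n i) =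
        ga gA (gvs gA (w ≫ snd _ _) (Fin.natAdd n i)) := by rw [gvs, ga_gv, Category.assoc]
    rw [h2, qMap_ga] at h1
    have h3 := congrArg (gv gL) h1
    rw [gv_ga] at h3
    exact h3.trans (gv_ga gL 0)
  have hfb : Fac h bA := by
    rw [← hw, hχA, ← Fin.append_castAdd_natAdd (f := gvs gA (w ≫ snd _ _)), uProd_append,
      show (fun i => gvs gA (w ≫ snd _ _) (Fin.natAdd n i)) = 0 from funext hzero, uProd_zero, _root_.mul_one]
    refine (fac_tPt gA D t ht χA).mul ?_
    rw [uProd, List.ofFn_eq_map]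
    refine Fac.list_prod _ (fun i => ?_) _
    obtain ⟨v, hv⟩ := (hR' _).mpr (hrange.subset ⟨i, rfl⟩).1
    exact ⟨ga gA _ ≫ v, by rw [Category.assoc, hv]; rfl⟩
  obtain ⟨w', hw'⟩ : Fac h zA := by
    have h1 := hfb.mul hkA
    simpa [bA] using h1
  refine ⟨w'.left.base (IsLocalRing.closedPoint O), ?_⟩
  rw [← Scheme.Hom.comp_apply, ← Over.comp_left, hw']
  rfl

include ht hR' hsymm hconn in
/-- **A subgroup of type (R) with symmetric roots is closed.** -/
theorem isClosedImmersion_of_symm [QuasiCompact H.hom] : IsClosedImmersion h.left := by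
  haveI := isAffineHom_hom D
  obtain ⟨v, hv, sg, hs⟩ := exists_signed D
  let D' : Red.SplitRed G := withU D v hv
  have ht' : t ≫ h = D'.i := ht
  have hR'' : ∀ a : D'.idx, (∃ w : Red.Ga S ⟶ H, w ≫ h = D'.u a) ↔ a ∈ R' := rootSet_withU t ht R' hR' v hv
  haveI : QuasiCompact (h.left ≫ G.hom) := by rw [Over.w]; infer_instance
  haveI : QuasiCompact h.left := QuasiCompact.of_comp h.left G.hom
  rw [IsClosedImmersion.iff_isPreimmersion]
  refine ⟨inferInstance, ((isClosedMap_iff_specializingMap h.left).mpr ?_).isClosed_range⟩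
  intro x y hxy
  obtain ⟨Ω, _, _, O, m, hm0, hm1⟩ := exists_valuation hxy
  obtain ⟨x', hx'⟩ := closedPoint_mem (D := D') t ht' R' hR'' hsymm hconn hs O m ⟨x, hm1.symm⟩
  rw [hm0] at hx'
  refine ⟨x', ?_, hx'⟩
  rw [← hx'] at hxy
  exact h.left.isEmbedding.isInducing.specializes_iff.mp hxy

include ht hR' hsymm hconn in
/-- a subgroup of type (R) with symmetric roots is affine -/
theorem isAffineHom_of_symm [QuasiCompact H.hom] : IsAffineHom H.hom := by
  haveI := isAffineHom_hom D
  haveI := isClosedImmersion_of_symm t ht R' hR' hsymm hconn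
  rw [← Over.w h]
  infer_instance

end Groth.Agent.H21Split.TypeR
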