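import Groth.Agent.H21Split.TypeR.Local
import Groth.Agent.H21Split.TypeR.CellLift
import Groth.Agent.H21Split.R3.Iso
import Groth.Agent.H21Split.R2.ChevTable
import Groth.Agent.H21Split.Red0.UniqueRoot
import Groth.Agent.S8472

/-!
The roots of a type (R) subgroup are closed under the sums given by nonvanishing commutator constants.
-/

open CategoryTheory MonoidalCategory CartesianMonoidalCategory MonObj GrpObj AlgebraicGeometry
open CategoryTheory.Limits
open TrivSqZeroExt (inl inr)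
open Groth.Agent.H21Split.R2

universe u

set_option backward.isDefEq.respectTransparency false
set_option linter.style.haveILetI false
set_option linter.unusedSectionVars false
set_option synthInstance.maxHeartbeats 400000
set_option maxHeartbeats 1000000

noncomputable section

namespace Groth.Agent.H21Split.TypeR

variable {S : Scheme.{u}} {G : Over S} [GrpObj G]

/-- a splitting admits root homomorphisms with signs -/
theorem exists_signed [Nonempty S] (D : Red.SplitRed G) :
    ∃ (v : D.idx → (Red.Ga S ⟶ G)) (hv : ∀ c, Red.IsRootHom D.i (D.split.hom.hom.hom ≫ Red.chi S (D.P.root c)) (v c))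
      (s : D.idx → D.idx → ℤˣ), Signs (withU D v hv) s := by
  obtain ⟨b⟩ := H21Red0.nonempty_base D
  obtain ⟨e₁, he₁⟩ := Groth.Agent.H27Witt.GaCoord.gaFn_surjective (X := 𝟙_ (Over S)) 1
  let P₀ : Red.Pinning G := { toSplitRed := D, base := b }
  let P := R3.dualPin P₀
  obtain ⟨v, hv, -, hvd⟩ := S8472.result S e₁ he₁ G P (R3.avcOf P) (fun _ => rfl) (R3.pairHyp_dualPin P₀)
  choose vd hmon hpair hSC using hvd
  obtain ⟨s, hs⟩ := exists_signs P.toSplitRed (R3.avcOf P) (fun _ => rfl) e₁ he₁ v vd hv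
    (fun c => ⟨hmon c, hpair c⟩) (fun c => (e₁ ≫ v c) * (e₁ ≫ vd c)⁻¹ * (e₁ ≫ v c)) (fun _ => rfl) hSC
  exact ⟨v, hv, s, hs⟩

variable {H : Over S} [GrpObj H] {h : H ⟶ G} {D : Red.SplitRed G}
  [Smooth H.hom] [IsMonHom h] [IsImmersion h.left] [ConnectedSpace S]
  (t : D.T ⟶ H) (ht : t ≫ h = D.i) (R' : Set D.idx)
  (hR' : ∀ a : D.idx, (∃ v : Red.Ga S ⟶ H, v ≫ h = D.u a) ↔ a ∈ R')

include ht hR'

/-- the roots of the subgroup do not depend on the root homomorphisms -/
theorem rootSet_withU (v : D.idx → (Red.Ga S ⟶ G))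
    (hv : ∀ c, Red.IsRootHom D.i (D.split.hom.hom.hom ≫ Red.chi S (D.P.root c)) (v c)) (a : D.idx) :
    (∃ w : Red.Ga S ⟶ H, w ≫ h = v a) ↔ a ∈ R' := by
  haveI := isAffineHom_hom D
  haveI : Mono h := (Over.forget S).mono_of_mono_map (inferInstanceAs (Mono h.left))
  let D' : Red.SplitRed G := withU D v hv
  have ht' : t ≫ h = D'.i := ht
  let R'' : Set D.idx := {a | ∃ w : Red.Ga S ⟶ H, w ≫ h = v a}
  obtain ⟨s⟩ := (inferInstance : Nonempty S)
  obtain ⟨R, iR, g, hg, ⟨p, -⟩, A, iA, iAR, iAs, ε, j, hj, hε⟩ := exists_chart (H := H) s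
  let p : PrimeSpectrum R := p
  letI := iR
  letI := iA
  letI := iAR
  haveI := hg
  haveI := iAs
  haveI := hj
  let K := p.asIdeal.ResidueField
  haveI : Mono (v a) := mono_u D' a
  haveI : IsMonHom (v a) := (hv a).1
  let φ : pt g (DualNumber K) ⟶ G := uPt g D' a (inr (1 : K) : DualNumber K)
  have hφ : IsLie g φ := isLie_uPt_inr g D' a 1
  have hw : tPt g D (univChar K D) * (pmap g (dnMap (constMap R K D)) ≫ φ) * (tPt g D (univChar K D))⁻¹ =
      pmap g ((scl (MonoidAlgebra.single (Multiplicative.ofAdd (D.P.root a)) 1)).comp (dnMap (constMap R K D))) ≫ φ := by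
    simp only [φ, pmap_uPt]
    change tPt g D' (univChar K D) * _ * (tPt g D' (univChar K D))⁻¹ = _
    rw [tPt_conj]
    congr 1
    refine TrivSqZeroExt.ext ?_ ?_
    · simp [univChar, fst_scl, fst_dnMap]
    · simp [univChar, snd_scl, snd_dnMap]
      rfl
  obtain ⟨k, hk⟩ := (eq_of_weight g D hφ (D.P.root a) (D.P.ne_zero a) hw).2 a rfl
  have hk0 : k ≠ 0 := fun h0 => by
    rw [h0, TrivSqZeroExt.inr_zero, uPt_zero, ← uPt_zero g D' a] at hk
    exact one_ne_zero (α := K) ((TrivSqZeroExt.snd_inr (R := K) (1 : K)).symm.trans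
      (congrArg TrivSqZeroExt.snd (uPt_injective g D' a hk)))
  have e1 := fac_uPt_inr_iff (D := D') t ht' R'' (fun _ => Iff.rfl) g ε j hε a (1 : K)
  have e2 := fac_uPt_inr_iff t ht R' hR' g ε j hε a k
  change Fac h φ ↔ _ at e1
  rw [hk] at e1
  change a ∈ R'' ↔ a ∈ R'
  constructor
  · intro ha
    by_contra ha'
    exact hk0 (e2.mp (e1.mpr fun hn => absurd ha hn) ha')
  · intro ha
    by_contra ha''
    exact one_ne_zero (α := K) (e1.mp (e2.mpr fun hn => absurd ha hn) ha'')

/-- components of a product of two root vectors -/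
theorem coeff_eq_zero {R : Type u} [CommRing R] (g : Spec (CommRingCat.of R) ⟶ S) [IsOpenImmersion g]
    {A : Type u} [CommRing A] [Algebra R A] [Algebra.Smooth R A] (ε : A →ₐ[R] R) (j : pt g A ⟶ H)
    [IsOpenImmersion j.left] (hε : pmap g ε ≫ j = (1 : pt g R ⟶ H)) {B : Type u} [CommRing B] [Algebra R B]
    {p q : D.idx} (hpq : p ≠ q) (x y : B)
    (hf : Fac h (uPt g D p (inr x : DualNumber B) * uPt g D q (inr y : DualNumber B))) :
    (p ∉ R' → x = 0) ∧ (q ∉ R' → y = 0) := by
  classical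
  haveI := isAffineHom_hom D
  have e : uPt g D p (inr x : DualNumber B) * uPt g D q (inr y : DualNumber B) =
      lieComb g D (Pi.single p x + Pi.single q y) (0 + 0 : Fin (rk D) → B) := by
    rw [lieComb_add, lieComb_single, lieComb_single]
  rw [e] at hf
  have h1 := (fac_lieComb_iff t ht R' hR' g ε j hε _ _).mp hf
  exact ⟨fun hp => by simpa [Pi.single_eq_of_ne hpq] using h1 p hp,
    fun hq => by simpa [Pi.single_eq_of_ne hpq.symm] using h1 q hq⟩

/-- **Sums of roots of the subgroup.** -/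
theorem sum_mem (a b : D.idx) (ha : a ∈ R') (hb : b ∈ R') (e : D.idx)
    (he : D.P.root e = D.P.root a + D.P.root b) :
    ((∃ m : ℤ, (m = 1 ∨ m = 2 ∨ m = 3) ∧ D.P.pairing b a = -m ∧ D.P.pairing a b = -1 ∧
        D.P.root b - D.P.root a ∉ Set.range D.P.root) → e ∈ R') ∧
      ∀ d c₂ c₃ : D.idx, D.P.root d = D.P.root b - D.P.root a → D.P.pairing d a = -3 → D.P.pairing a d = -1 →
        D.P.root c₂ = (2 : ℤ) • D.P.root a + D.P.root b → D.P.root c₃ = D.P.root a + (2 : ℤ) • D.P.root b →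
        e ∈ R' ∨ (c₂ ∈ R' ∧ c₃ ∈ R') := by
  haveI := isAffineHom_hom D
  haveI : Mono h := (Over.forget S).mono_of_mono_map (inferInstanceAs (Mono h.left))
  obtain ⟨v, hv, s, hs⟩ := exists_signed D
  let D' : Red.SplitRed G := withU D v hv
  have ht' : t ≫ h = D'.i := ht
  have hR'' : ∀ a : D'.idx, (∃ w : Red.Ga S ⟶ H, w ≫ h = D'.u a) ↔ a ∈ R' := rootSet_withU t ht R' hR' v hv
  obtain ⟨s₀⟩ := (inferInstance : Nonempty S)
  obtain ⟨R, iR, g, hg, ⟨p, -⟩, A, iA, iAR, iAs, ε, j, hj, hε⟩ := exists_chart (H := H) s₀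
  let p : PrimeSpectrum R := p
  letI := iR
  letI := iA
  letI := iAR
  haveI := hg
  haveI := iAs
  haveI := hj
  let K := p.asIdeal.ResidueField
  let E : DualNumber K := inr 1
  have hfac : ∀ (c : D.idx), c ∈ R' → ∀ z : DualNumber K, Fac h (uPt g D' c z) := fun c hc z =>
    fac_uPt_of_mem (D := D') g t ht' R' hR'' hc z
  have hcomm : ∀ x y : DualNumber K, Fac h (uPt g D' b y * uPt g D' a x * (uPt g D' b y)⁻¹ * (uPt g D' a x)⁻¹) :=
    fun x y => (((hfac b hb y).mul (hfac a ha x)).mul (hfac b hb y).inv).mul (hfac a ha x).inv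
  let g' := Spec.map (CommRingCat.ofHom (algebraMap R (DualNumber K))) ≫ g
  let τ := towerIso g (DualNumber K) (DualNumber K)
  have htr : ∀ (c : D.idx) (z : DualNumber K), τ.inv ≫ uPt g' D' c z = uPt g D' c z := fun c z => by
    rw [← towerIso_uPt D' g (DualNumber K) c z, Iso.inv_hom_id_assoc]
  have hE : E * E = 0 := TrivSqZeroExt.inr_mul_inr _ _ _
  constructor
  · rintro ⟨m, hm, hA, hB, hsub⟩
    have hone : ∀ σ : ℤˣ, ((σ : ℤ) : DualNumber K) * E * 1 = (inr ((σ : ℤ) : K) : DualNumber K) := fun σ => by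
      refine TrivSqZeroExt.ext ?_ ?_
      · simp [E]
      · simp [E]
    have hne : ∀ σ : ℤˣ, ((σ : ℤ) : K) ≠ 0 := fun σ => by rcases sign_cases σ with h | h <;> simp [h]
    have key : Fac h (uPt g D' e (inr ((s b a : ℤ) : K) : DualNumber K)) := by
      have hc := hcomm E 1
      rcases hm with rfl | rfl | rfl
      · have h1 := congrArg (τ.inv ≫ ·) (comm_11 (D := D') hs g' a b e hA hB hsub he E 1)
        simp only [MonObj.comp_mul, GrpObj.comp_inv, htr] at h1
        rw [h1, hone] at hc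
        exact hc
      · haveI := H21Red0.isReduced_of_nonempty D
        obtain ⟨f, hf⟩ : ∃ f, D.P.root f = (2 : ℤ) • D.P.root a + D.P.root b := by
          refine ⟨D.P.reflectionPerm a b, ?_⟩
          rw [R3.root_refl' D a b, hA]; module
        have h1 := congrArg (τ.inv ≫ ·) (comm_12 (D := D') hs g' a b e f hA hB he hf E 1)
        simp only [MonObj.comp_mul, GrpObj.comp_inv, htr] at h1
        rw [h1, hone, pow_two, hE, mul_zero, zero_mul, uPt_zero, _root_.mul_one] at hc
        exact hc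
      · obtain ⟨c₃, hc₃⟩ : ∃ f, D.P.root f = (3 : ℤ) • D.P.root a + D.P.root b := by
          refine ⟨D.P.reflectionPerm a b, ?_⟩
          rw [R3.root_refl' D a b, hA]; module
        obtain ⟨c₂, hc₂⟩ : ∃ f, D.P.root f = (2 : ℤ) • D.P.root a + D.P.root b := by
          refine ⟨D.P.reflectionPerm a e, ?_⟩
          rw [R3.root_refl' D a e, ← D.P.root_coroot'_eq_pairing, he, map_add, D.P.root_coroot'_eq_pairing,
            D.P.root_coroot'_eq_pairing, D.P.pairing_same, hA]
          module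
        obtain ⟨c₄, hc₄⟩ : ∃ f, D.P.root f = (3 : ℤ) • D.P.root a + (2 : ℤ) • D.P.root b := by
          refine ⟨D.P.reflectionPerm b c₃, ?_⟩
          rw [R3.root_refl' D b c₃, ← D.P.root_coroot'_eq_pairing, hc₃, map_add, map_zsmul,
            D.P.root_coroot'_eq_pairing, D.P.root_coroot'_eq_pairing, D.P.pairing_same, hB, smul_eq_mul]
          module
        have h1 := congrArg (τ.inv ≫ ·) (comm_13 (D := D') hs g' a b e c₂ c₃ c₄ hA hB he hc₂ hc₃ hc₄ E 1)
        simp only [MonObj.comp_mul, GrpObj.comp_inv, htr] at h1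
        rw [h1, hone] at hc
        simp only [show (3 : ℕ) = 2 + 1 from rfl, pow_succ, pow_zero, _root_.one_mul, hE, zero_mul, mul_zero,
          uPt_zero, _root_.mul_one] at hc
        exact hc
    by_contra he'
    exact hne _ ((fac_uPt_inr_iff (D := D') t ht' R' hR'' g ε j hε e _).mp key he')
  · intro d c₂ c₃ hd hA hB hc₂ hc₃
    have hec : e ≠ c₃ := fun h0 => by
      rw [← h0, he] at hc₃
      exact D.P.ne_zero b (by linear_combination (norm := module) -hc₃)
    have hce : e ≠ c₂ := fun h0 => by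
      rw [← h0, he] at hc₂
      exact D.P.ne_zero a (by linear_combination (norm := module) -hc₂)
    have hscal : ∀ (n : ℕ) (σ : ℤˣ), (n : DualNumber K) * ((σ : ℤ) : DualNumber K) * E =
        (inr ((n : K) * ((σ : ℤ) : K)) : DualNumber K) := fun n σ => by
      refine TrivSqZeroExt.ext ?_ ?_
      · simp [E]
      · simp [E]
    have h1 := congrArg (τ.inv ≫ ·) (comm_22 (D := D') hs g' a b d e c₂ c₃ hd hA hB he hc₂ hc₃ E 1)
    simp only [MonObj.comp_mul, GrpObj.comp_inv, htr] at h1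
    have k1 := hcomm E 1
    rw [h1] at k1
    simp only [_root_.mul_one, one_pow, pow_two, hE, mul_zero, uPt_zero] at k1
    rw [show (2 : DualNumber K) = ((2 : ℕ) : DualNumber K) from Nat.cast_ofNat.symm, hscal,
      show (3 : DualNumber K) = ((3 : ℕ) : DualNumber K) from Nat.cast_ofNat.symm, hscal] at k1
    obtain ⟨z1, z3⟩ := coeff_eq_zero (D := D') t ht' R' hR'' g ε j hε hec _ _ k1
    have h1' := congrArg (τ.inv ≫ ·) (comm_22 (D := D') hs g' a b d e c₂ c₃ hd hA hB he hc₂ hc₃ 1 E)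
    simp only [MonObj.comp_mul, GrpObj.comp_inv, htr] at h1'
    have k2 := hcomm 1 E
    rw [h1'] at k2
    simp only [_root_.mul_one, one_pow, pow_two, hE, mul_zero, uPt_zero] at k2
    rw [show (2 : DualNumber K) = ((2 : ℕ) : DualNumber K) from Nat.cast_ofNat.symm, hscal,
      show (3 : DualNumber K) = ((3 : ℕ) : DualNumber K) from Nat.cast_ofNat.symm, hscal] at k2
    obtain ⟨-, z2⟩ := coeff_eq_zero (D := D') t ht' R' hR'' g ε j hε hce _ _ k2
    by_cases he' : e ∈ R'
    · exact Or.inl he'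
    have hu : ∀ σ : ℤˣ, ((σ : ℤ) : K) ≠ 0 := fun σ => by rcases sign_cases σ with h | h <;> simp [h]
    have h2 : ((2 : ℕ) : K) = 0 := (mul_eq_zero.mp (z1 he')).resolve_right (hu _)
    have h3 : ((3 : ℕ) : K) ≠ 0 := fun h3 => one_ne_zero (α := K) (by
      push_cast at h2 h3
      linear_combination h3 - h2)
    refine Or.inr ⟨?_, ?_⟩
    · by_contra hn
      exact h3 ((mul_eq_zero.mp (z2 hn)).resolve_right (hu _))
    · by_contra hn
      exact h3 ((mul_eq_zero.mp (z3 hn)).resolve_right (hu _))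

end Groth.Agent.H21Split.TypeR
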