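import Groth.Agent.H21Split.TypeR.RadPos
import Groth.Agent.H21Split.Bru.UPsi
import Groth.Agent.H21Split.RootLemmas

/-!
Subgroups normalising the unipotent group of a closed set of roots without opposite roots.
-/

open CategoryTheory MonoidalCategory CartesianMonoidalCategory MonObj GrpObj AlgebraicGeometry
open CategoryTheory.Limits

universe u

set_option autoImplicit false
set_option backward.isDefEq.respectTransparency false
set_option linter.style.haveILetI false
set_option linter.unusedSectionVars false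
set_option synthInstance.maxHeartbeats 400000
set_option maxHeartbeats 1000000

noncomputable section

namespace Groth.Agent.H21Split.TypeR

section Roots

variable {κ M N : Type} [Finite κ] [AddCommGroup M] [AddCommGroup N] (P : RootPairing κ ℤ M N) [P.IsReduced]

/-- combinations of a member of a closed set and a root preserving it -/
theorem comb_mem {Ψ : Set κ} (hcl : ∀ x y z : κ, x ∈ Ψ → y ∈ Ψ → P.root x + P.root y = P.root z → z ∈ Ψ)
    {b : κ} (hmix : ∀ x z : κ, x ∈ Ψ → P.root x + P.root b = P.root z → z ∈ Ψ) {c : κ} (hc : c ∈ Ψ)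
    (hne : c ≠ b) (hopp : P.root c ≠ -P.root b) :
    ∀ (n : ℕ) (p q : ℕ) (r : κ), p + q = n → 1 ≤ p → 1 ≤ q →
      P.root r = (p : ℤ) • P.root b + (q : ℤ) • P.root c → r ∈ Ψ := by
  haveI : Module.IsReflexive ℤ M := .of_isPerfPair P.toLinearMap
  haveI : IsAddTorsionFree M := .of_isTorsionFree ℤ M
  have hli : LinearIndependent ℤ ![P.root b, P.root c] := by
    refine RootPairing.IsReduced.linearIndependent P (fun e => hne e.symm) fun e => hopp ?_
    rw [e, neg_neg]
  have huniq : ∀ {s t s' t' : ℤ}, s • P.root b + t • P.root c = s' • P.root b + t' • P.root c → s = s' ∧ t = t' :=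
    fun {s t s' t'} h => LinearIndependent.eq_of_pair hli h
  intro n
  induction n using Nat.strong_induction_on with
  | _ n ih =>
    intro p q r hn hp hq hr
    have h2 : (2 : ℤ) = (p : ℤ) * P.pairing b r + (q : ℤ) * P.pairing c r := by
      have := congrArg (P.coroot' r) hr
      simpa [P.root_coroot'_eq_pairing] using this
    have hrb : r ≠ b := fun e => by
      have := huniq (s := (p : ℤ)) (t := (q : ℤ)) (s' := 1) (t' := 0) (by rw [← hr, e]; simp)
      omega
    have hrc : r ≠ c := fun e => by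
      have := huniq (s := (p : ℤ)) (t := (q : ℤ)) (s' := 0) (t' := 1) (by rw [← hr, e]; simp)
      omega
    rcases le_or_gt (P.pairing b r) 0 with hb | hb
    · have hc' : 0 < P.pairing c r := by
        by_contra hle
        push Not at hle
        have hp' : (0 : ℤ) ≤ p := by omega
        have hq' : (0 : ℤ) ≤ q := by omega
        nlinarith [mul_nonpos_of_nonneg_of_nonpos hp' hb, mul_nonpos_of_nonneg_of_nonpos hq' hle]
      obtain ⟨d, hd⟩ := H21Root.exists_sub_root P (i := c) (j := r) (by rw [pairingIn_int]; exact hc')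
        (fun e => hrc e.symm)
      obtain ⟨d', hd'⟩ : ∃ d', P.root d' = (p : ℤ) • P.root b + ((q : ℤ) - 1) • P.root c :=
        ⟨P.reflectionPerm d d, by rw [P.root_reflectionPerm, P.reflection_apply_self, hd, hr]; module⟩
      have hz : P.root d' + P.root c = P.root r := by rw [hd', hr]; module
      rcases Nat.lt_or_ge 1 q with h1 | h1
      · refine hcl d' c r (ih (p + (q - 1)) (by omega) p (q - 1) d' rfl hp (by omega) ?_) hc hz
        rw [hd']; congr 2; omega
      · obtain rfl : q = 1 := by omega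
        have h3 : P.root d' = p • P.root b := by rw [hd']; simp
        have hp1 : p = 1 := by
          by_contra hp1
          haveI : p.AtLeastTwo := ⟨by omega⟩
          exact P.nsmul_notMem_range_root ⟨d', h3⟩
        subst hp1
        exact hmix c r hc (by rw [hr]; module)
    · obtain ⟨d, hd⟩ := H21Root.exists_sub_root P (i := b) (j := r) (by rw [pairingIn_int]; exact hb)
        (fun e => hrb e.symm)
      obtain ⟨d', hd'⟩ : ∃ d', P.root d' = ((p : ℤ) - 1) • P.root b + (q : ℤ) • P.root c :=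
        ⟨P.reflectionPerm d d, by rw [P.root_reflectionPerm, P.reflection_apply_self, hd, hr]; module⟩
      have hz : P.root d' + P.root b = P.root r := by rw [hd', hr]; module
      rcases Nat.lt_or_ge 1 p with h1 | h1
      · refine hmix d' r (ih ((p - 1) + q) (by omega) (p - 1) q d' rfl (by omega) hq ?_) hz
        rw [hd']; congr 2; omega
      · obtain rfl : p = 1 := by omega
        have h3 : P.root d' = q • P.root c := by rw [hd']; simp
        have hq1 : q = 1 := by
          by_contra hq1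
          haveI : q.AtLeastTwo := ⟨by omega⟩
          exact P.nsmul_notMem_range_root ⟨d', h3⟩
        subst hq1
        exact hmix c r hc (by rw [hr]; module)

end Roots

variable {S : Scheme.{u}} {G : Over S} [GrpObj G] (D : Red.SplitRed G)

/-- a root group normalises the group of a closed set which it preserves -/
theorem uPt_conj_mem_closed [Nonempty S] {Ψ : Set D.idx}
    (hcl : ∀ x y z : D.idx, x ∈ Ψ → y ∈ Ψ → D.P.root x + D.P.root y = D.P.root z → z ∈ Ψ) {b : D.idx}
    (hmix : ∀ x z : D.idx, x ∈ Ψ → D.P.root x + D.P.root b = D.P.root z → z ∈ Ψ)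
    (hopp : D.P.reflectionPerm b b ∉ Ψ) {R : Type u} [CommRing R] (g : Spec (CommRingCat.of R) ⟶ S) {c : D.idx}
    (hc : c ∈ Ψ) (x y : R) : uPt g D b x * uPt g D c y * (uPt g D b x)⁻¹ ∈ Ug D g Ψ := by
  haveI := isAffineHom_hom D
  haveI := D.fintypeIdx
  haveI : Finite D.idx := Finite.of_fintype _
  haveI := H21Red0.isReduced_of_nonempty D
  rcases eq_or_ne c b with rfl | hne
  · exact mul_mem (mul_mem (uPt_mem_Ug D g hc x) (uPt_mem_Ug D g hc y)) (inv_mem (uPt_mem_Ug D g hc x))
  have hco : D.P.root c ≠ -D.P.root b := fun e => hopp (by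
    rw [show D.P.reflectionPerm b b = c from D.P.root.injective (by
      rw [D.P.root_reflectionPerm, D.P.reflection_apply_self, e])]
    exact hc)
  have hli : LinearIndependent ℤ ![D.P.root b, D.P.root c] := by
    refine RootPairing.IsReduced.linearIndependent D.P (fun e => hne e.symm) fun e => hco ?_
    rw [e, neg_neg]
  obtain ⟨n, e, he, hrange⟩ := exists_enum D {r | ∃ p q : ℕ, 1 ≤ p ∧ 1 ≤ q ∧
    D.P.root r = (p : ℤ) • D.P.root b + (q : ℤ) • D.P.root c}
  choose i j hi hj hij using fun k => hrange.subset ⟨k, rfl⟩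
  obtain ⟨C, hC, -⟩ := existsUnique_comm_core D g b c (fun p q hp _ h0 => by
      obtain ⟨h1, -⟩ := LinearIndependent.eq_of_pair hli (s' := 0) (t' := 0) (by rw [h0]; simp)
      omega) e i j he (fun k => ⟨hi k, hj k, hij k⟩) (fun r p q hp hq hr => by
      obtain ⟨k, rfl⟩ := hrange.symm.subset ⟨p, q, hp, hq, hr⟩
      obtain ⟨h1, h2⟩ := LinearIndependent.eq_of_pair hli ((hij k).symm.trans hr)
      exact ⟨k, rfl, by omega, by omega⟩)
  rw [hC R x y]
  refine mul_mem (uPt_mem_Ug D g hc y) (Subgroup.list_prod_mem _ fun z hz => ?_)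
  obtain ⟨k, rfl⟩ := List.mem_ofFn.mp hz
  exact uPt_mem_Ug D g (comb_mem D.P hcl hmix hc hne hco _ (i k) (j k) (e k) rfl (hi k) (hj k) (hij k)) _

variable {H : Over S} [GrpObj H] {h : H ⟶ G} [Smooth H.hom] [IsMonHom h] [IsImmersion h.left] [ConnectedSpace S]
  (t : D.T ⟶ H) (ht : t ≫ h = D.i) (R' : Set D.idx)
  (hR' : ∀ a : D.idx, (∃ v : Red.Ga S ⟶ H, v ≫ h = D.u a) ↔ a ∈ R')

include ht hR' in
/-- **A subgroup whose root groups normalise the unipotent group normalises it.** -/
theorem conj_prodMap_mem (hconn : RedSub.HasConnectedFibres H) {Ψ : Set D.idx} (hΨ : IsPosSet D.P Ψ) {m : ℕ}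
    {e : Fin m → D.idx} (he : RedSub.Enumerates Ψ e)
    (hconj : ∀ {R : Type u} [CommRing R] (g : Spec (CommRingCat.of R) ⟶ S) (b c : D.idx), b ∈ R' → c ∈ Ψ →
      ∀ x y : R, uPt g D b x * uPt g D c y * (uPt g D b x)⁻¹ ∈ Ug D g Ψ) {X : Over S} (x : X ⟶ H)
    (n : X ⟶ RedSub.pow (Red.Ga S) m) :
    ∃ n', (x ≫ h) * (n ≫ RedSub.prodMap (Red.Ga S) m (fun k => D.u (e k))) * (x ≫ h)⁻¹ =
      n' ≫ RedSub.prodMap (Red.Ga S) m (fun k => D.u (e k)) := by
  haveI := D.fintypeIdx
  haveI : Finite D.idx := Finite.of_fintype _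
  haveI := isAffineHom_hom D
  haveI : Mono h := (Over.forget S).mono_of_mono_map (inferInstanceAs (Mono h.left))
  haveI := mono_prodMap D hΨ he
  obtain ⟨b⟩ := H21Red0.nonempty_base D
  obtain ⟨r₁, en, hen⟩ := exists_extend D (Ψ := R' ∩ RedSub.negRoots D.P b) (n := 0) Fin.elim0
    (fun k => k.elim0) (fun k => k.elim0)
  obtain ⟨r₂, ep, hep⟩ := exists_extend D (Ψ := R' ∩ RedSub.posRoots D.P b) (n := 0) Fin.elim0
    (fun k => k.elim0) (fun k => k.elim0)
  obtain ⟨c, hc, hco⟩ := exists_cell_openImmersion D t ht R' hR' b _ _ hen hep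
  haveI := hco
  have h1 : ∀ s : S, η[H].left s ∈ Set.range c.left.base := fun s => by
    let o : 𝟙_ (Over S) ⟶ _ := lift (tuple (0 + r₁) fun _ => (1 : 𝟙_ (Over S) ⟶ Red.Ga S))
      (lift (1 : 𝟙_ (Over S) ⟶ D.T) (tuple (0 + r₂) fun _ => (1 : 𝟙_ (Over S) ⟶ Red.Ga S)))
    have ho : o ≫ c = η[H] := by
      rw [← cancel_mono h, Category.assoc, hc, show η[H] = (1 : 𝟙_ (Over S) ⟶ H) by
        rw [Hom.one_def, toUnit_unique (toUnit _) (𝟙 _), Category.id_comp], MonObj.one_comp]
      refine hom_ext_pt fun R _ g j => ?_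
      rw [← Category.assoc, comp_cellMap g D _ _ (j ≫ o) 1 (by
        rw [tPt_one]; simp [o, MonObj.one_comp])]
      have hz : ∀ (l : ℕ), gvs g (j ≫ (tuple l fun _ => (1 : 𝟙_ (Over S) ⟶ Red.Ga S))) = 0 := fun l => funext fun k => by
        rw [gvs, Category.assoc, tuple_pr, MonObj.comp_one, ← ga_zero g, gv_ga]; rfl
      simp only [o, Category.assoc, lift_fst, lift_snd_assoc, lift_snd, hz, cellPt, uProd_zero, tPt_one, _root_.one_mul, MonObj.comp_one]
    exact ⟨o.left.base s, congrArg (fun q : 𝟙_ (Over S) ⟶ H => q.left.base s) ho⟩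
  haveI := geometricallyIrreducible_of_connected hconn
  obtain ⟨Y', p, a₁, a₂, hp1, hp2, hp3, ha₁, ha₂, hab⟩ := exists_split_fppf c.left.opensRange h1 x
  haveI := hp1
  haveI := hp2
  haveI := hp3
  obtain ⟨za, hza⟩ := H21Rank1.exists_lift_of_range_subset c a₁ ha₁
  obtain ⟨zb, hzb⟩ := H21Rank1.exists_lift_of_range_subset c a₂ ha₂
  obtain ⟨w, hw⟩ : ∃ w, w ≫ RedSub.prodMap (Red.Ga S) m (fun k => D.u (e k)) =
      p ≫ ((x ≫ h) * (n ≫ RedSub.prodMap (Red.Ga S) m (fun k => D.u (e k))) * (x ≫ h)⁻¹) := by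
    refine exists_lift_prodMap D hΨ he _ fun R _ g j => ?_
    have hn1 := comp_prodMap_mem D hΨ he g (j ≫ p) n
    have key : ∀ (z : pt g R ⟶ _) (u : pt g R ⟶ G), u ∈ Ug D g Ψ →
        (z ≫ RedSub.cellMap D (Fin.append Fin.elim0 en) (Fin.append Fin.elim0 ep)) * u *
          (z ≫ RedSub.cellMap D (Fin.append Fin.elim0 en) (Fin.append Fin.elim0 ep))⁻¹ ∈ Ug D g Ψ := by
      intro z u hu
      obtain ⟨χ, hχ⟩ := exists_tPt g D (z ≫ snd _ _ ≫ fst _ _)
      rw [comp_cellMap g D _ _ z χ hχ, cellPt]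
      have hU : ∀ {l : ℕ} (e' : Fin l → D.idx), (∀ k, e' k ∈ R') → ∀ (y : Fin l → R), ∀ u ∈ Ug D g Ψ,
          uProd g D e' y * u * (uProd g D e' y)⁻¹ ∈ Ug D g Ψ := by
        intro l e' he' y u hu
        refine Subgroup.mem_normalizer_iff.mp ?_ u |>.mp hu
        rw [uProd]
        refine Subgroup.list_prod_mem _ fun q hq => ?_
        obtain ⟨k, rfl⟩ := List.mem_ofFn.mp hq
        have hcj : ∀ (r : R) (v : pt g R ⟶ G), v ∈ Ug D g Ψ →
            uPt g D (e' k) r * v * (uPt g D (e' k) r)⁻¹ ∈ Ug D g Ψ := fun r v hv =>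
          conj_Ug_le D g _ (fun c hc s => hconj g _ _ (he' k) hc r s) hv
        refine Subgroup.mem_normalizer_iff.mpr fun v => ⟨fun hv => hcj _ v hv, fun hv => ?_⟩
        have := hcj (-y k) _ hv
        rw [uPt_neg] at this
        simpa [_root_.mul_assoc] using this
      have h2 := hU (Fin.append Fin.elim0 ep) (fun k => (hep.2.subset ⟨k, rfl⟩).1)
        (gvs g (z ≫ snd _ _ ≫ snd _ _)) u hu
      have h3 := Tg_conj_mem D g (tPt_mem_Tg D g χ) h2
      have h4 := hU (Fin.append Fin.elim0 en) (fun k => (hen.2.subset ⟨k, rfl⟩).1) (gvs g (z ≫ fst _ _)) _ h3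
      convert h4 using 1
      simp only [_root_.mul_assoc, _root_.mul_inv_rev]
    simp only [MonObj.comp_mul, GrpObj.comp_inv]
    simp only [Category.assoc] at hn1
    have hx : j ≫ p ≫ x ≫ h = ((j ≫ za) ≫ RedSub.cellMap D (Fin.append Fin.elim0 en) (Fin.append Fin.elim0 ep)) *
        ((j ≫ zb) ≫ RedSub.cellMap D (Fin.append Fin.elim0 en) (Fin.append Fin.elim0 ep)) := by
      rw [← hc, ← Category.assoc p, hab, ← hza, ← hzb, MonObj.mul_comp, MonObj.comp_mul]
      simp only [Category.assoc]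
    rw [hx]
    have := key (j ≫ za) _ (key (j ≫ zb) _ hn1)
    simpa only [_root_.mul_assoc, _root_.mul_inv_rev] using this
  obtain ⟨n', hn'⟩ := exists_lift_epi p _ _ w hw
  exact ⟨n', hn'.symm⟩

include ht hR' in
/-- a unipotent radical of a subgroup with positive roots is parametrised by its root groups -/
theorem exists_iso_radical [QuasiCompact H.hom] (hconn : RedSub.HasConnectedFibres H) (b : D.P.Base)
    (hsub : R' ⊆ RedSub.posRoots D.P b) {U : Over S} [GrpObj U] (u : U ⟶ H) (hU : Par.IsUnipotentRadical u)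
    {m : ℕ} (e : Fin m → D.idx) (he : RedSub.Enumerates R' e) :
    ∃ ψ : RedSub.pow (Red.Ga S) m ≅ U, ψ.hom ≫ u ≫ h = RedSub.prodMap (Red.Ga S) m (fun k => D.u (e k)) := by
  obtain ⟨U₀, _, u₀, hu₀, -, -, hU₀, -, hψ⟩ := exists_unipotentRadical D t ht R' hR' hconn b hsub
  obtain ⟨ψ, hψ⟩ := hψ e he
  obtain ⟨hm, hc, hn, hs, hq, hf, hmax⟩ := hU
  obtain ⟨hm₀, hc₀, hn₀, hs₀, hq₀, hf₀, hmax₀⟩ := hU₀
  haveI := hm
  haveI := hm₀
  haveI := hc
  haveI := hc₀
  haveI : Mono u := Over.mono_of_mono_left _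
  haveI : Mono u₀ := Over.mono_of_mono_left _
  obtain ⟨a, ha⟩ := hmax U₀ u₀ hc₀ hn₀ hs₀ hq₀ hf₀
  obtain ⟨a', ha'⟩ := hmax₀ U u hc hn hs hq hf
  refine ⟨ψ ≪≫ ⟨a, a', ?_, ?_⟩, ?_⟩
  · rw [← cancel_mono u₀, Category.assoc, ha', ha, Category.id_comp]
  · rw [← cancel_mono u, Category.assoc, ha, ha', Category.id_comp]
  · rw [Iso.trans_hom, Category.assoc]
    change ψ.hom ≫ a ≫ u ≫ h = _
    rw [← Category.assoc a, ha, hψ]

end Groth.Agent.H21Split.TypeR
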