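import Groth.Agent.H21Split.TypeR.Trunc

/-!
A root homomorphism tangent to a smooth subgroup containing the torus factors through it.
-/

open CategoryTheory MonoidalCategory CartesianMonoidalCategory MonObj GrpObj AlgebraicGeometry
open CategoryTheory.Limits
open TrivSqZeroExt (inl inr)
open Polynomial (X C)

universe u

set_option backward.isDefEq.respectTransparency false
set_option linter.style.haveILetI false
set_option linter.unusedSectionVars false
set_option synthInstance.maxHeartbeats 400000
set_option maxHeartbeats 1000000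

noncomputable section

namespace Groth.Agent.H21Split.TypeR

/-- a localisation of polynomials which is faithfully flat over the constants -/
theorem faithfullyFlat_away {P : Type u} [CommRing P] (F : Polynomial P)
    (hF : ∀ q : Ideal P, q.IsPrime → F ∉ q.map C) :
    (algebraMap P (Localization.Away F)).FaithfullyFlat := by
  rw [RingHom.FaithfullyFlat.iff_flat_and_comap_surjective]
  have hfl : Module.Flat P (Localization.Away F) := by
    haveI : Module.Flat (Polynomial P) (Localization.Away F) := IsLocalization.flat _ (Submonoid.powers F)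
    exact Module.Flat.trans P (Polynomial P) _
  refine ⟨RingHom.flat_algebraMap_iff.mpr hfl, fun p => ?_⟩
  have hq : (p.asIdeal.map C : Ideal (Polynomial P)).IsPrime := Ideal.isPrime_map_C_of_isPrime
  obtain ⟨q', hq'⟩ : (⟨_, hq⟩ : PrimeSpectrum (Polynomial P)) ∈
      Set.range (PrimeSpectrum.comap (algebraMap (Polynomial P) (Localization.Away F))) := by
    rw [PrimeSpectrum.localization_away_comap_range (Localization.Away F) F]
    exact hF _ p.isPrime
  refine ⟨q', ?_⟩
  rw [show algebraMap P (Localization.Away F) = (algebraMap (Polynomial P) (Localization.Away F)).comp C from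
    IsScalarTower.algebraMap_eq P (Polynomial P) (Localization.Away F), PrimeSpectrum.comap_comp_apply, hq']
  apply PrimeSpectrum.ext
  change (p.asIdeal.map C).comap C = p.asIdeal
  exact le_antisymm (fun x hx => by simpa using (Ideal.mem_map_C_iff.mp hx) 0) Ideal.le_comap_map

/-- substituting `c - X` preserves the primes extended from the constants -/
theorem notMem_map_C_swap {P : Type u} [CommRing P] (c : P) (q : Ideal P) {Q : Polynomial P} (hQ : Q ∉ q.map C) :
    Polynomial.eval₂RingHom C (C c - X) Q ∉ q.map C := fun h => hQ (by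
  have hmap : (q.map C).map (Polynomial.eval₂RingHom C (C c - X)) = q.map C := by
    rw [Ideal.map_map]
    congr 1
    exact RingHom.ext fun r => by simp
  have hinv : (Polynomial.eval₂RingHom C (C c - X)).comp (Polynomial.eval₂RingHom C (C c - X)) =
      RingHom.id (Polynomial P) := Polynomial.ringHom_ext (fun r => by simp) (by simp)
  have h3 := Ideal.mem_map_of_mem (Polynomial.eval₂RingHom C (C c - X)) h
  rw [hmap] at h3
  rwa [← RingHom.comp_apply, hinv, RingHom.id_apply] at h3)

theorem add_X_swap {P : Type u} [CommRing P] (c : P) : (X : Polynomial P) + (C c - X) = C c := by ring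

section Glue

variable {S : Scheme.{u}} {G H : Over S} (h : H ⟶ G)

/-- lifts through a monomorphism glue -/
theorem exists_lift_of_locally [Mono h.left] {Z : Over S} (z : Z ⟶ G)
    (hz : ∀ x : Z.left, ∃ U : Z.left.Opens, x ∈ U ∧ ∃ w : U.toScheme ⟶ H.left, w ≫ h.left = U.ι ≫ z.left) :
    ∃ v : Z ⟶ H, v ≫ h = z := by
  choose U hU w hw using hz
  let cover := Z.left.openCoverOfIsOpenCover U (TopologicalSpace.IsOpenCover.mk (top_le_iff.mp
    fun x _ => TopologicalSpace.Opens.mem_iSup.mpr ⟨x, hU x⟩))
  let v : Z.left ⟶ H.left := cover.glueMorphisms w fun x y => by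
    rw [← cancel_mono h.left, Category.assoc, Category.assoc, hw, hw, ← Category.assoc, ← Category.assoc]
    exact congrArg (· ≫ z.left) pullback.condition
  have hv : v ≫ h.left = z.left := Scheme.Cover.hom_ext cover _ _ fun x => by
    rw [← Category.assoc, Scheme.Cover.ι_glueMorphisms]
    exact hw x
  refine ⟨Over.homMk v ?_, Over.OverMorphism.ext hv⟩
  rw [← Over.w h, ← Category.assoc, hv, Over.w]

end Glue

variable {S : Scheme.{u}} {G H : Over S} [GrpObj G] [GrpObj H] {h : H ⟶ G}
variable {R : Type u} [CommRing R] (g : Spec (CommRingCat.of R) ⟶ S) [IsAffineHom G.hom] (D : Red.SplitRed G) (a : D.idx)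

/-- **A neighbourhood of the zero section.** -/
theorem exists_away [IsImmersion h.left] [IsMonHom h]
    (htx : ∀ n : ℕ, Fac h (uPt g D a (tx R (n + 1)))) (p : PrimeSpectrum R) :
    ∃ F : Polynomial R, F.coeff 0 ∉ p.asIdeal ∧
      Fac h (uPt g D a (algebraMap (Polynomial R) (Localization.Away (C (F.coeff 0) * F)) X)) := by
  let u := (uPt g D a (X : Polynomial R)).left
  let W := h.left.coborderRange
  let q₀ : PrimeSpectrum (Polynomial R) :=
    PrimeSpectrum.comap (Polynomial.aeval (R := R) (0 : R)).toRingHom p
  have hq : u.base q₀ ∈ W := by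
    have h1 : pmap g (Polynomial.aeval (R := R) (0 : R)) ≫ uPt g D a (X : Polynomial R) = (1 : pt g R ⟶ H) ≫ h := by
      rw [pmap_uPt, Polynomial.aeval_X, uPt_zero, MonObj.one_comp]
    have h2 := congrArg (fun m : pt g R ⟶ G => m.left.base p) h1
    refine subset_coborder ⟨(1 : pt g R ⟶ H).left.base p, ?_⟩
    exact h2.symm
  obtain ⟨U, ⟨F, rfl⟩, hqF, hFW⟩ := PrimeSpectrum.isTopologicalBasis_basic_opens.exists_subset_of_mem_open
    (a := q₀) (u := u.base ⁻¹' (W : Set ↥G.left)) hq ((W.isOpen).preimage u.base.hom.continuous)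
  have hF0 : F.coeff 0 ∉ p.asIdeal := by
    rw [Polynomial.coeff_zero_eq_aeval_zero]
    exact hqF
  refine ⟨F, hF0, ?_⟩
  let K := C (F.coeff 0) * F
  let B := Localization.Away K
  let φ : Polynomial R →ₐ[R] B := IsScalarTower.toAlgHom R (Polynomial R) B
  let z := uPt g D a (algebraMap (Polynomial R) B X)
  have hzu : z.left = Spec.map (CommRingCat.ofHom (algebraMap (Polynomial R) B)) ≫ u := by
    have : z = pmap g φ ≫ uPt g D a (X : Polynomial R) := by rw [pmap_uPt]; rfl
    rw [this]; rfl
  have hzW : Set.range z.left.base ⊆ Set.range W.ι.base := by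
    rintro _ ⟨x, rfl⟩
    rw [Scheme.Opens.range_ι, hzu, Scheme.Hom.comp_apply]
    refine hFW ?_
    have := (PrimeSpectrum.localization_away_comap_range B K).subset ⟨x, rfl⟩
    exact fun hx => this (Ideal.mul_mem_left _ _ hx)
  let l := IsOpenImmersion.lift W.ι z.left hzW
  have hl : l ≫ W.ι = z.left := IsOpenImmersion.lift_fac _ _ _
  let c := pullback.fst l h.left.liftCoborder
  haveI : IsClosedImmersion c := inferInstanceAs (IsClosedImmersion (pullback.fst l h.left.liftCoborder))
  let f₀ := F.coeff 0
  let R' := Localization.Away f₀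
  have hunit : IsUnit (algebraMap R B f₀) := by
    have := IsLocalization.Away.algebraMap_isUnit (S := B) K
    rw [map_mul, IsUnit.mul_iff] at this
    exact this.1
  have hπ : ∀ n : ℕ, ∃ π : B →ₐ[R] TP R' (n + 1), π (algebraMap (Polynomial R) B X) = tx R' (n + 1) := by
    intro n
    let ψ : Polynomial R →ₐ[R] TP R' (n + 1) := Polynomial.aeval (tx R' (n + 1))
    have hK : IsUnit (ψ.toRingHom K) := by
      have hu : IsUnit (algebraMap R (TP R' (n + 1)) f₀) := by
        rw [IsScalarTower.algebraMap_apply R R' (TP R' (n + 1))]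
        exact (IsLocalization.Away.algebraMap_isUnit (S := R') f₀).map _
      obtain ⟨q, hq⟩ := Polynomial.X_dvd_sub_C (p := F)
      have hF : ψ F = algebraMap R _ f₀ + tx R' (n + 1) * ψ q := by
        rw [← sub_eq_iff_eq_add', ← Polynomial.aeval_C (tx R' (n + 1)) f₀]
        change Polynomial.aeval (tx R' (n + 1)) F - Polynomial.aeval _ (C f₀) = _
        rw [← map_sub, hq, map_mul, Polynomial.aeval_X]
      change IsUnit (ψ (C f₀ * F))
      rw [map_mul, IsUnit.mul_iff]
      refine ⟨by simpa [ψ] using hu, ?_⟩
      rw [hF]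
      exact IsNilpotent.isUnit_add_left_of_commute ⟨n + 1, by rw [mul_pow, tx_pow R' le_rfl, zero_mul]⟩ hu
        (Commute.all _ _)
    refine ⟨{ IsLocalization.Away.lift K hK with commutes' := fun r => ?_ }, ?_⟩
    · change IsLocalization.Away.lift K hK (algebraMap R B r) = _
      rw [IsScalarTower.algebraMap_apply R (Polynomial R) B, IsLocalization.Away.lift_eq]
      exact ψ.commutes r
    · change IsLocalization.Away.lift K hK (algebraMap (Polynomial R) B X) = _
      rw [IsLocalization.Away.lift_eq]
      exact Polynomial.aeval_X _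
  have hker : Function.Injective c.appTop := by
    refine (injective_iff_map_eq_zero c.appTop.hom).mpr fun b hb => ?_
    let b' := (Scheme.ΓSpecIso (CommRingCat.of B)).hom b
    have hzero : ∀ n, ∀ π : B →ₐ[R] TP R' (n + 1), π (algebraMap (Polynomial R) B X) = tx R' (n + 1) → π b' = 0 := by
      intro n π hπx
      obtain ⟨w, hw⟩ : Fac h (pmap g π ≫ z) := by
        have := (htx n).precomp (pmap g (tMap (n := n + 1) (Algebra.ofId R R')))
        rw [pmap_uPt, tMap_tx, ← hπx, ← pmap_uPt] at this
        exact this
      have hcond : Spec.map (CommRingCat.ofHom π.toRingHom) ≫ l = w.left ≫ h.left.liftCoborder := by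
        rw [← cancel_mono W.ι, Category.assoc, Category.assoc, hl, Scheme.Hom.liftCoborder_ι]
        exact (congrArg (fun m => Over.Hom.left m) hw).symm
      let s := pullback.lift (Spec.map (CommRingCat.ofHom π.toRingHom)) w.left hcond
      have hs : s ≫ c = Spec.map (CommRingCat.ofHom π.toRingHom) := pullback.lift_fst _ _ _
      have e1 := congrArg Scheme.Hom.appTop hs
      rw [Scheme.Hom.comp_appTop] at e1
      have e2 := ConcreteCategory.congr_hom (Scheme.ΓSpecIso_naturality (CommRingCat.ofHom π.toRingHom)) b
      rw [← e1] at e2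
      simp only at e2
      change π.toRingHom b' = 0
      erw [← e2]
      change (Scheme.ΓSpecIso (CommRingCat.of (TP R' (n + 1)))).hom.hom (s.appTop.hom (c.appTop.hom b)) = 0
      rw [hb, map_zero, map_zero]
    obtain ⟨P, ⟨_, k, rfl⟩, hPk⟩ := IsLocalization.exists_mk'_eq (Submonoid.powers K) b'
    have hmul : b' * algebraMap (Polynomial R) B (K ^ k) = algebraMap (Polynomial R) B P := by
      rw [← hPk]
      exact IsLocalization.mk'_spec (M := Submonoid.powers K) B P _
    have hP0 : P.map (algebraMap R R') = 0 := by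
      refine Polynomial.ext fun m => ?_
      obtain ⟨π, hπx⟩ := hπ m
      have hcomp : ∀ Q : Polynomial R, π (algebraMap (Polynomial R) B Q) =
          Ideal.Quotient.mk _ (Q.map (algebraMap R R')) := by
        intro Q
        have e : (π.comp (IsScalarTower.toAlgHom R (Polynomial R) B)) =
            (Ideal.Quotient.mkₐ R _).comp (Polynomial.mapAlgHom (Algebra.ofId R R')) := by
          refine Polynomial.algHom_ext ?_
          simp only [AlgHom.comp_apply, IsScalarTower.coe_toAlgHom', hπx]
          simp [Polynomial.mapAlgHom, tx]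
        exact AlgHom.congr_fun e Q
      have := congrArg π hmul
      rw [map_mul, hzero m π hπx, zero_mul, hcomp] at this
      have h3 := Ideal.mem_span_singleton.mp (Ideal.Quotient.eq_zero_iff_mem.mp this.symm)
      simpa using (Polynomial.X_pow_dvd_iff.mp h3) m (Nat.lt_succ_self m)
    have hb' : b' = 0 := by
      have h4 : (Polynomial.eval₂RingHom (IsLocalization.Away.lift f₀ hunit : R' →+* B)
          (algebraMap (Polynomial R) B X)).comp (Polynomial.mapRingHom (algebraMap R R')) =
            algebraMap (Polynomial R) B := by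
        refine Polynomial.ringHom_ext (fun r => ?_) (by simp)
        simp only [RingHom.comp_apply, Polynomial.coe_mapRingHom, Polynomial.map_C, Polynomial.coe_eval₂RingHom,
          Polynomial.eval₂_C, IsLocalization.Away.lift_eq]
        exact IsScalarTower.algebraMap_apply R (Polynomial R) B r
      have h5 : algebraMap (Polynomial R) B P = 0 := by
        rw [← h4, RingHom.comp_apply, Polynomial.coe_mapRingHom, hP0, map_zero]
      rw [h5] at hmul
      exact (((IsLocalization.Away.algebraMap_isUnit (S := B) K).pow k).map (RingHom.id B)).mul_left_eq_zero.mp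
        (by simpa [map_pow] using hmul)
    have := congrArg (Scheme.ΓSpecIso (CommRingCat.of B)).inv hb'
    simpa [b'] using this
  haveI : IsAffine (pt g B).left := inferInstanceAs (IsAffine (Spec (CommRingCat.of B)))
  haveI : IsIso c := IsClosedImmersion.isIso_of_injective_of_isAffine hker
  let v := inv c ≫ pullback.snd l h.left.liftCoborder
  have hv : v ≫ h.left = z.left := by
    rw [← h.left.liftCoborder_ι, Category.assoc,
      ← reassoc_of% (pullback.condition : c ≫ l = pullback.snd l h.left.liftCoborder ≫ _), IsIso.inv_hom_id_assoc, hl]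
  exact ⟨Over.homMk v (by rw [← Over.w h, ← Category.assoc, hv, Over.w]), Over.OverMorphism.ext hv⟩

theorem fac_uPt_of_unit [IsMonHom h] {K : Polynomial R}
    (hF : Fac h (uPt g D a (algebraMap (Polynomial R) (Localization.Away K) X))) {B : Type u} [CommRing B]
    [Algebra R B] (y : B) (hy : IsUnit (Polynomial.aeval (R := R) y K)) : Fac h (uPt g D a y) := by
  have hy' : IsUnit ((Polynomial.aeval (R := R) y).toRingHom K) := hy
  let π : Localization.Away K →ₐ[R] B :=
    { IsLocalization.Away.lift K hy' with
      commutes' := fun r => by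
        change IsLocalization.Away.lift K hy' (algebraMap R _ r) = _
        rw [IsScalarTower.algebraMap_apply R (Polynomial R) (Localization.Away K), IsLocalization.Away.lift_eq]
        exact (Polynomial.aeval y).commutes r }
  have := hF.precomp (pmap g π)
  rw [pmap_uPt] at this
  convert this using 2
  change _ = IsLocalization.Away.lift K hy' (algebraMap (Polynomial R) _ X)
  rw [IsLocalization.Away.lift_eq]
  simp

/-- **Generation by the neighbourhood.** -/
theorem fac_uPt_X [IsMonHom h] [Mono h] {F : Polynomial R}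
    (hF : Fac h (uPt g D a (algebraMap (Polynomial R) (Localization.Away (C (F.coeff 0) * F)) X))) :
    Fac h (uPt g D a (X : Polynomial (Localization.Away (F.coeff 0)))) := by
  let R' := Localization.Away (F.coeff 0)
  let K := C (F.coeff 0) * F
  let P := Polynomial R'
  let i : R →ₐ[R] R' := Algebra.ofId R R'
  let κ : Polynomial R →ₐ[R] Polynomial P := Polynomial.aeval (X : Polynomial P)
  let ρ : Polynomial P →+* Polynomial P := Polynomial.eval₂RingHom C (C (X : P) - X)
  have hρκ : ∀ Q, ρ (κ Q) = Polynomial.aeval (C (X : P) - X) Q := fun Q => by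
    have hC : ∀ r, ρ (algebraMap R (Polynomial P) r) = algebraMap R (Polynomial P) r := fun r => by
      rw [IsScalarTower.algebraMap_apply R P (Polynomial P), Polynomial.algebraMap_apply]
      exact Polynomial.eval₂_C _ _
    have e : ({ ρ with commutes' := hC } : Polynomial P →ₐ[R] Polynomial P).comp κ =
        Polynomial.aeval (C (X : P) - X) := by
      refine Polynomial.algHom_ext ?_
      simp only [κ, AlgHom.comp_apply, Polynomial.aeval_X]
      exact Polynomial.eval₂_X _ _
    exact AlgHom.congr_fun e Q
  let G₁ := κ K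
  let G₂ := ρ G₁
  have hG : ∀ q : Ideal P, q.IsPrime → G₁ * G₂ ∉ q.map C := by
    intro q hq
    have hpr : (q.map C : Ideal (Polynomial P)).IsPrime := Ideal.isPrime_map_C_of_isPrime
    have h1 : G₁ ∉ q.map C := fun h => by
      have h1 := Ideal.mem_map_C_iff.mp h 0
      rw [show G₁.coeff 0 = algebraMap R P (F.coeff 0 * F.coeff 0) by
        have e : ((Polynomial.aeval (R := P) (0 : P)).restrictScalars R).comp κ =
            (Algebra.ofId R P).comp (Polynomial.aeval (R := R) (0 : R)) := by
          refine Polynomial.algHom_ext ?_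
          simp [κ]
        rw [Polynomial.coeff_zero_eq_aeval_zero]
        refine (AlgHom.congr_fun e K).trans ?_
        simp [K, Algebra.ofId_apply, ← Polynomial.coeff_zero_eq_eval_zero]] at h1
      refine hq.ne_top (Ideal.eq_top_of_isUnit_mem _ h1 ?_)
      rw [IsScalarTower.algebraMap_apply R R' P, map_mul, map_mul]
      exact ((IsLocalization.Away.algebraMap_isUnit (S := R') (F.coeff 0)).map (algebraMap R' P)).mul
        ((IsLocalization.Away.algebraMap_isUnit (S := R') (F.coeff 0)).map (algebraMap R' P))
    exact fun h => (hpr.mem_or_mem h).elim h1 (notMem_map_C_swap (X : P) q h1)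
  let B := Localization.Away (G₁ * G₂)
  have hu := IsLocalization.Away.algebraMap_isUnit (S := B) (G₁ * G₂)
  rw [map_mul, IsUnit.mul_iff] at hu
  let φ : Polynomial P →ₐ[R] B := IsScalarTower.toAlgHom R (Polynomial P) B
  have h1 := fac_uPt_of_unit g D a hF (φ X) (by rw [Polynomial.aeval_algHom_apply]; exact hu.1)
  have h2 := fac_uPt_of_unit g D a hF (φ (C (X : P) - X))
    (by rw [Polynomial.aeval_algHom_apply, ← hρκ K]; exact hu.2)
  refine fac_descend g (IsScalarTower.toAlgHom R P B) (faithfullyFlat_away _ hG) ?_
  rw [pmap_uPt]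
  have := h1.mul h2
  rw [← uPt_add, ← map_add, show (X : Polynomial P) + (C (X : P) - X) = C X from add_X_swap (X : P)] at this
  exact this

/-- **A root homomorphism whose vector lies in the subgroup factors through it.** -/
theorem exists_factor [IsImmersion h.left] [IsMonHom h] [Smooth H.hom] (t : D.T ⟶ H) (ht : t ≫ h = D.i)
    (hroot : ∀ (b : D.idx) (m : ℕ), 2 ≤ m → D.P.root b ≠ m • D.P.root a)
    (ha : ∀ (R : Type u) [CommRing R] (g : Spec (CommRingCat.of R) ⟶ S) [IsOpenImmersion g] (A : Type u) [CommRing A]
      [Algebra R A] [Algebra.Smooth R A] (ε : A →ₐ[R] R) (j : pt g A ⟶ H) [IsOpenImmersion j.left],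
      pmap g ε ≫ j = (1 : pt g R ⟶ H) → Fac h (uPt g D a (inr 1 : DualNumber R))) :
    ∃ v : Red.Ga S ⟶ H, v ≫ h = D.u a := by
  haveI : Mono h := (Over.forget S).mono_of_mono_map (inferInstanceAs (Mono h.left))
  refine exists_lift_of_locally h (D.u a) fun x => ?_
  obtain ⟨R, iR, g, hg, ⟨p, hp⟩, A, iA, iAR, iAs, ε, j, hj, hε⟩ := exists_chart (H := H) ((Red.Ga S).hom.base x)
  letI := iR
  letI := iA
  letI := iAR
  haveI := iAs
  haveI := hj
  haveI := hg
  obtain ⟨F, hF0, hF⟩ := exists_away g D a (fac_uPt_tx g ε j hε D t ht a hroot (ha R g A ε j hε)) p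
  have hX := fac_uPt_X g D a hF
  let R' := Localization.Away (F.coeff 0)
  let g' := Spec.map (CommRingCat.ofHom (algebraMap R R')) ≫ g
  have hxg : (Red.Ga S).hom.base x ∈ Set.range g'.base := by
    have : p ∈ Set.range (PrimeSpectrum.comap (algebraMap R R')) := by
      rw [PrimeSpectrum.localization_away_comap_range R' (F.coeff 0)]
      exact hF0
    obtain ⟨p', rfl⟩ := this
    exact ⟨p', hp⟩
  obtain ⟨V, hV, hxV, hVle⟩ := exists_isAffineOpen_mem_and_subset
    (U := (Red.Ga S).hom ⁻¹ᵁ g'.opensRange) (x := x) hxg
  have hr : Set.range (hV.fromSpec ≫ (Red.Ga S).hom).base ⊆ Set.range g'.base := by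
    rintro _ ⟨y, rfl⟩
    exact hVle (show hV.fromSpec.base y ∈ V by rw [← SetLike.mem_coe, ← hV.range_fromSpec]; exact ⟨y, rfl⟩)
  obtain ⟨ψ, hψ⟩ := Spec.map_surjective (IsOpenImmersion.lift g' _ hr)
  let B : Type u := Γ((Red.Ga S).left, V)
  letI : Algebra R' B := ψ.hom.toAlgebra
  letI : Algebra R B := ((algebraMap R' B).comp (algebraMap R R')).toAlgebra
  haveI : IsScalarTower R R' B := IsScalarTower.of_algebraMap_eq fun r => rfl
  have hι : hV.fromSpec ≫ (Red.Ga S).hom = (pt g B).hom := by
    change _ = Spec.map (CommRingCat.ofHom ((algebraMap R' B).comp (algebraMap R R'))) ≫ g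
    rw [CommRingCat.ofHom_comp, Spec.map_comp, Category.assoc]
    exact (IsOpenImmersion.lift_fac g' _ hr).symm.trans (congrArg (· ≫ g') hψ.symm)
  let z : pt g B ⟶ Red.Ga S := Over.homMk hV.fromSpec hι
  obtain ⟨w, hw⟩ := hX.precomp (pmap g ((Polynomial.aeval (R := R') (gv g z)).restrictScalars R))
  rw [pmap_uPt] at hw
  have hw' : w ≫ h = z ≫ D.u a := by
    rw [hw]
    simp [uPt, ga_gv]
  refine ⟨V, hxV, hV.isoSpec.hom ≫ w.left, ?_⟩
  have e := congrArg (fun m => Over.Hom.left m) hw'
  simp only [Over.comp_left] at e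
  rw [Category.assoc, e]
  change hV.isoSpec.hom ≫ hV.fromSpec ≫ (D.u a).left = _
  rw [← Category.assoc, hV.isoSpec_hom_fromSpec]

end Groth.Agent.H21Split.TypeR
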