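import Groth.Agent.H21Split.TypeR.Roots

/-!
The subgroup meets the root groups outside its roots trivially.
-/

open CategoryTheory MonoidalCategory CartesianMonoidalCategory MonObj GrpObj AlgebraicGeometry
open CategoryTheory.Limits
open TrivSqZeroExt (inl inr)
open Polynomial (X C)

universe u

set_option backward.isDefEq.respectTransparency false
set_option linter.style.haveILetI false
set_option linter.unusedSectionVars false
set_option synthInstance.maxHeartbeats 400000
set_option maxHeartbeats 1000000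

noncomputable section

namespace Groth.Agent.H21Split.TypeR

/-- a root of a unit after a faithfully flat extension -/
theorem exists_root_unit {R B : Type u} [CommRing R] [CommRing B] [Algebra R B] {n : ℕ} (hn : 0 < n) (z : Bˣ) :
    ∃ (B' : Type u) (_ : CommRing B') (_ : Algebra R B') (f : B →ₐ[R] B') (w : B'ˣ),
      f.toRingHom.FaithfullyFlat ∧ (w : B') ^ n = f z := by
  let P : Polynomial B := X ^ n - C (z : B)
  have hP : P.Monic := Polynomial.monic_X_pow_sub_C _ hn.ne'
  let B' := AdjoinRoot P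
  letI : Algebra R B' := inferInstance
  have hff : (algebraMap B B').FaithfullyFlat := by
    haveI := hP.free_adjoinRoot
    rcases subsingleton_or_nontrivial B with hB | hB
    · rw [RingHom.FaithfullyFlat.iff_flat_and_comap_surjective]
      refine ⟨RingHom.flat_algebraMap_iff.mpr inferInstance, fun p => ?_⟩
      exact absurd (Subsingleton.elim (1 : B) 0 ▸ p.asIdeal.zero_mem) fun h => p.isPrime.ne_top ((Ideal.eq_top_iff_one _).mpr h)
    · let bs := (AdjoinRoot.powerBasis' hP).basis
      have hdim : 0 < (AdjoinRoot.powerBasis' hP).dim := by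
        change 0 < P.natDegree
        rw [Polynomial.natDegree_X_pow_sub_C]
        exact hn
      haveI : Nontrivial B' := ⟨⟨bs ⟨0, hdim⟩, 0, bs.ne_zero _⟩⟩
      exact RingHom.faithfullyFlat_algebraMap_iff.mpr inferInstance
  have hroot : AdjoinRoot.root P ^ n = algebraMap B B' z := by
    have h := AdjoinRoot.eval₂_root P
    rw [Polynomial.eval₂_sub, Polynomial.eval₂_X_pow, Polynomial.eval₂_C, sub_eq_zero] at h
    exact h
  have hu : IsUnit (AdjoinRoot.root P) := by
    refine (isUnit_pow_iff hn.ne').mp ?_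
    rw [hroot]
    exact z.isUnit.map _
  exact ⟨B', inferInstance, inferInstance, IsScalarTower.toAlgHom R B B', hu.unit, hff, hroot⟩

variable {S : Scheme.{u}} {G H : Over S} [GrpObj G] [GrpObj H] {h : H ⟶ G} [IsAffineHom G.hom] {D : Red.SplitRed G}
  [IsMonHom h] [Mono h] (t : D.T ⟶ H) (ht : t ≫ h = D.i)
variable {R : Type u} [CommRing R] (g : Spec (CommRingCat.of R) ⟶ S) {B : Type u} [CommRing B] [Algebra R B]

include ht in
/-- the scalars of a root group preserve the subgroup -/
theorem fac_mul_unit (a : D.idx) {b : B} (hb : Fac h (uPt g D a b)) (z : Bˣ) : Fac h (uPt g D a ((z : B) * b)) := by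
  haveI := D.finiteM
  haveI := D.freeM
  obtain ⟨ν, hν⟩ := exists_dual_ne_zero (fun _ : Unit => D.P.root a)
  have hn : ν (D.P.root a) ≠ 0 := hν () (D.P.ne_zero a)
  obtain ⟨B', iB', iA', F, w, hff, hw⟩ := exists_root_unit (R := R) (Int.natAbs_pos.mpr hn) z
  letI := iB'
  letI := iA'
  let χ : Multiplicative D.M →* B' :=
    (Units.coeHom B').comp ((zpowersHom B'ˣ w).comp (AddMonoidHom.toMultiplicative
      ((if 0 ≤ ν (D.P.root a) then (1 : ℤ) else -1) • ν)))
  have hχ : χ (Multiplicative.ofAdd (D.P.root a)) = F z := by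
    rw [← hw]
    change ((w ^ ((if 0 ≤ ν (D.P.root a) then (1 : ℤ) else -1) * ν (D.P.root a)) : B'ˣ) : B') = _
    have hs : (if 0 ≤ ν (D.P.root a) then (1 : ℤ) else -1) * ν (D.P.root a) = ((ν (D.P.root a)).natAbs : ℤ) := by
      split_ifs with h0 <;> omega
    rw [hs, zpow_natCast, Units.val_pow_eq_pow_val]
  have h1 := ((fac_tPt g D t ht χ).mul (hb.precomp (pmap g F))).mul (fac_tPt g D t ht χ).inv
  rw [pmap_uPt, tPt_conj, hχ, ← map_mul] at h1
  refine fac_descend g F hff ?_
  rwa [pmap_uPt]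

variable [Mono g] {A : Type u} [CommRing A] [Algebra R A] (ε : A →ₐ[R] R) (j : pt g A ⟶ H) [IsOpenImmersion j.left]
  (hε : pmap g ε ≫ j = (1 : pt g R ⟶ H))

include hε in
/-- a point of the subgroup congruent to the unit gives a Lie vector of the subgroup -/
theorem exists_lie_of_congr (I : Ideal B) (hI : I * I = ⊥) {ψ : pt g B ⟶ G} (hψ : Fac h ψ)
    (h1 : pmap g (Ideal.Quotient.mkₐ R I) ≫ ψ = 1) :
    ∃ φ : pt g (DualNumber B) ⟶ G, IsLie g φ ∧ Fac h φ ∧ lieDev g φ = dev g ψ := by
  obtain ⟨w, rfl⟩ := hψ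
  have hw1 : pmap g (Ideal.Quotient.mkₐ R I) ≫ w = 1 := by
    rw [← cancel_mono h, Category.assoc, h1, MonObj.one_comp]
  have hr : Set.range w.left.base ⊆ Set.range j.left.base := by
    refine range_subset_of_nilpotent g (Ideal.Quotient.mkₐ R I) Ideal.Quotient.mk_surjective (fun x hx => ?_) w ?_
    · rw [Ideal.Quotient.mkₐ_eq_mk, Ideal.Quotient.eq_zero_iff_mem] at hx
      exact ⟨2, by rw [pow_two, ← Ideal.mem_bot, ← hI]; exact Ideal.mul_mem_mul hx hx⟩
    · rw [hw1, ← comp_fn_comp g ε j hε (B ⧸ I)]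
      rintro _ ⟨p, rfl⟩
      exact ⟨_, rfl⟩
  obtain ⟨f, rfl⟩ := exists_algHom g j w hr
  haveI : Mono j := (Over.forget S).mono_of_mono_map (inferInstanceAs (Mono j.left))
  rw [← comp_fn_comp g ε j hε (B ⧸ I), ← Category.assoc, pmap_comp, cancel_mono] at hw1
  have hmem : ∀ x, f x - algebraMap R B (ε x) ∈ I := fun x => by
    rw [← Ideal.Quotient.mk_eq_mk_iff_sub_mem]
    exact AlgHom.congr_fun (pmap_injective g hw1) x
  let δ : A →ₗ[R] B := f.toLinearMap - ((Algebra.ofId R B).comp ε).toLinearMap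
  have hδ : IsDer ε δ := by
    intro x y
    have h0 : (f x - algebraMap R B (ε x)) * (f y - algebraMap R B (ε y)) = 0 := by
      rw [← Ideal.mem_bot, ← hI]; exact Ideal.mul_mem_mul (hmem x) (hmem y)
    simp only [δ, LinearMap.sub_apply, AlgHom.toLinearMap_apply, map_mul, AlgHom.comp_apply, Algebra.ofId_apply]
    linear_combination h0
  obtain ⟨φ, hφ, hfac, hd⟩ := exists_lie_of_chart g ε j hε h hδ
  refine ⟨φ, hφ, hfac, hd.trans (LinearMap.ext fun x => ?_)⟩
  simp [δ, dev, fn_pmap, Category.assoc, eps_eq g ε j hε h]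

variable [Smooth H.hom] [IsImmersion h.left] [ConnectedSpace S] [Algebra.Smooth R A]
  (R' : Set D.idx) (hR' : ∀ a : D.idx, (∃ v : Red.Ga S ⟶ H, v ≫ h = D.u a) ↔ a ∈ R')

include ht hR' hε in
/-- **A point of a root group outside the roots lies in the subgroup only if it is trivial.** -/
theorem eq_zero_of_fac [IsOpenImmersion g] {a : D.idx} (ha : a ∉ R') {b : B} (hb : Fac h (uPt g D a b)) : b = 0 := by
  have hfield : ∀ p : Ideal B, p.IsPrime → b ∈ p := by
    intro p hp
    let K := p.ResidueField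
    let q : B →ₐ[R] K := IsScalarTower.toAlgHom R B K
    by_contra hbp
    have hbK : q b ≠ 0 := fun h0 => hbp (by
      rw [← Ideal.ker_algebraMap_residueField p]; exact h0)
    have h1 : Fac h (uPt g D a (inl (q b) : DualNumber K)) := by
      have := hb.precomp (pmap g ((IsScalarTower.toAlgHom R K (DualNumber K)).comp q))
      rw [pmap_uPt] at this
      exact this
    let z : (DualNumber K)ˣ := ⟨1 + inr 1, 1 - inr 1, by ext <;> simp, by ext <;> simp⟩
    have h2 : Fac h (uPt g D a (inr (q b) : DualNumber K)) := by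
      have := (fac_mul_unit t ht g a h1 z).mul h1.inv
      rw [← uPt_neg, ← uPt_add] at this
      convert this using 2
      change _ = (1 + inr 1) * inl (q b) + -inl (q b)
      ext <;> simp
    exact hbK ((fac_uPt_inr_iff t ht R' hR' g ε j hε a (q b)).mp h2 ha)
  obtain ⟨n, hn⟩ : IsNilpotent b := nilpotent_iff_mem_prime.mpr hfield
  let I := Ideal.span {b ^ 2}
  let B₀ := B ⧸ I
  let b₀ : B₀ := Ideal.Quotient.mk I b
  have hb₀ : b₀ * b₀ = 0 := by
    rw [← map_mul, ← pow_two, Ideal.Quotient.eq_zero_iff_mem]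
    exact Ideal.mem_span_singleton_self _
  have hb1 : Fac h (uPt g D a b₀) := by
    have := hb.precomp (pmap g (Ideal.Quotient.mkₐ R I))
    rwa [pmap_uPt] at this
  let J : Ideal B₀ := Ideal.span {b₀}
  obtain ⟨φ, hφ, hfac, hd⟩ := exists_lie_of_congr g ε j hε J
    (by rw [Ideal.span_singleton_mul_span_singleton, hb₀, Ideal.span_singleton_eq_bot]) hb1
    (by rw [pmap_uPt, Ideal.Quotient.mkₐ_eq_mk, Ideal.Quotient.eq_zero_iff_mem.mpr (Ideal.mem_span_singleton_self _),
      uPt_zero])
  have hφu : φ = uPt g D a (inr b₀ : DualNumber B₀) := by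
    refine eq_of_lieDev hφ (isLie_uPt_inr g D a b₀) (hd.trans (LinearMap.ext fun x => ?_))
    let F : DualNumber B₀ →ₐ[R] B₀ :=
      { toFun := fun d => TrivSqZeroExt.fst d + TrivSqZeroExt.snd d * b₀
        map_one' := by simp
        map_zero' := by simp
        map_add' := fun d d' => by simp; ring
        map_mul' := fun d d' => by
          simp only [TrivSqZeroExt.fst_mul, DualNumber.snd_mul]
          linear_combination -(TrivSqZeroExt.snd d * TrivSqZeroExt.snd d') * hb₀
        commutes' := fun r => by simp [TrivSqZeroExt.algebraMap_eq_inl'] }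
    have hF : uPt g D a b₀ = pmap g F ≫ uPt g D a (inr 1 : DualNumber B₀) := by
      rw [pmap_uPt]; congr 1; simp [F]
    rw [hF, dev_pmap, (isLie_uPt_inr g D a (1 : B₀)).dev_eq, lieDev_uPt, lieDev_uPt]
    simp [F, mul_comm]
  have hz : b₀ = 0 := (fac_uPt_inr_iff t ht R' hR' g ε j hε a b₀).mp (hφu ▸ hfac) ha
  rw [Ideal.Quotient.eq_zero_iff_mem, Ideal.mem_span_singleton] at hz
  obtain ⟨y, hy⟩ := hz
  have hu : IsUnit (1 - b * y) := IsNilpotent.isUnit_one_sub ⟨n, by rw [mul_pow, hn, zero_mul]⟩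
  exact hu.mul_left_eq_zero.mp (by linear_combination hy)

end Groth.Agent.H21Split.TypeR
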