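import Groth.Agent.H21Split.TypeR.Asym

/-!
The symmetric part and the unipotent part of the roots of a subgroup.
-/

namespace Groth.Agent.H21Split.TypeR

open RootPairing

set_option linter.style.haveILetI false
set_option linter.unusedSectionVars false

variable {ι M N : Type} [Finite ι] [AddCommGroup M] [AddCommGroup N] (P : RootPairing ι ℤ M N) [P.IsReduced]

/-- the properties of the roots of a subgroup containing the maximal torus -/
structure RootsLike (R' : Set ι) : Prop where
  sum : SumClosed P R'
  refl : ∀ c x : ι, c ∈ R' → P.reflectionPerm c c ∈ R' → x ∈ R' → P.reflectionPerm c x ∈ R'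
  long : ∀ a b c₂ : ι, a ∈ R' → b ∈ R' → P.pairing b a = -3 → P.pairing a b = -1 →
    P.root c₂ = (2 : ℤ) • P.root a + P.root b → c₂ ∈ R'

/-- the roots whose opposite is not a root of the subgroup -/
def uPart (R' : Set ι) : Set ι := {x | x ∈ R' ∧ P.reflectionPerm x x ∉ R'}

/-- the roots whose opposite is a root of the subgroup -/
def sPart (R' : Set ι) : Set ι := {x | x ∈ R' ∧ P.reflectionPerm x x ∈ R'}

theorem perm_self_self (a : ι) : P.reflectionPerm a (P.reflectionPerm a a) = a := P.reflectionPerm_self a a

theorem opp_refl (c x : ι) :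
    P.reflectionPerm (P.reflectionPerm c x) (P.reflectionPerm c x) = P.reflectionPerm c (P.reflectionPerm x x) := by
  refine P.root.injective ?_
  rw [root_neg, P.root_reflectionPerm, P.root_reflectionPerm, P.root_reflectionPerm, P.reflection_apply_self, map_neg]

variable {R' : Set ι}

theorem opp_mem_sPart {c : ι} (hc : c ∈ sPart P R') : P.reflectionPerm c c ∈ sPart P R' :=
  ⟨hc.2, by rw [opp_refl, perm_self_self]; exact hc.1⟩

theorem RootsLike.refl_uPart (h : RootsLike P R') {c x : ι} (hc : c ∈ sPart P R') (hx : x ∈ uPart P R') :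
    P.reflectionPerm c x ∈ uPart P R' := by
  refine ⟨h.refl c x hc.1 hc.2 hx.1, fun hn => hx.2 ?_⟩
  rw [opp_refl] at hn
  simpa [P.reflectionPerm_self] using h.refl c _ hc.1 hc.2 hn

/-- a sum of two roots of the unipotent part is not in the symmetric part -/
theorem RootsLike.sum_uPart (h : RootsLike P R') {x y e : ι} (hx : x ∈ uPart P R') (hy : y ∈ uPart P R')
    (he : P.root e = P.root x + P.root y) (heR : e ∈ R') : e ∈ uPart P R' := by
  haveI : Module.IsReflexive ℤ M := .of_isPerfPair P.toLinearMap
  haveI : IsAddTorsionFree M := .of_isTorsionFree ℤ M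
  refine ⟨heR, fun heO => ?_⟩
  have hsum : P.pairing x e + P.pairing y e = 2 := by
    rw [← P.root_coroot'_eq_pairing, ← P.root_coroot'_eq_pairing, ← map_add, ← he, P.root_coroot'_eq_pairing,
      P.pairing_same]
  suffices key : ∀ x y : ι, x ∈ uPart P R' → y ∈ uPart P R' → P.root e = P.root x + P.root y →
      1 ≤ P.pairing x e → False by
    rcases lt_or_ge (P.pairing x e) 1 with h1 | h1
    · exact key y x hy hx (by rw [he, add_comm]) (by omega)
    · exact key x y hx hy he h1
  intro x y hx hy he hp
  let z := P.reflectionPerm e x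
  have hz : z ∈ R' := h.refl e x heR heO hx.1
  have hze : P.pairing z e = -P.pairing x e := by
    rw [← P.root_coroot'_eq_pairing, root_refl, map_sub, map_zsmul, P.root_coroot'_eq_pairing,
      P.root_coroot'_eq_pairing, P.pairing_same, smul_eq_mul]
    ring
  have hopp : ∀ r ∈ R', P.root r = -P.root y → False := fun r hr hre => hy.2 (by
    rwa [show P.reflectionPerm y y = r from P.root.injective (by rw [root_neg, hre])])
  have hzne : P.root z ≠ -P.root e := fun hh => hx.2 (by
    have hxe : x = e := by
      have h2 : P.reflectionPerm e x = P.reflectionPerm e e := P.root.injective (by rw [hh, root_neg])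
      exact (P.reflectionPerm e).injective h2
    rw [hxe]; exact heO)
  have hind := indep_of_pairing_neg P (a := e) (b := z) (by omega) hzne
  have h4 := R2.pairing_prod_lt_four P hind
  have hpos := R2.pairing_prod_nonneg P e z
  rw [hze] at h4 hpos
  have hne0 : P.pairing e z ≠ 0 := fun h0 => by rw [P.pairing_eq_zero_iff'] at h0; omega
  rcases (show P.pairing x e = 1 ∨ 2 ≤ P.pairing x e by omega) with h1 | h1
  · exact hopp z hz (by simp only [z]; rw [root_refl, h1, he]; module)
  have hez : P.pairing e z = -1 := by
    have : P.pairing e z < 0 := by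
      by_contra hc
      have : 1 ≤ P.pairing e z := by omega
      nlinarith
    by_contra hc
    have : P.pairing e z ≤ -2 := by omega
    nlinarith
  rw [hez] at h4
  rcases (show P.pairing x e = 2 ∨ P.pairing x e = 3 by omega) with h2 | h2
  · obtain ⟨r, hr⟩ := P.root_add_root_mem_of_pairingIn_neg (i := z) (j := e) (by rw [pairingIn_int]; omega) hzne
    rw [add_comm] at hr
    refine hopp r ((h.sum e z heR hz r hr).1 ⟨2, by omega, by omega, hez, fun hd => ?_⟩)
      (by rw [hr]; simp only [z]; rw [root_refl, h2, he]; module)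
    rw [← one_zsmul (P.root e), P.root_sub_zsmul_mem_range_iff hind, Set.mem_Icc] at hd
    have h5 := P.chainBotCoeff_sub_chainTopCoeff hind
    have h6 := P.chainBotCoeff_add_chainTopCoeff_le_three (i := e) (j := z)
    rw [pairingIn_int] at h5
    omega
  · refine hopp (P.reflectionPerm y y) (h.long e z _ heR hz (by omega) hez ?_) (root_neg P y)
    simp only [z]
    rw [root_neg, root_refl, h2, he]; module

/-- the unipotent part is closed in the weak sense -/
theorem RootsLike.sumClosed_uPart (h : RootsLike P R') : SumClosed P (uPart P R') := by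
  haveI : Module.IsReflexive ℤ M := .of_isPerfPair P.toLinearMap
  haveI : IsAddTorsionFree M := .of_isTorsionFree ℤ M
  intro a b ha hb e he
  refine ⟨fun hh => h.sum_uPart P ha hb he ((h.sum a b ha.1 hb.1 e he).1 hh), fun d c₂ c₃ hd hA hB hc₂ hc₃ => ?_⟩
  rcases (h.sum a b ha.1 hb.1 e he).2 d c₂ c₃ hd hA hB hc₂ hc₃ with h1 | ⟨h1, h2⟩
  · exact Or.inl (h.sum_uPart P ha hb he h1)
  have hba : P.pairing b a = -1 := by
    have e1 : P.pairing d a = P.pairing b a - 2 := by
      rw [← P.root_coroot'_eq_pairing, hd, map_sub, P.root_coroot'_eq_pairing, P.root_coroot'_eq_pairing,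
        P.pairing_same]
    omega
  have hab : P.pairing a b = -1 := by
    have hne : P.root b ≠ -P.root a := fun hh => ha.2 (by
      rw [show P.reflectionPerm a a = b from P.root.injective (by rw [root_neg, hh])]; exact hb.1)
    refine R2.pairing_partner P (indep_of_pairing_neg P (by omega) hne) one_pos hba fun _ => ?_
    have hind := indep_of_pairing_neg P (a := a) (b := b) (by omega) hne
    have h4 := R2.pairing_prod_lt_four P hind
    have hpos := R2.pairing_prod_nonneg P a b
    rw [hba] at h4 hpos
    have hdb : P.root (P.reflectionPerm d d) = P.root a - P.root b := by rw [root_neg, hd, neg_sub]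
    rw [abs_le]
    constructor
    · by_contra hc
      have hgt : P.pairing a b < -1 := by omega
      haveI : Module.IsReflexive ℤ M := .of_isPerfPair P.toLinearMap
      haveI : IsAddTorsionFree M := .of_isTorsionFree ℤ M
      have hind' := LinearIndependent.pair_symm_iff.mp hind
      have hd' : P.root a - P.root b ∈ Set.range P.root := ⟨_, hdb⟩
      rw [← one_zsmul (P.root b), P.root_sub_zsmul_mem_range_iff hind', Set.mem_Icc] at hd'
      have h5 := P.chainBotCoeff_sub_chainTopCoeff hind'
      have h6 := P.chainBotCoeff_add_chainTopCoeff_le_three (i := b) (j := a)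
      rw [pairingIn_int] at h5
      omega
    · omega
  have key : ∀ (x y c : ι), x ∈ uPart P R' → y ∈ uPart P R' → P.pairing y x = -1 → P.pairing x y = -1 → c ∈ R' →
      P.root c = (2 : ℤ) • P.root x + P.root y → c ∈ uPart P R' := by
    intro x y c hx hy hyx hxy hc hce
    refine ⟨hc, fun hcO => hy.2 ?_⟩
    have e1 : P.pairing (P.reflectionPerm c c) x = -3 := by
      rw [← P.root_coroot'_eq_pairing, root_neg, hce, map_neg, map_add, map_zsmul, P.root_coroot'_eq_pairing,
        P.root_coroot'_eq_pairing, P.pairing_same, hyx, smul_eq_mul]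
      norm_num
    have e2 : P.pairing x (P.reflectionPerm c c) = -1 := by
      haveI : Module.IsReflexive ℤ M := .of_isPerfPair P.toLinearMap
      haveI : IsAddTorsionFree M := .of_isTorsionFree ℤ M
      refine R2.pairing_partner P (indep_of_pairing_neg P (by omega) fun hh => ?_) (by norm_num) e1 (by norm_num)
      rw [root_neg, neg_inj] at hh
      have := congrArg (P.coroot' x) hh
      rw [hce, map_add, map_zsmul, P.root_coroot'_eq_pairing, P.root_coroot'_eq_pairing, P.pairing_same, hyx,
        smul_eq_mul] at this
      norm_num at this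
    exact h.long x (P.reflectionPerm c c) _ hx.1 hcO e1 e2 (by rw [root_neg, root_neg, hce]; module)
  exact Or.inr ⟨key a b c₂ ha hb hba hab h1 hc₂, key b a c₃ hb ha hab hba h2 (by rw [hc₃, add_comm])⟩

/-- **A functional vanishing on the symmetric part and positive on the unipotent part.** -/
theorem RootsLike.exists_functional (h : RootsLike P R') :
    ∃ f : M →+ ℤ, (∀ c ∈ sPart P R', f (P.root c) = 0) ∧ ∀ x ∈ uPart P R', 0 < f (P.root x) := by
  classical
  haveI := Fintype.ofFinite ι
  have hd : ∀ a ∈ uPart P R', P.reflectionPerm a a ∉ uPart P R' := fun a ha ha' => ha.2 ha'.1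
  have hno := eq_zero_of_sum_eq_zero P h.sumClosed_uPart hd
  let Ψ : Set ι := {x | ∃ m : Multiset ι, (∀ a ∈ m, a ∈ uPart P R') ∧ (m.map P.root).sum = P.root x}
  have hΨ : IsPosSet P Ψ := by
    refine ⟨?_, ?_⟩
    · rintro a b c ⟨m, hm, hma⟩ ⟨m', hm', hmb⟩ hc
      exact ⟨m + m', fun x hx => (Multiset.mem_add.mp hx).elim (hm x) (hm' x), by simp [hma, hmb, hc]⟩
    · rintro a b ⟨m, hm, hma⟩ hb ⟨m', hm', hmb⟩
      have h0 := hno (m + m') (fun x hx => (Multiset.mem_add.mp hx).elim (hm x) (hm' x)) (by simp [hma, hmb, hb])
      rw [(add_eq_zero.mp h0).1] at hma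
      exact P.ne_zero a (by simpa using hma.symm)
  have hstab : ∀ c ∈ sPart P R', ∀ x ∈ Ψ, P.reflectionPerm c x ∈ Ψ := by
    rintro c hc x ⟨m, hm, hmx⟩
    refine ⟨m.map (P.reflectionPerm c), fun a ha => ?_, ?_⟩
    · obtain ⟨y, hy, rfl⟩ := Multiset.mem_map.mp ha
      exact h.refl_uPart P hc (hm y hy)
    · rw [Multiset.map_map, P.root_reflectionPerm, ← hmx, map_multiset_sum, Multiset.map_map]
      simp only [Function.comp_def, P.root_reflectionPerm]
  let s : Finset ι := Finset.univ.filter (· ∈ Ψ)
  let σ : M := ∑ x ∈ s, P.root x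
  refine ⟨(P.RootForm σ).toAddMonoidHom, fun c hc => ?_, fun x hx => ?_⟩
  · have hfix : P.reflection c σ = σ := by
      simp only [σ, map_sum, ← P.root_reflectionPerm]
      refine Finset.sum_bij (fun y _ => P.reflectionPerm c y) (fun y hy => ?_)
        (fun y _ z _ e => (P.reflectionPerm c).injective e) (fun y hy => ⟨P.reflectionPerm c y, ?_, ?_⟩) fun y _ => rfl
      · simp only [s, Finset.mem_filter, Finset.mem_univ, true_and] at hy ⊢
        exact hstab c hc y hy
      · simp only [s, Finset.mem_filter, Finset.mem_univ, true_and] at hy ⊢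
        exact hstab c hc y hy
      · exact P.reflectionPerm_self c y
    have h0 : P.coroot' c σ = 0 := by
      haveI : Module.IsReflexive ℤ M := .of_isPerfPair P.toLinearMap
      haveI : IsAddTorsionFree M := .of_isTorsionFree ℤ M
      rw [P.reflection_apply] at hfix
      have h2 := congrArg (P.coroot' c) hfix
      rw [map_sub, map_smul, P.root_coroot'_eq_pairing, P.pairing_same, smul_eq_mul] at h2
      omega
    have := two_mul_rootForm (P := P) σ c
    rw [h0, zero_mul] at this
    change P.RootForm σ (P.root c) = 0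
    omega
  · have hxΨ : x ∈ Ψ := ⟨{x}, by simpa using hx, by simp⟩
    have h2 := two_mul_rootForm (P := P) σ x
    have hσ : 0 < P.coroot' x σ := by
      have := hΨ.sum_pairing_pos s (fun y => by simp [s]) hxΨ
      simpa [σ, map_sum, P.root_coroot'_eq_pairing] using this
    have := mul_pos hσ (rootForm_root_pos (P := P) x)
    change 0 < P.RootForm σ (P.root x)
    omega

end Groth.Agent.H21Split.TypeR
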