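import Groth.Agent.H21Split.TypeR.UPart
import Groth.Agent.H21Split.TypeR.SymPart
import Groth.Agent.H21Split.TypeR.Comm2
import Groth.Agent.H21Split.TypeR.Fibre
import Groth.Agent.H21Split.Bru.BorelFibre

/-!
A subgroup with a root whose opposite is not a root has a unipotent radical.
-/

open CategoryTheory MonoidalCategory CartesianMonoidalCategory MonObj GrpObj AlgebraicGeometry
open CategoryTheory.Limits

universe u

set_option backward.isDefEq.respectTransparency false
set_option linter.style.haveILetI false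
set_option linter.unusedSectionVars false
set_option synthInstance.maxHeartbeats 400000
set_option maxHeartbeats 1000000

noncomputable section

namespace Groth.Agent.H21Split.TypeR

section General

variable {S : Scheme.{u}} {G H : Over S} [GrpObj G] [GrpObj H] {h : H ⟶ G} {D : Red.SplitRed G}
  [Smooth H.hom] [IsMonHom h] [IsImmersion h.left] [ConnectedSpace S] (t : D.T ⟶ H) (ht : t ≫ h = D.i) (R' : Set D.idx)
  (hR' : ∀ a : D.idx, (∃ v : Red.Ga S ⟶ H, v ≫ h = D.u a) ↔ a ∈ R')

include ht hR' in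
/-- the roots of a type (R) subgroup have the closure properties -/
theorem rootsLike : RootsLike D.P R' where
  sum := fun a b ha hb e he => sum_mem t ht R' hR' a b ha hb e he
  refl := refl_mem t ht R' hR'
  long := long_string_mem t ht R' hR'

/-- the geometric fibres of the unipotent part contain no subtorus -/
theorem hasNoSubtorus_uPart (f : D.M →+ ℤ) {m : ℕ} (e : Fin m → D.idx) (he : Function.Injective e)
    (hpos : ∀ k, 0 < f (D.P.root (e k))) [GrpObj (RedSub.pow (Red.Ga S) m)]
    [IsMonHom (RedSub.prodMap (Red.Ga S) m fun k => D.u (e k))] [Mono (RedSub.prodMap (Red.Ga S) m fun k => D.u (e k))]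
    {Ω : Type u} [Field Ω] [IsAlgClosed Ω] (g : Spec (CommRingCat.of Ω) ⟶ S) :
    Red.HasNoSubtorus Ω (Red.bc g (RedSub.pow (Red.Ga S) m)) := by
  haveI := isAffineHom_hom D
  refine H21Weil.hasNoSubtorus_of_torsion _ fun B _ _ ℓ x hℓ hx => ?_
  let v := RedSub.prodMap (Red.Ga S) m fun k => D.u (e k)
  let z : pt g B ⟶ RedSub.pow (Red.Ga S) m := fibHom g B (RedSub.pow (Red.Ga S) m) x
  have hz : (z ≫ v) ^ ℓ = 1 := by
    rw [← MonObj.pow_comp, ← map_pow, hx, map_one, MonObj.one_comp]
  rw [comp_prodMap_u] at hz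
  have h0 : gvs g z = 0 := uProd_torsion D g e he f hpos hℓ hz
  have h1 : z = 1 := by
    rw [← cancel_mono v, MonObj.one_comp, comp_prodMap_u, h0, uProd_zero]
  refine (fibEquiv g B (RedSub.pow (Red.Ga S) m)).injective ?_
  rw [← fibHom_eq, ← fibHom_eq, map_one]
  exact h1

/-- a field point of a base change -/
theorem isTrivial_pts {T : Scheme.{u}} {X : Over T} (h : IsIso X.hom) {Y : Over T} (a b : Y ⟶ X) : a = b := by
  haveI := h
  exact Over.OverMorphism.ext ((cancel_mono X.hom).mp (by rw [Over.w a, Over.w b]))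

end General

variable {K : Type u} [Field K] [IsAlgClosed K] {G H : Over (Spec (CommRingCat.of K))} [GrpObj G] [GrpObj H]
  {h : H ⟶ G} {D : Red.SplitRed G} [Smooth H.hom] [IsMonHom h] [IsImmersion h.left]
  (t : D.T ⟶ H) (ht : t ≫ h = D.i) (R' : Set D.idx)
  (hR' : ∀ a : D.idx, (∃ v : Red.Ga (Spec (CommRingCat.of K)) ⟶ H, v ≫ h = D.u a) ↔ a ∈ R')

include ht hR' in
/-- **A reductive subgroup has symmetric roots.** -/
theorem symm_of_isReductiveOver (hH : Red.IsReductiveOver K H) : ∀ a ∈ R', D.P.reflectionPerm a a ∈ R' := by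
  by_contra hn
  push Not at hn
  obtain ⟨a, ha, ha'⟩ := hn
  obtain ⟨-, -, hc, hU⟩ := hH
  haveI := hc
  haveI := D.fintypeIdx
  haveI : Finite D.idx := Finite.of_fintype _
  haveI := H21Red0.isReduced_of_nonempty D
  haveI := isAffineHom_hom D
  haveI := isClosedImmersion_of_sub D h
  haveI : Mono h := Over.mono_of_mono_left _
  obtain ⟨f, hf0, hfpos⟩ := (rootsLike t ht R' hR').exists_functional
  have hnn : ∀ b ∈ R', 0 ≤ f (D.P.root b) := fun b hb => by
    by_cases hb' : D.P.reflectionPerm b b ∈ R'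
    · exact (hf0 b ⟨hb, hb'⟩).ge
    · exact (hfpos b ⟨hb, hb'⟩).le
  obtain ⟨m, e, he⟩ := exists_enumerates D (R' ∩ half D f)
  obtain ⟨grp, hmon⟩ := exists_uPartGrp t ht R' hR' f e he
  letI := grp
  haveI := hmon
  haveI hcl := isClosedImmersion_uPart t ht R' hR' f e he
  haveI : Mono (RedSub.prodMap (Red.Ga (Spec (CommRingCat.of K))) m fun k => D.u (e k)) := Over.mono_of_mono_left _
  obtain ⟨u, hu⟩ := exists_uPart_lift t ht R' hR' f e he
  haveI : IsMonHom u := by
    haveI : IsMonHom (u ≫ h) := by rw [hu]; infer_instance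
    exact H21Diag.isMonHom_of_comp_mono u h
  haveI : IsClosedImmersion u.left := by
    haveI : IsClosedImmersion (u.left ≫ h.left) := by rw [← Over.comp_left, hu]; infer_instance
    exact IsClosedImmersion.of_comp u.left h.left
  haveI hsm : Smooth (RedSub.pow (Red.Ga (Spec (CommRingCat.of K))) m).hom := smooth_pow H21Rank1.smooth_Ga m
  let P := RedSub.pow (Red.Ga (Spec (CommRingCat.of K))) m
  let ι₀ := asIso (pullback.fst P.hom (𝟙 (Spec (CommRingCat.of K))))
  haveI : ConnectedSpace P.left := by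
    haveI hc0 : ConnectedSpace ↥(pullback P.hom (𝟙 (Spec (CommRingCat.of K)))) :=
      connected_fib_pow D (𝟙 (Spec (CommRingCat.of K))) m
    exact ι₀.hom.homeomorph.surjective.connectedSpace ι₀.hom.homeomorph.continuous
  have hns : Red.HasNoSubtorus K P := by
    intro T' _ j _ _ hT'
    haveI : IsIso (H21Diag.bcIdHom P) := inferInstance
    have h1 := hasNoSubtorus_uPart (D := D) f e he.1 (fun k => (he.2.subset ⟨k, rfl⟩).2) (𝟙 (Spec (CommRingCat.of K)))
    haveI : IsMonHom (H21Diag.bcIdHom P) := inferInstance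
    haveI : IsMonHom (CategoryTheory.inv (H21Diag.bcIdHom P)) := by
      haveI : IsMonHom (CategoryTheory.inv (H21Diag.bcIdHom P) ≫ H21Diag.bcIdHom P) := by
        rw [IsIso.inv_hom_id]; infer_instance
      exact H21Diag.isMonHom_of_comp_mono (CategoryTheory.inv (H21Diag.bcIdHom P)) (H21Diag.bcIdHom P)
    exact h1 T' (j ≫ CategoryTheory.inv (H21Diag.bcIdHom P)) hT'
  have hN : AlgGrp.IsNormalHom u := by
    intro X x n
    have hconn' : RedSub.HasConnectedFibres H := fun s => by
      have e1 : H.hom.base ⁻¹' {s} = Set.univ :=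
        Set.eq_univ_of_forall fun x => Subsingleton.elim (α := PrimeSpectrum K) _ _
      rw [e1]
      exact isConnected_univ
    obtain ⟨n', hn'⟩ := conj_uPart_mem t ht R' hR' f e he hconn' hnn x n
    refine ⟨n', (cancel_mono h).mp ?_⟩
    simp only [MonObj.mul_comp, GrpObj.inv_comp, Category.assoc, hu, hn']
  have htriv : IsIso P.hom := hU P u inferInstance hsm inferInstance hN hns
  obtain ⟨k, hk⟩ := he.2.symm.subset (⟨ha, hfpos a ⟨ha, ha'⟩⟩ : a ∈ R' ∩ half D f)
  let g : Spec (CommRingCat.of K) ⟶ Spec (CommRingCat.of K) := 𝟙 _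
  have h1 := congrArg (gvs g) (isTrivial_pts htriv (gas g (Pi.single k (1 : K))) (gas g (0 : Fin m → K)))
  rw [gvs_gas, gvs_gas] at h1
  exact one_ne_zero (α := K) (by simpa using congrFun h1 k)

end Groth.Agent.H21Split.TypeR
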