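import Groth.Agent.H21Split.TypeR.Psi
import Groth.Agent.H21Split.TypeR.Generate
import Groth.Agent.H21Split.Bru.Unip

/-!
The unipotent normal subgroup of a type (R) subgroup given by a functional nonnegative on its roots.
-/

open CategoryTheory MonoidalCategory CartesianMonoidalCategory MonObj GrpObj AlgebraicGeometry
open CategoryTheory.Limits

universe u

set_option backward.isDefEq.respectTransparency false
set_option linter.style.haveILetI false
set_option linter.unusedSectionVars false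
set_option synthInstance.maxHeartbeats 400000
set_option maxHeartbeats 1000000

noncomputable section

namespace Groth.Agent.H21Split.TypeR

variable {S : Scheme.{u}} {G H : Over S} [GrpObj G] [GrpObj H]

/-- the roots on which a functional is positive -/
def half (D : Red.SplitRed G) (f : D.M →+ ℤ) : Set D.idx := {c | 0 < f (D.P.root c)}

theorem isPosSet_half (D : Red.SplitRed G) (f : D.M →+ ℤ) : IsPosSet D.P (half D f) where
  closed a b c ha hb hc := by
    change 0 < f (D.P.root c)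
    rw [← hc, map_add]
    exact add_pos ha hb
  noNeg a b ha hb hb' := by
    change 0 < f (D.P.root b) at hb'
    change 0 < f (D.P.root a) at ha
    rw [hb, map_neg] at hb'
    omega

/-- a root group of non-negative weight normalises the positive half -/
theorem uPt_conj_mem (D : Red.SplitRed G) [Nonempty S] (f : D.M →+ ℤ) {R : Type u} [CommRing R]
    (g : Spec (CommRingCat.of R) ⟶ S) {b c : D.idx} (hb : 0 ≤ f (D.P.root b)) (hc : 0 < f (D.P.root c)) (x y : R) :
    uPt g D b x * uPt g D c y * (uPt g D b x)⁻¹ ∈ Ug D g (half D f) := by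
  haveI := isAffineHom_hom D
  haveI := D.fintypeIdx
  haveI : Finite D.idx := Finite.of_fintype _
  haveI := H21Red0.isReduced_of_nonempty D
  rcases eq_or_ne b c with rfl | hbc
  · exact mul_mem (mul_mem (uPt_mem_Ug D g hc x) (uPt_mem_Ug D g hc y)) (inv_mem (uPt_mem_Ug D g hc x))
  have hind : ∀ {s t : ℤ}, s • D.P.root b + t • D.P.root c = 0 → s = 0 ∧ t = 0 := fun {s t} hst => by
    refine LinearIndependent.pair_iff.mp ?_ s t hst
    by_contra hn
    rcases RootPairing.IsReduced.eq_or_eq_neg (P := D.P) b c hn with e | e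
    · exact hbc (D.P.root.injective e)
    · rw [e, map_neg] at hb
      omega
  obtain ⟨n, e, he, hrange⟩ := exists_enum D {r | ∃ p q : ℕ, 1 ≤ p ∧ 1 ≤ q ∧
    D.P.root r = (p : ℤ) • D.P.root b + (q : ℤ) • D.P.root c}
  choose i j hi hj hij using fun k => hrange.subset ⟨k, rfl⟩
  obtain ⟨C, hC, -⟩ := existsUnique_comm_core D g b c (fun p q hp _ h0 => by
      obtain ⟨h1, -⟩ := hind h0
      omega) e i j he (fun k => ⟨hi k, hj k, hij k⟩) (fun r p q hp hq hr => by
      obtain ⟨k, rfl⟩ := hrange.symm.subset ⟨p, q, hp, hq, hr⟩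
      obtain ⟨h1, h2⟩ := hind (s := (i k : ℤ) - p) (t := (j k : ℤ) - q) (by
        rw [sub_smul, sub_smul, sub_add_sub_comm, ← hij k, ← hr, sub_self])
      exact ⟨k, rfl, by omega, by omega⟩)
  rw [hC R x y]
  refine mul_mem (uPt_mem_Ug D g hc y) (Subgroup.list_prod_mem _ fun z hz => ?_)
  obtain ⟨k, rfl⟩ := List.mem_ofFn.mp hz
  refine uPt_mem_Ug D g ?_ _
  change 0 < f (D.P.root (e k))
  rw [hij k, map_add, map_zsmul, map_zsmul, smul_eq_mul, smul_eq_mul]
  have h1 : (1 : ℤ) ≤ i k := by exact_mod_cast hi k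
  have h2 : (1 : ℤ) ≤ j k := by exact_mod_cast hj k
  nlinarith

variable {h : H ⟶ G} {D : Red.SplitRed G}
  [Smooth H.hom] [IsMonHom h] [IsImmersion h.left] [ConnectedSpace S] (t : D.T ⟶ H) (ht : t ≫ h = D.i) (R' : Set D.idx)
  (hR' : ∀ a : D.idx, (∃ v : Red.Ga S ⟶ H, v ≫ h = D.u a) ↔ a ∈ R') (f : D.M →+ ℤ)
  {m : ℕ} (e : Fin m → D.idx) (he : RedSub.Enumerates (R' ∩ half D f) e)

include ht hR' he

/-- the points of the subgroup in the positive half -/
theorem mem_inter_iff {R : Type u} [CommRing R] (g : Spec (CommRingCat.of R) ⟶ S) (z : pt g R ⟶ G) :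
    (z ∈ Ug D g (half D f) ∧ Fac h z) ↔ ∃ x, uProd g D e x = z := by
  haveI := D.fintypeIdx
  haveI : Finite D.idx := Finite.of_fintype _
  constructor
  · rintro ⟨hz, hfac⟩
    obtain ⟨r, e₂, hee⟩ := exists_extend D (Ψ := half D f) e he.1 fun k => (he.2.subset ⟨k, rfl⟩).2
    obtain ⟨x, rfl⟩ := (mem_Ug_iff D g (isPosSet_half D f) _ hee.1 hee.2).mp hz
    have h0 := coord_eq_zero t ht R' hR' (isPosSet_half D f) e e₂ hee he g x hfac
    refine ⟨fun i => x (Fin.castAdd r i), ?_⟩
    conv_rhs => rw [← Fin.append_castAdd_natAdd (f := x), uProd_append,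
      show (fun i => x (Fin.natAdd m i)) = 0 from funext h0, uProd_zero, _root_.mul_one]
  · rintro ⟨x, rfl⟩
    refine ⟨uProd_mem_Ug D g (fun k => (he.2.subset ⟨k, rfl⟩).2) x, ?_⟩
    rw [uProd, List.ofFn_eq_map]
    refine Fac.list_prod _ (fun k => ?_) _
    obtain ⟨v, hv⟩ := (hR' _).mpr (he.2.subset ⟨k, rfl⟩).1
    exact ⟨ga g (x k) ≫ v, by rw [Category.assoc, hv]; rfl⟩

/-- the product map is a closed immersion -/
theorem isClosedImmersion_uPart : IsClosedImmersion (RedSub.prodMap (Red.Ga S) m fun k => D.u (e k)).left := by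
  haveI := isAffineHom_hom D
  haveI := D.fintypeIdx
  haveI : Finite D.idx := Finite.of_fintype _
  obtain ⟨r, e₂, hee⟩ := exists_extend D (Ψ := half D f) e he.1 fun k => (he.2.subset ⟨k, rfl⟩).2
  haveI := isClosedImmersion_prodMap D (isPosSet_half D f) hee
  haveI : IsSeparated (RedSub.pow (Red.Ga S) (m + r)).hom := by
    rw [← Over.w (RedSub.prodMap (Red.Ga S) (m + r) fun i => D.u (Fin.append e e₂ i))]
    infer_instance
  haveI := H21Rank1.isClosedImmersion_of_section (leadEmb m r) (tuple m fun i => pr (Red.Ga S) (m + r) (Fin.castAdd r i))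
    (pow_hom_ext m fun i => by rw [Category.assoc, tuple_pr, leadEmb, tuple_pr, Fin.addCases_left, Category.id_comp])
  rw [← leadEmb_comp D e e₂]
  change IsClosedImmersion ((leadEmb m r).left ≫ _)
  infer_instance

/-- morphisms pointwise in the intersection factor -/
theorem exists_lift_uPart {X : Over S} (z : X ⟶ G)
    (hz : ∀ (R : Type u) [CommRing R] (g : Spec (CommRingCat.of R) ⟶ S) (j : pt g R ⟶ X),
      j ≫ z ∈ Ug D g (half D f) ∧ Fac h (j ≫ z)) :
    ∃ w, w ≫ RedSub.prodMap (Red.Ga S) m (fun k => D.u (e k)) = z := by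
  haveI := isClosedImmersion_uPart t ht R' hR' f e he
  haveI : Mono (RedSub.prodMap (Red.Ga S) m fun k => D.u (e k)) := Over.mono_of_mono_left _
  refine exists_lift_of_pts _ z fun R _ g j => ?_
  obtain ⟨x, hx⟩ := (mem_inter_iff t ht R' hR' f e he g _).mp (hz R g j)
  exact ⟨gas g x, by rw [comp_prodMap_u, gvs_gas, hx]⟩

theorem comp_uPart_mem {X : Over S} {R : Type u} [CommRing R] (g : Spec (CommRingCat.of R) ⟶ S) (j : pt g R ⟶ X)
    (a : X ⟶ RedSub.pow (Red.Ga S) m) :
    j ≫ a ≫ RedSub.prodMap (Red.Ga S) m (fun k => D.u (e k)) ∈ Ug D g (half D f) ∧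
      Fac h (j ≫ a ≫ RedSub.prodMap (Red.Ga S) m (fun k => D.u (e k))) :=
  (mem_inter_iff t ht R' hR' f e he g _).mpr ⟨gvs g (j ≫ a), by rw [← comp_prodMap_u, Category.assoc]⟩

/-- the group structure -/
theorem exists_uPartGrp : ∃ _ : GrpObj (RedSub.pow (Red.Ga S) m),
    IsMonHom (RedSub.prodMap (Red.Ga S) m fun k => D.u (e k)) := by
  haveI := isClosedImmersion_uPart t ht R' hR' f e he
  haveI : Mono (RedSub.prodMap (Red.Ga S) m fun k => D.u (e k)) := Over.mono_of_mono_left _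
  refine H21Diag.exists_grpObj_of_mono _ ?_ (fun X a a' => ?_) fun X a => ?_
  · exact exists_lift_uPart t ht R' hR' f e he _ fun R _ g j => by
      rw [MonObj.comp_one]; exact ⟨one_mem _, fac_one⟩
  · exact exists_lift_uPart t ht R' hR' f e he _ fun R _ g j => by
      rw [MonObj.comp_mul]
      exact ⟨mul_mem (comp_uPart_mem t ht R' hR' f e he g j a).1 (comp_uPart_mem t ht R' hR' f e he g j a').1,
        (comp_uPart_mem t ht R' hR' f e he g j a).2.mul (comp_uPart_mem t ht R' hR' f e he g j a').2⟩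
  · exact exists_lift_uPart t ht R' hR' f e he _ fun R _ g j => by
      rw [GrpObj.comp_inv]
      exact ⟨inv_mem (comp_uPart_mem t ht R' hR' f e he g j a).1, (comp_uPart_mem t ht R' hR' f e he g j a).2.inv⟩

/-- the product map lifts to the subgroup -/
theorem exists_uPart_lift : ∃ u : RedSub.pow (Red.Ga S) m ⟶ H,
    u ≫ h = RedSub.prodMap (Red.Ga S) m (fun k => D.u (e k)) :=
  exists_prodMap_lift m _ fun k => (hR' _).mpr (he.2.subset ⟨k, rfl⟩).1

/-- **The subgroup normalises the unipotent part.** -/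
theorem conj_uPart_mem (hconn : RedSub.HasConnectedFibres H) (hf : ∀ b ∈ R', 0 ≤ f (D.P.root b)) {X : Over S}
    (x : X ⟶ H) (n : X ⟶ RedSub.pow (Red.Ga S) m) :
    ∃ n', (x ≫ h) * (n ≫ RedSub.prodMap (Red.Ga S) m (fun k => D.u (e k))) * (x ≫ h)⁻¹ =
      n' ≫ RedSub.prodMap (Red.Ga S) m (fun k => D.u (e k)) := by
  haveI := D.fintypeIdx
  haveI : Finite D.idx := Finite.of_fintype _
  haveI := isAffineHom_hom D
  haveI : Mono h := (Over.forget S).mono_of_mono_map (inferInstanceAs (Mono h.left))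
  haveI := isClosedImmersion_uPart t ht R' hR' f e he
  haveI : Mono (RedSub.prodMap (Red.Ga S) m fun k => D.u (e k)) := Over.mono_of_mono_left _
  obtain ⟨b⟩ := H21Red0.nonempty_base D
  obtain ⟨r₁, en, hen⟩ := exists_extend D (Ψ := R' ∩ RedSub.negRoots D.P b) (n := 0) Fin.elim0
    (fun k => k.elim0) (fun k => k.elim0)
  obtain ⟨r₂, ep, hep⟩ := exists_extend D (Ψ := R' ∩ RedSub.posRoots D.P b) (n := 0) Fin.elim0
    (fun k => k.elim0) (fun k => k.elim0)
  obtain ⟨c, hc, hco⟩ := exists_cell_openImmersion D t ht R' hR' b _ _ hen hep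
  haveI := hco
  have h1 : ∀ s : S, η[H].left s ∈ Set.range c.left.base := fun s => by
    let o : 𝟙_ (Over S) ⟶ _ := lift (tuple (0 + r₁) fun _ => (1 : 𝟙_ (Over S) ⟶ Red.Ga S))
      (lift (1 : 𝟙_ (Over S) ⟶ D.T) (tuple (0 + r₂) fun _ => (1 : 𝟙_ (Over S) ⟶ Red.Ga S)))
    have ho : o ≫ c = η[H] := by
      rw [← cancel_mono h, Category.assoc, hc, show η[H] = (1 : 𝟙_ (Over S) ⟶ H) by
        rw [Hom.one_def, toUnit_unique (toUnit _) (𝟙 _), Category.id_comp], MonObj.one_comp]
      refine hom_ext_pt fun R _ g j => ?_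
      rw [← Category.assoc, comp_cellMap g D _ _ (j ≫ o) 1 (by
        rw [tPt_one]; simp [o, MonObj.one_comp])]
      have hz : ∀ (l : ℕ), gvs g (j ≫ (tuple l fun _ => (1 : 𝟙_ (Over S) ⟶ Red.Ga S))) = 0 := fun l => funext fun k => by
        rw [gvs, Category.assoc, tuple_pr, MonObj.comp_one, ← ga_zero g, gv_ga]; rfl
      simp only [o, Category.assoc, lift_fst, lift_snd_assoc, lift_snd, hz, cellPt, uProd_zero, tPt_one, _root_.one_mul, MonObj.comp_one]
    exact ⟨o.left.base s, congrArg (fun q : 𝟙_ (Over S) ⟶ H => q.left.base s) ho⟩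
  haveI := geometricallyIrreducible_of_connected hconn
  obtain ⟨Y', p, a₁, a₂, hp1, hp2, hp3, ha₁, ha₂, hab⟩ := exists_split_fppf c.left.opensRange h1 x
  haveI := hp1
  haveI := hp2
  haveI := hp3
  obtain ⟨za, hza⟩ := H21Rank1.exists_lift_of_range_subset c a₁ ha₁
  obtain ⟨zb, hzb⟩ := H21Rank1.exists_lift_of_range_subset c a₂ ha₂
  obtain ⟨w, hw⟩ : ∃ w, w ≫ RedSub.prodMap (Red.Ga S) m (fun k => D.u (e k)) =
      p ≫ ((x ≫ h) * (n ≫ RedSub.prodMap (Red.Ga S) m (fun k => D.u (e k))) * (x ≫ h)⁻¹) := by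
    refine exists_lift_uPart t ht R' hR' f e he _ fun R _ g j => ?_
    obtain ⟨hn1, hn2⟩ := comp_uPart_mem t ht R' hR' f e he g (j ≫ p) n
    have key : ∀ (z : pt g R ⟶ _) (u : pt g R ⟶ G), u ∈ Ug D g (half D f) →
        (z ≫ RedSub.cellMap D (Fin.append Fin.elim0 en) (Fin.append Fin.elim0 ep)) * u *
          (z ≫ RedSub.cellMap D (Fin.append Fin.elim0 en) (Fin.append Fin.elim0 ep))⁻¹ ∈ Ug D g (half D f) := by
      intro z u hu
      obtain ⟨χ, hχ⟩ := exists_tPt g D (z ≫ snd _ _ ≫ fst _ _)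
      rw [comp_cellMap g D _ _ z χ hχ, cellPt]
      have hU : ∀ {l : ℕ} (e' : Fin l → D.idx), (∀ k, e' k ∈ R') → ∀ (y : Fin l → R), ∀ u ∈ Ug D g (half D f),
          uProd g D e' y * u * (uProd g D e' y)⁻¹ ∈ Ug D g (half D f) := by
        intro l e' he' y u hu
        refine Subgroup.mem_normalizer_iff.mp ?_ u |>.mp hu
        rw [uProd]
        refine Subgroup.list_prod_mem _ fun q hq => ?_
        obtain ⟨k, rfl⟩ := List.mem_ofFn.mp hq
        have hconj : ∀ (r : R) (v : pt g R ⟶ G), v ∈ Ug D g (half D f) →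
            uPt g D (e' k) r * v * (uPt g D (e' k) r)⁻¹ ∈ Ug D g (half D f) := fun r v hv =>
          conj_Ug_le D g _ (fun c hc s => uPt_conj_mem D f g (hf _ (he' k)) hc r s) hv
        refine Subgroup.mem_normalizer_iff.mpr fun v => ⟨fun hv => hconj _ v hv, fun hv => ?_⟩
        have := hconj (-y k) _ hv
        rw [uPt_neg] at this
        simpa [_root_.mul_assoc] using this
      have h2 := hU (Fin.append Fin.elim0 ep) (fun k => (hep.2.subset ⟨k, rfl⟩).1)
        (gvs g (z ≫ snd _ _ ≫ snd _ _)) u hu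
      have h3 := Tg_conj_mem D g (tPt_mem_Tg D g χ) h2
      have h4 := hU (Fin.append Fin.elim0 en) (fun k => (hen.2.subset ⟨k, rfl⟩).1) (gvs g (z ≫ fst _ _)) _ h3
      convert h4 using 1
      simp only [_root_.mul_assoc, _root_.mul_inv_rev]
    have hfx : Fac h (j ≫ p ≫ x ≫ h) := ⟨j ≫ p ≫ x, by simp only [Category.assoc]⟩
    simp only [MonObj.comp_mul, GrpObj.comp_inv]
    simp only [Category.assoc] at hn1 hn2
    refine ⟨?_, (hfx.mul hn2).mul hfx.inv⟩
    have hx : j ≫ p ≫ x ≫ h = ((j ≫ za) ≫ RedSub.cellMap D (Fin.append Fin.elim0 en) (Fin.append Fin.elim0 ep)) *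
        ((j ≫ zb) ≫ RedSub.cellMap D (Fin.append Fin.elim0 en) (Fin.append Fin.elim0 ep)) := by
      rw [← hc, ← Category.assoc p, hab, ← hza, ← hzb, MonObj.mul_comp, MonObj.comp_mul]
      simp only [Category.assoc]
    rw [hx]
    have := key (j ≫ za) _ (key (j ≫ zb) _ hn1)
    simpa only [_root_.mul_assoc, _root_.mul_inv_rev] using this
  obtain ⟨n', hn'⟩ := exists_lift_epi p _ _ w hw
  exact ⟨n', hn'.symm⟩

end Groth.Agent.H21Split.TypeR
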