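import Groth.Agent.H21Split.TypeR.Simple
import Groth.Agent.H21Split.TypeR.UPart
import Groth.Agent.H21Split.TypeR.NotRed
import Groth.Agent.H21Split.R2.ChevTable
import Groth.Agent.H21Split.Bru.UPsi
import Mathlib.RingTheory.Valuation.ValuationSubring

/-!
The Iwasawa decomposition of the points of a subgroup with symmetric roots with values in an algebraically closed
valued field.
-/

open CategoryTheory MonoidalCategory CartesianMonoidalCategory MonObj GrpObj AlgebraicGeometry
open CategoryTheory.Limits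
open Groth.Agent.H21Split.R2

universe u

set_option backward.isDefEq.respectTransparency false
set_option linter.style.haveILetI false
set_option linter.unusedSectionVars false
set_option synthInstance.maxHeartbeats 400000
set_option maxHeartbeats 1000000

noncomputable section

namespace Groth.Agent.H21Split.TypeR

variable {S : Scheme.{u}} {G H : Over S} [GrpObj G] [GrpObj H] {h : H ⟶ G} (D : Red.SplitRed G)

/-- the upper triangular part -/
abbrev Bf (f : D.M →+ ℤ) (R' : Set D.idx) {L : Type u} [CommRing L] (g : Spec (CommRingCat.of L) ⟶ S) :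
    Subgroup (pt g L ⟶ G) := Tg D g ⊔ Ug D g (posP D.P R' f)

/-- the group generated by the integral root elements -/
def KO (R' : Set D.idx) {L : Type u} [Field L] (g : Spec (CommRingCat.of L) ⟶ S) (O : ValuationSubring L) :
    Subgroup (pt g L ⟶ G) :=
  Subgroup.closure {z | ∃ c ∈ R', ∃ x ∈ O, uPt g D c x = z}

/-- the product of the two -/
def BK (f : D.M →+ ℤ) (R' : Set D.idx) {L : Type u} [Field L] (g : Spec (CommRingCat.of L) ⟶ S)
    (O : ValuationSubring L) : Set (pt g L ⟶ G) :=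
  {z | ∃ b ∈ Bf D f R' g, ∃ k ∈ KO D R' g O, z = b * k}

variable {D} [Smooth H.hom] [IsMonHom h] [IsImmersion h.left] [ConnectedSpace S]
  (t : D.T ⟶ H) (ht : t ≫ h = D.i) (R' : Set D.idx)
  (hR' : ∀ a : D.idx, (∃ v : Red.Ga S ⟶ H, v ≫ h = D.u a) ↔ a ∈ R')
  (hsymm : ∀ a ∈ R', D.P.reflectionPerm a a ∈ R') {sg : D.idx → D.idx → ℤˣ} (hs : Signs D sg)
  (f : D.M →+ ℤ) (hf : ∀ c ∈ R', f (D.P.root c) ≠ 0)
  {L : Type u} [Field L] (g : Spec (CommRingCat.of L) ⟶ S) (O : ValuationSubring L)

omit [Smooth H.hom] [IsMonHom h] [IsImmersion h.left] [ConnectedSpace S] in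
theorem uPt_mem_KO {c : D.idx} (hc : c ∈ R') {x : L} (hx : x ∈ O) : uPt g D c x ∈ KO D R' g O :=
  Subgroup.subset_closure ⟨c, hc, x, hx, rfl⟩

omit [Smooth H.hom] [IsMonHom h] [IsImmersion h.left] [ConnectedSpace S] in
theorem BK_left {b z : pt g L ⟶ G} (hb : b ∈ Bf D f R' g) (hz : z ∈ BK D f R' g O) : b * z ∈ BK D f R' g O := by
  obtain ⟨b', hb', k, hk, rfl⟩ := hz
  exact ⟨b * b', mul_mem hb hb', k, hk, (_root_.mul_assoc _ _ _).symm⟩

omit [Smooth H.hom] [IsMonHom h] [IsImmersion h.left] [ConnectedSpace S] in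
theorem BK_right {k z : pt g L ⟶ G} (hk : k ∈ KO D R' g O) (hz : z ∈ BK D f R' g O) : z * k ∈ BK D f R' g O := by
  obtain ⟨b', hb', k', hk', rfl⟩ := hz
  exact ⟨b', hb', k' * k, mul_mem hk' hk, _root_.mul_assoc _ _ _⟩

omit [Smooth H.hom] [IsMonHom h] [IsImmersion h.left] [ConnectedSpace S] in
theorem one_mem_BK : (1 : pt g L ⟶ G) ∈ BK D f R' g O := ⟨1, one_mem _, 1, one_mem _, (_root_.mul_one _).symm⟩

omit [Smooth H.hom] [IsMonHom h] [IsImmersion h.left] [ConnectedSpace S] in
theorem neg_sU_inv_mem (w : ℤˣ) : ((-(sU L w))⁻¹ : Lˣ).val ∈ O ∧ ((-(sU L w) : Lˣ) : L) ∈ O := by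
  rw [inv_neg, sU_inv, Units.val_neg, sU_val]
  exact ⟨neg_mem (intCast_mem O.toSubring _), neg_mem (intCast_mem O.toSubring _)⟩

include hs hsymm in
/-- the Weyl point of a root of the subgroup is integral -/
theorem wPt_mem_KO {a : D.idx} (ha : a ∈ R') :
    wPt g D a (D.P.reflectionPerm a a) (-(sU L (sg a a))) L ∈ KO D R' g O := by
  rw [wPt]
  refine mul_mem (mul_mem (uPt_mem_KO R' g O ha (one_mem O)) ?_) (uPt_mem_KO R' g O ha (one_mem O))
  refine uPt_mem_KO R' g O (hsymm a ha) (neg_mem ?_)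
  rw [Algebra.algebraMap_self_apply]
  exact (neg_sU_inv_mem O _).1

include hs hsymm in
/-- a negative root element of a positive root -/
theorem single_mem {a : D.idx} (ha : a ∈ posP D.P R' f) (y : L) :
    uPt g D (D.P.reflectionPerm a a) y ∈ BK D f R' g O := by
  by_cases hy : y ∈ O
  · exact ⟨1, one_mem _, _, uPt_mem_KO R' g O (hsymm a ha.1) hy, (_root_.one_mul _).symm⟩
  have hy0 : y ≠ 0 := fun h0 => hy (h0 ▸ zero_mem O)
  have hyi : y⁻¹ ∈ O := (O.mem_or_inv_mem y).resolve_left hy
  let a' := D.P.reflectionPerm a a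
  set k : Lˣ := -(sU L (sg a a)) with hk
  let s : Lˣ := -(k⁻¹ * (Units.mk0 y hy0)⁻¹)
  have hsO : (s : L) ∈ O := by
    simp only [s, Units.val_neg, Units.val_mul, Units.val_inv_eq_inv_val, Units.val_mk0]
    refine neg_mem (mul_mem ?_ hyi)
    rw [← Units.val_inv_eq_inv_val]
    exact (neg_sU_inv_mem O _).1
  have hw := wPt_scale g D (root_opp D a) ((hs L g).1 a) (B := L) s
  have hval : -(algebraMap L L ↑k⁻¹ * ↑s⁻¹) = y := by
    have e1 : (↑k⁻¹ : L) * ↑(k⁻¹ * (Units.mk0 y hy0)⁻¹)⁻¹ = y := by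
      rw [← Units.val_mul, _root_.mul_inv_rev, _root_.inv_inv, _root_.inv_inv, mul_comm _ k, ← _root_.mul_assoc,
        inv_mul_cancel, _root_.one_mul, Units.val_mk0]
    rw [Algebra.algebraMap_self_apply]
    simp only [s, inv_neg, Units.val_neg, mul_neg, neg_neg]
    exact e1
  rw [hval] at hw
  have e : uPt g D (D.P.reflectionPerm a a) y = (uPt g D a (-(s : L)) * tPt g D (cor D s a)) *
      (wPt g D a a' k L * uPt g D a (-(s : L))) := by
    rw [uPt_neg, _root_.mul_assoc, ← _root_.mul_assoc (tPt g D _), ← hw]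
    group
  rw [e]
  refine ⟨_, mul_mem (le_sup_right (a := Tg D g) (uPt_mem_Ug D g ha _))
    (le_sup_left (b := Ug D g _) (tPt_mem_Tg D g _)), _, ?_, rfl⟩
  exact mul_mem (wPt_mem_KO R' hsymm hs g O ha.1) (uPt_mem_KO R' g O ha.1 (neg_mem hsO))

include hs hsymm in
/-- the rank one computation -/
theorem pair_mem {a : D.idx} (ha : a ∈ posP D.P R' f) (y ξ : L) :
    uPt g D (D.P.reflectionPerm a a) y * uPt g D a ξ ∈ BK D f R' g O := by
  let a' := D.P.reflectionPerm a a
  have haa : D.P.reflectionPerm a' a' = a := D.P.root.injective (by rw [root_opp, root_opp, neg_neg])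
  set k : Lˣ := -(sU L (sg a' a')) with hk
  have hdual : Dual g D a' a (k : L) := haa ▸ (hs L g).1 a'
  by_cases hz : 1 + (k : L) * y * ξ = 0
  · by_cases hξ : ξ ∈ O
    · exact BK_right R' f g O (uPt_mem_KO R' g O ha.1 hξ) (single_mem R' hsymm hs f g O ha y)
    have hξi : ξ⁻¹ ∈ O := (O.mem_or_inv_mem ξ).resolve_left hξ
    have hξ0 : ξ ≠ 0 := fun h0 => hξ (h0 ▸ zero_mem O)
    have hy0 : y ≠ 0 := fun h0 => by simp [h0] at hz
    have hyO : y ∈ O := by
      have : y = -((k⁻¹ : Lˣ) : L) * ξ⁻¹ := by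
        rw [Units.val_inv_eq_inv_val]
        field_simp
        linear_combination hz
      rw [this]
      exact mul_mem (neg_mem (neg_sU_inv_mem O _).1) hξi
    have hw := wPt_scale g D (a := a') (a' := a) (root_opp D a' ▸ congrArg D.P.root haa.symm) hdual (B := L)
      (Units.mk0 y hy0)
    have hval : -(algebraMap L L ↑k⁻¹ * ↑(Units.mk0 y hy0)⁻¹) = ξ := by
      rw [Algebra.algebraMap_self_apply, Units.val_inv_eq_inv_val, Units.val_inv_eq_inv_val, Units.val_mk0]
      field_simp
      linear_combination -hz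
    rw [hval, Units.val_mk0] at hw
    have e : uPt g D a' y * uPt g D a ξ = tPt g D (cor D (Units.mk0 y hy0) a') *
        (wPt g D a' a k L * (uPt g D a' y)⁻¹) := by
      rw [← _root_.mul_assoc, ← hw]; group
    rw [e]
    refine ⟨_, le_sup_left (b := Ug D g _) (tPt_mem_Tg D g _), _, mul_mem ?_
      (inv_mem (uPt_mem_KO R' g O (hsymm a ha.1) hyO)), rfl⟩
    have hw' := wPt_mem_KO R' hsymm hs g O (hsymm a ha.1)
    rw [haa] at hw'
    exact hw'
  · let z : Lˣ := Units.mk0 _ hz
    rw [hdual L y ξ z (by rw [Algebra.algebraMap_self_apply, Units.val_mk0]), _root_.mul_assoc]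
    exact BK_left R' f g O (le_sup_right (a := Tg D g) (uPt_mem_Ug D g ha _))
      (BK_left R' f g O (le_sup_left (b := Ug D g _) (tPt_mem_Tg D g _)) (single_mem R' hsymm hs f g O ha _))

/-- elements preserving the product under left multiplication -/
def stabBK : Submonoid (pt g L ⟶ G) where
  carrier := {z | ∀ w ∈ BK D f R' g O, z * w ∈ BK D f R' g O}
  one_mem' := fun w hw => by rwa [_root_.one_mul]
  mul_mem' := fun hx hy w hw => by rw [_root_.mul_assoc]; exact hx _ (hy _ hw)

omit [Smooth H.hom] [IsMonHom h] [IsImmersion h.left] [ConnectedSpace S] in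
theorem Bf_mem_stabBK {b : pt g L ⟶ G} (hb : b ∈ Bf D f R' g) : b ∈ stabBK R' f g O := fun _ hw =>
  BK_left R' f g O hb hw

include hR' in
/-- root elements of the subgroup -/
theorem fac_root {B : Type u} [CommRing B] [Algebra L B] {c : D.idx} (hc : c ∈ R') (x : B) :
    Fac h (uPt g D c x) := by
  obtain ⟨v, hv⟩ := (hR' c).mpr hc
  exact ⟨ga g x ≫ v, by rw [Category.assoc, hv]; rfl⟩

include ht hR' in
/-- the upper triangular part lies in the subgroup -/
theorem fac_Bf {b : pt g L ⟶ G} (hb : b ∈ Bf D f R' g) : Fac h b := by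
  haveI := isAffineHom_hom D
  haveI : Mono h := (Over.forget S).mono_of_mono_map (inferInstanceAs (Mono h.left))
  let K : Subgroup (pt g L ⟶ G) :=
    { carrier := {z | Fac h z}, one_mem' := fac_one, mul_mem' := fun ha hb => Fac.mul ha hb,
      inv_mem' := fun ha => Fac.inv ha }
  suffices hle : Bf D f R' g ≤ K from hle hb
  refine sup_le (fun z hz => ?_) (Ug_le D g fun c hc x => fac_root R' hR' g hc.1 x)
  obtain ⟨χ, rfl⟩ := (mem_Tg D g).mp hz
  exact fac_tPt g D t ht χ

include ht hR' hsymm hs hf in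
/-- the negative of a simple root preserves the product -/
theorem simple_mem_stabBK {a : D.idx} (ha : IsSimp D.P R' f a) (y : L) :
    uPt g D (D.P.reflectionPerm a a) y ∈ stabBK R' f g O := by
  haveI := D.fintypeIdx
  haveI : Finite D.idx := Finite.of_fintype _
  haveI : Nonempty S := inferInstance
  haveI := H21Red0.isReduced_of_nonempty D
  let a' := D.P.reflectionPerm a a
  let fa : D.M →+ ℤ := f + f.comp (D.P.reflection a).toLinearMap.toAddMonoidHom
  have hfa : ∀ c, fa (D.P.root c) = f (D.P.root c) + f (D.P.root (D.P.reflectionPerm a c)) := fun c => by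
    rw [D.P.root_reflectionPerm]; rfl
  have hset : R' ∩ half D fa = posP D.P R' f \ {a} := by
    ext c
    constructor
    · rintro ⟨hc, hpos⟩
      change 0 < fa (D.P.root c) at hpos
      rw [hfa] at hpos
      refine ⟨⟨hc, ?_⟩, fun e => ?_⟩
      · by_contra hneg
        have hc' := hf c hc
        let c' := D.P.reflectionPerm c c
        have hc'p : c' ∈ posP D.P R' f := ⟨hsymm c hc, by rw [root_opp, map_neg]; omega⟩
        by_cases e : c' = a
        · rw [← e] at hpos
          rw [show D.P.reflectionPerm c' c = c' from D.P.root.injective (by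
            rw [root_refl, root_opp, show D.P.pairing c c' = -2 by
              rw [D.P.pairing_reflectionPerm_self_right, D.P.pairing_same], neg_smul, smul_neg, neg_neg, two_zsmul]
            abel)] at hpos
          rw [root_opp, map_neg] at hpos
          omega
        · have h1 := ha.2 c' hc'p e
          rw [root_refl, root_opp, D.P.pairing_reflectionPerm_self_left] at h1
          rw [root_refl] at hpos
          simp only [map_sub, map_neg, map_zsmul, smul_eq_mul, neg_mul] at h1 hpos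
          omega
      · simp only [Set.mem_singleton_iff] at e
        rw [e, root_neg, map_neg] at hpos
        omega
    · rintro ⟨hc, hne⟩
      refine ⟨hc.1, ?_⟩
      change 0 < fa (D.P.root c)
      rw [hfa]
      exact add_pos hc.2 (ha.2 c hc hne)
  have ha'0 : fa (D.P.root a') = 0 := by
    rw [hfa, show D.P.reflectionPerm a a' = a from D.P.reflectionPerm_self a a, root_opp, map_neg]
    omega
  obtain ⟨m, e, he, hrange⟩ := exists_enum D (R' ∩ half D fa)
  have hen : RedSub.Enumerates (R' ∩ half D fa) e := ⟨he, hrange⟩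
  have hea : ∀ k, e k ∈ posP D.P R' f ∧ e k ≠ a := fun k => hset.subset (hrange.subset ⟨k, rfl⟩)
  let e' : Fin (m + 1) → D.idx := Fin.append e (fun _ : Fin 1 => a)
  have hen' : RedSub.Enumerates (R' ∩ half D f) e' := by
    refine ⟨Fin.append_injective_iff.mpr ⟨he, Function.injective_of_subsingleton _, fun i j => (hea i).2⟩, ?_⟩
    rw [range_append D, hrange, hset, Set.range_const]
    exact Set.sdiff_union_of_subset (Set.singleton_subset_iff.mpr ha.1)
  rintro w ⟨b, hb, k, hk, rfl⟩
  obtain ⟨τ, hτ, v, hv, rfl⟩ := (mem_TU D g).mp hb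
  obtain ⟨x, hx⟩ := (mem_inter_iff t ht R' hR' f e' hen' g v).mp
    ⟨Ug_mono D g (fun c hc => hc.2) hv, fac_Bf t ht R' hR' f g (le_sup_right (a := Tg D g) hv)⟩
  rw [← Fin.append_castAdd_natAdd (f := x), uProd_append,
    show (fun i : Fin 1 => x (Fin.natAdd m i)) = fun _ => x (Fin.natAdd m 0) from funext fun i => by rw [Fin.fin_one_eq_zero i],
    uProd_single] at hx
  set r := uProd g D e fun i => x (Fin.castAdd 1 i)
  set ξ := x (Fin.natAdd m 0)
  obtain ⟨χ, rfl⟩ := (mem_Tg D g).mp hτ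
  let y' : L := χ (Multiplicative.ofAdd (-D.P.root a')) * y
  have hmove : uPt g D a' y * tPt g D χ = tPt g D χ * uPt g D a' y' := by
    have h1 := tPt_conj g D χ a' y'
    rw [show χ (Multiplicative.ofAdd (D.P.root a')) * y' = y by
      rw [← _root_.mul_assoc, ← map_mul, ← ofAdd_add, add_neg_cancel, ofAdd_zero, map_one, _root_.one_mul]] at h1
    rw [← h1]; group
  have hr : uPt g D a' y' * r * (uPt g D a' y')⁻¹ ∈ Bf D f R' g := by
    have h1 : uPt g D a' y' * r * (uPt g D a' y')⁻¹ ∈ Ug D g (half D fa) :=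
      conj_Ug_le D g _ (fun c hc s => uPt_conj_mem D fa g ha'0.ge hc y' s)
        (uProd_mem_Ug D g (fun k => (hrange.subset ⟨k, rfl⟩).2) _)
    have h2 : Fac h r := ((mem_inter_iff t ht R' hR' fa e hen g _).mpr ⟨_, rfl⟩).2
    obtain ⟨x', hx'⟩ := (mem_inter_iff t ht R' hR' fa e hen g _).mp
      ⟨h1, ((fac_root R' hR' g (hsymm a ha.1.1) y').mul h2).mul
        (fac_root R' hR' g (hsymm a ha.1.1) y').inv⟩
    rw [← hx']
    exact le_sup_right (a := Tg D g) (uProd_mem_Ug D g (fun k => (hea k).1) x')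
  have e1 : uPt g D a' y * (tPt g D χ * v * k) =
      tPt g D χ * ((uPt g D a' y' * r * (uPt g D a' y')⁻¹) * ((uPt g D a' y' * uPt g D a ξ) * k)) := by
    rw [← hx, show uPt g D a' y * (tPt g D χ * (r * uPt g D a ξ) * k) =
      (uPt g D a' y * tPt g D χ) * (r * uPt g D a ξ) * k by group, hmove]
    group
  rw [e1]
  exact BK_left R' f g O (le_sup_left (b := Ug D g _) (tPt_mem_Tg D g χ))
    (BK_left R' f g O hr (BK_right R' f g O hk (pair_mem R' hsymm hs f g O ha.1 y' ξ)))

include ht hR' hsymm hs hf in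
/-- every root element of the subgroup preserves the product -/
theorem root_mem_stabBK {c : D.idx} (hc : c ∈ R') (y : L) : uPt g D c y ∈ stabBK R' f g O := by
  haveI := D.fintypeIdx
  haveI : Finite D.idx := Finite.of_fintype _
  haveI : Nonempty S := inferInstance
  haveI := H21Red0.isReduced_of_nonempty D
  rcases (hf c hc).lt_or_gt with hneg | hpos
  swap
  · exact Bf_mem_stabBK R' f g O (le_sup_right (a := Tg D g) (uPt_mem_Ug D g (show c ∈ posP D.P R' f from ⟨hc, hpos⟩) y))
  obtain ⟨n, hn⟩ : ∃ n : ℕ, (-f (D.P.root c)).toNat = n := ⟨_, rfl⟩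
  induction n using Nat.strong_induction_on generalizing c y with
  | _ n ih =>
    let r := D.P.reflectionPerm c c
    have hr : r ∈ posP D.P R' f := ⟨hsymm c hc, by rw [root_opp, map_neg]; omega⟩
    have hrc : D.P.reflectionPerm r r = c := D.P.root.injective (by rw [root_opp, root_opp, neg_neg])
    obtain ⟨a, ha, hpair⟩ := exists_simp_pairing D.P f (rootsLike t ht R' hR') hsymm hf hr
    by_cases hra : r = a
    · rw [← hrc, hra]
      exact simple_mem_stabBK t ht R' hR' hsymm hs f hf g O ha y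
    let d := D.P.reflectionPerm a c
    have hd : f (D.P.root d) < 0 := by
      have h1 := ha.2 r hr hra
      rw [root_refl, root_opp, D.P.pairing_reflectionPerm_self_left] at h1
      rw [root_refl]
      simp only [map_sub, map_neg, map_zsmul, smul_eq_mul, neg_mul] at h1 ⊢
      omega
    have hdlt : f (D.P.root c) < f (D.P.root d) := by
      rw [root_refl, map_sub, map_zsmul, smul_eq_mul]
      rw [show D.P.pairing r a = -D.P.pairing c a from D.P.pairing_reflectionPerm_self_left c a] at hpair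
      have : D.P.pairing c a * f (D.P.root a) < 0 := mul_neg_of_neg_of_pos (by omega) ha.1.2
      omega
    have hdR : d ∈ R' := (rootsLike t ht R' hR').refl a c ha.1.1 (hsymm a ha.1.1) hc
    have hdd : D.P.reflectionPerm a d = c := D.P.reflectionPerm_self a c
    set k : Lˣ := -(sU L (sg a a))
    set W := wPt g D a (D.P.reflectionPerm a a) k L with hW
    have hN : HasN g D a (D.P.reflectionPerm a a) k d c ((sU L (sg a d) : Lˣ) : L) := hdd ▸ (hs L g).2 a d
    have h1 := hN L (((sU L (sg a d))⁻¹ : Lˣ) * y)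
    rw [Algebra.algebraMap_self_apply, Units.mul_inv_cancel_left] at h1
    rw [← h1]
    have hua : ∀ z : L, uPt g D a z ∈ stabBK R' f g O := fun z =>
      Bf_mem_stabBK R' f g O (le_sup_right (a := Tg D g) (uPt_mem_Ug D g ha.1 z))
    have hua' : ∀ z : L, uPt g D (D.P.reflectionPerm a a) z ∈ stabBK R' f g O :=
      simple_mem_stabBK t ht R' hR' hsymm hs f hf g O ha
    refine mul_mem (mul_mem ?_ (ih _ (by omega) hdR _ hd rfl)) ?_
    · rw [wPt]
      exact mul_mem (mul_mem (hua _) (hua' _)) (hua _)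
    · rw [wPt, _root_.mul_inv_rev, _root_.mul_inv_rev, ← _root_.mul_assoc]
      simp only [← uPt_neg]
      exact mul_mem (mul_mem (hua _) (hua' _)) (hua _)

include ht hR' hsymm hs hf in
/-- **The Iwasawa decomposition.** -/
theorem iwasawa [IsAlgClosed L] (hconn : RedSub.HasConnectedFibres H) {z : pt g L ⟶ G} (hz : Fac h z) :
    z ∈ BK D f R' g O := by
  haveI := D.fintypeIdx
  haveI : Finite D.idx := Finite.of_fintype _
  haveI := isAffineHom_hom D
  haveI : Mono h := (Over.forget S).mono_of_mono_map (inferInstanceAs (Mono h.left))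
  obtain ⟨w, rfl⟩ := hz
  obtain ⟨b⟩ := H21Red0.nonempty_base D
  obtain ⟨n, en, hn1, hn2⟩ := exists_enum D (R' ∩ RedSub.negRoots D.P b)
  obtain ⟨m, ep, hp1, hp2⟩ := exists_enum D (R' ∩ RedSub.posRoots D.P b)
  obtain ⟨c, hc, hco⟩ := exists_cell_openImmersion D t ht R' hR' b en ep ⟨hn1, hn2⟩ ⟨hp1, hp2⟩
  haveI := hco
  have h1 : ∀ s : S, η[H].left s ∈ Set.range c.left.base := fun s => by
    let o : 𝟙_ (Over S) ⟶ _ := lift (tuple n fun _ => (1 : 𝟙_ (Over S) ⟶ Red.Ga S))
      (lift (1 : 𝟙_ (Over S) ⟶ D.T) (tuple m fun _ => (1 : 𝟙_ (Over S) ⟶ Red.Ga S)))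
    have ho : o ≫ c = η[H] := by
      rw [← cancel_mono h, Category.assoc, hc, show η[H] = (1 : 𝟙_ (Over S) ⟶ H) by
        rw [Hom.one_def, toUnit_unique (toUnit _) (𝟙 _), Category.id_comp], MonObj.one_comp]
      refine hom_ext_pt fun R _ g j => ?_
      rw [← Category.assoc, comp_cellMap g D _ _ (j ≫ o) 1 (by
        rw [tPt_one]; simp [o, MonObj.one_comp])]
      have hz : ∀ (l : ℕ), gvs g (j ≫ (tuple l fun _ => (1 : 𝟙_ (Over S) ⟶ Red.Ga S))) = 0 := fun l => funext fun k => by
        rw [gvs, Category.assoc, tuple_pr, MonObj.comp_one, ← ga_zero g, gv_ga]; rfl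
      simp only [o, Category.assoc, lift_fst, lift_snd_assoc, lift_snd, hz, cellPt, uProd_zero, tPt_one,
        _root_.one_mul, MonObj.comp_one]
    exact ⟨o.left.base s, congrArg (fun q : 𝟙_ (Over S) ⟶ H => q.left.base s) ho⟩
  haveI := geometricallyIrreducible_of_connected hconn
  obtain ⟨Y', p, a₁, a₂, hp, hps, hplfp, ha₁, ha₂, hab⟩ := exists_split_fppf c.left.opensRange h1 w
  let X : Over (Spec (CommRingCat.of L)) := Over.mk (show Y'.left ⟶ Spec (CommRingCat.of L) from p.left)
  haveI : LocallyOfFiniteType X.hom := show LocallyOfFiniteType p.left from inferInstance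
  haveI : JacobsonSpace X.left := LocallyOfFiniteType.jacobsonSpace X.hom
  obtain ⟨q₀, -⟩ := hps.surj (IsLocalRing.closedPoint L)
  obtain ⟨y₀, -, hy₀⟩ := nonempty_inter_closedPoints (Z := (Set.univ : Set X.left)) ⟨q₀, trivial⟩ isClosed_univ.isLocallyClosed
  obtain ⟨σ', -⟩ := (pointEquivClosedPoint X.hom).surjective ⟨y₀, hy₀⟩
  let σ : pt g L ⟶ Y' := Over.homMk σ'.1 (by
    change σ'.1 ≫ Y'.hom = _
    rw [← Over.w p, ← Category.assoc, show σ'.1 ≫ p.left = 𝟙 _ from σ'.2, Category.id_comp])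
  have hσ : σ ≫ p = 𝟙 _ := Over.OverMorphism.ext σ'.2
  obtain ⟨za, hza⟩ := H21Rank1.exists_lift_of_range_subset c a₁ ha₁
  obtain ⟨zb, hzb⟩ := H21Rank1.exists_lift_of_range_subset c a₂ ha₂
  have hcell : ∀ q, (σ ≫ q) ≫ RedSub.cellMap D en ep ∈ stabBK R' f g O := fun q => by
    obtain ⟨χ, hχ⟩ := exists_tPt g D ((σ ≫ q) ≫ snd _ _ ≫ fst _ _)
    rw [comp_cellMap g D en ep (σ ≫ q) χ hχ, cellPt]
    have hprod : ∀ {l : ℕ} (e : Fin l → D.idx), (∀ i, e i ∈ R') → ∀ x : Fin l → L,
        uProd g D e x ∈ stabBK R' f g O := fun e he x => by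
      rw [uProd]
      refine list_prod_mem fun v hv => ?_
      obtain ⟨i, rfl⟩ := List.mem_ofFn.mp hv
      exact root_mem_stabBK t ht R' hR' hsymm hs f hf g O (he i) _
    exact mul_mem (hprod en (fun i => (hn2.subset ⟨i, rfl⟩).1) _)
      (mul_mem (Bf_mem_stabBK R' f g O (le_sup_left (b := Ug D g _) (tPt_mem_Tg D g χ)))
        (hprod ep (fun i => (hp2.subset ⟨i, rfl⟩).1) _))
  have hw : w ≫ h = ((σ ≫ za) ≫ RedSub.cellMap D en ep) * ((σ ≫ zb) ≫ RedSub.cellMap D en ep) := by
    calc w ≫ h = σ ≫ (p ≫ w) ≫ h := by rw [Category.assoc, ← Category.assoc σ, hσ, Category.id_comp]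
      _ = _ := by
        rw [hab, ← hza, ← hzb, MonObj.mul_comp, MonObj.comp_mul, ← hc]
        simp only [Category.assoc]
  rw [hw]
  have := (mul_mem (hcell za) (hcell zb)) 1 (one_mem_BK R' f g O)
  rwa [_root_.mul_one] at this

end Groth.Agent.H21Split.TypeR
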