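import Groth.Agent.H21Split.TypeR.RadTrivial
import Groth.Agent.H21Split.TypeR.UPart
import Groth.Agent.H21Split.TypeR.NotRed
import Groth.Agent.H21Split.TypeR.Borel
import Groth.Agent.H21Split.Bru.Attract
import Groth.Agent.H21Split.Bru.Borel
import Groth.Agent.H21Split.Bru.BorelFibre
import Groth.Agent.H21Split.R3.Cell

/-!
The unipotent radical of a subgroup of type (R) with positive roots.
-/

open CategoryTheory MonoidalCategory CartesianMonoidalCategory MonObj GrpObj AlgebraicGeometry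
open CategoryTheory.Limits

universe u

set_option autoImplicit false
set_option backward.isDefEq.respectTransparency false
set_option linter.style.haveILetI false
set_option linter.unusedSectionVars false
set_option synthInstance.maxHeartbeats 400000
set_option maxHeartbeats 1000000

noncomputable section

namespace Groth.Agent.H21Split.TypeR

variable {S : Scheme.{u}} {G : Over S} [GrpObj G] (D : Red.SplitRed G)

/-- the partial Borel parametrisation is a closed immersion -/
theorem isClosedImmersion_borelMap_sub (b : D.P.Base) {m : ℕ} (e : Fin m → D.idx) (he : Function.Injective e)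
    (hpos : ∀ k, e k ∈ RedSub.posRoots D.P b) : IsClosedImmersion (RedSub.borelMap D e).left := by
  haveI := isAffineHom_hom D
  haveI := D.fintypeIdx
  haveI : Finite D.idx := Finite.of_fintype _
  obtain ⟨r, e', he'⟩ := exists_extend D e he hpos
  haveI hcl := isClosedImmersion_borelMap D b he'
  let pad : D.T ⊗ RedSub.pow (Red.Ga S) m ⟶ D.T ⊗ RedSub.pow (Red.Ga S) (m + r) :=
    lift (fst _ _) (tuple (m + r) (Fin.append (fun i => snd _ _ ≫ pr (Red.Ga S) m i) fun _ => 1))
  let ret : D.T ⊗ RedSub.pow (Red.Ga S) (m + r) ⟶ D.T ⊗ RedSub.pow (Red.Ga S) m :=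
    lift (fst _ _) (tuple m fun i => snd _ _ ≫ pr (Red.Ga S) (m + r) (Fin.castAdd r i))
  haveI : IsSeparated (D.T ⊗ RedSub.pow (Red.Ga S) (m + r)).hom := by
    haveI : IsSeparated G.hom := inferInstance
    rw [← Over.w (RedSub.borelMap D (Fin.append e e'))]; infer_instance
  haveI : IsClosedImmersion pad.left := by
    refine H21Rank1.isClosedImmersion_of_section pad ret (CartesianMonoidalCategory.hom_ext _ _ ?_ ?_)
    · simp [pad, ret]
    · refine pow_hom_ext m fun i => ?_
      simp only [pad, ret, Category.assoc, lift_snd_assoc, tuple_pr, Fin.append_left, Category.id_comp]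
  have hpad : pad ≫ RedSub.borelMap D (Fin.append e e') = RedSub.borelMap D e := by
    refine hom_ext_pt fun R _ g z => ?_
    rw [← Category.assoc, RedSub.borelMap, RedSub.borelMap, MonObj.comp_mul, MonObj.comp_mul, ← Category.assoc,
      ← Category.assoc, ← Category.assoc, ← Category.assoc, comp_prodMap_u, comp_prodMap_u]
    have hg : gvs g (((z ≫ pad) ≫ snd _ _)) = Fin.append (gvs g (z ≫ snd _ _)) 0 := by
      funext i
      induction i using Fin.addCases with
      | left i => simp [gvs, pad, tuple_pr]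
      | right i => simp [gvs, pad, tuple_pr, ← ga_zero, gv_ga]
    rw [hg, uProd_append, uProd_zero, _root_.mul_one]
    simp [pad]
  rw [← hpad, Over.comp_left]
  infer_instance

variable {H : Over S} [GrpObj H] {h : H ⟶ G}
  [Smooth H.hom] [IsMonHom h] [IsImmersion h.left] [ConnectedSpace S] (t : D.T ⟶ H) (ht : t ≫ h = D.i) (R' : Set D.idx)
  (hR' : ∀ a : D.idx, (∃ v : Red.Ga S ⟶ H, v ≫ h = D.u a) ↔ a ∈ R')

include ht hR' in
/-- **Normal subgroups without subtori lie in the unipotent part.** -/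
theorem exists_factor_uPart (hconn : RedSub.HasConnectedFibres H) (b : D.P.Base) (hsub : R' ⊆ RedSub.posRoots D.P b)
    {m : ℕ} (e : Fin m → D.idx) (he : RedSub.Enumerates R' e) {U' : Over S} [GrpObj U'] (u' : U' ⟶ H) [IsMonHom u']
    [IsClosedImmersion u'.left] (hN : AlgGrp.IsNormalHom u') [Smooth U'.hom]
    (hfib : ∀ s : S, ConnectedSpace (Red.geomFibre s U').left ∧
      Red.HasNoSubtorus (AlgebraicClosure (S.residueField s)) (Red.geomFibre s U')) :
    ∃ x : U' ⟶ RedSub.pow (Red.Ga S) m, x ≫ RedSub.prodMap (Red.Ga S) m (fun k => D.u (e k)) = u' ≫ h := by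
  haveI := isAffineHom_hom D
  haveI := D.fintypeIdx
  haveI : Finite D.idx := Finite.of_fintype _
  haveI : Mono h := (Over.forget S).mono_of_mono_map (inferInstanceAs (Mono h.left))
  haveI : Mono D.i := D.maximalTorus.2.1
  haveI : IsMonHom D.i := D.maximalTorus.1
  obtain ⟨f, hfp, -⟩ := exists_regular D b
  have hepos : ∀ k, 0 < f (D.P.root (e k)) := fun k => hfp _ (hsub (he.2.subset ⟨k, rfl⟩))
  obtain ⟨φ, hφ⟩ := exists_iso_borelMap D t ht R' hR' b hconn hsub e he
  haveI hcb := isClosedImmersion_borelMap_sub D b e he.1 fun k => hsub (he.2.subset ⟨k, rfl⟩)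
  haveI : IsClosedImmersion h.left := by
    rw [show h = φ.inv ≫ RedSub.borelMap D e by rw [← hφ, Iso.inv_hom_id_assoc], Over.comp_left]
    haveI : IsIso φ.inv.left := inferInstanceAs (IsIso ((Over.forget S).map φ.inv))
    infer_instance
  haveI : IsClosedImmersion (u' ≫ h).left := by rw [Over.comp_left]; infer_instance
  let w : U' ⟶ D.T := u' ≫ φ.inv ≫ fst _ _
  have hdec : ∀ (R : Type u) [CommRing R] (g : Spec (CommRingCat.of R) ⟶ S) (y : pt g R ⟶ U'),
      ∃ χ x, y ≫ w ≫ D.i = tPt g D χ ∧ y ≫ u' ≫ h = tPt g D χ * uProd g D e x := fun R _ g y => by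
    obtain ⟨χ, hχ⟩ := exists_tPt g D (y ≫ w)
    refine ⟨χ, gvs g ((y ≫ u' ≫ φ.inv) ≫ snd _ _), by rw [hχ]; exact (Category.assoc y w D.i).symm, ?_⟩
    rw [hχ, ← comp_prodMap_u]
    calc y ≫ u' ≫ h = (y ≫ u' ≫ φ.inv) ≫ RedSub.borelMap D e := by
          simp only [Category.assoc, ← hφ, Iso.inv_hom_id_assoc]
      _ = _ := by simp only [RedSub.borelMap, MonObj.comp_mul, w, Category.assoc]
  have h1 : ∀ (R : Type u) [CommRing R] (g : Spec (CommRingCat.of R) ⟶ S) (y : pt g R ⟶ U'),
      Fac (u' ≫ h) (y ≫ w ≫ D.i) := fun R _ g y => by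
    obtain ⟨χ, x, hw, hy⟩ := hdec R g y
    let P : pt g (Polynomial R) ⟶ G := tPt g D ((pconst R R).toRingHom.toMonoidHom.comp χ) *
      uProd g D e fun k => Polynomial.C (x k) * Polynomial.X ^ (f (D.P.root (e k))).toNat
    have hP : pmap g (polyL R R) ≫ P = conjL D g f (y ≫ u' ≫ h) := by
      rw [hy, map_mul, MonObj.comp_mul]
      congr 1
      · rw [conjL_apply, pmap_tPt, pmap_tPt, (tPt_commute g D (cz R D f) _).eq, mul_inv_cancel_right]
        congr 1
        refine MonoidHom.ext fun m => ?_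
        change polyL R R (pconst R R (χ m)) = lconst R R (χ m)
        rw [pconst_apply, polyL_apply, Polynomial.toLaurent_C, lconst_apply]
      · rw [conjL_apply, uProd, uProd, polyL_prod g D f e (fun k => (hepos k).le) x, ← conj_cz_prod]
    have hL : Fac (u' ≫ h) (pmap g (polyL R R) ≫ P) := by
      obtain ⟨n', hn'⟩ := hN _ (ds g (cz R D f) ≫ D.split.inv.hom.hom ≫ t) (pmap g (lconst R R) ≫ y)
      refine ⟨n', ?_⟩
      rw [hP, conjL_apply]
      have hn2 := congrArg (· ≫ h) hn'
      simp only [MonObj.mul_comp, GrpObj.inv_comp, Category.assoc, ht] at hn2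
      simp only [Category.assoc, tPt]
      exact hn2.symm
    have h0 : Fac (u' ≫ h) (pmap g ((Polynomial.aeval (0 : R) : Polynomial R →ₐ[R] R)) ≫ P) :=
      (fac_of_injective (u' ≫ h) g _ Polynomial.toLaurent_injective hL).precomp _
    have e0 : pmap g ((Polynomial.aeval (0 : R) : Polynomial R →ₐ[R] R)) ≫ P = tPt g D χ := by
      rw [MonObj.comp_mul, pmap_tPt, pmap_uProd]
      have hz : (fun k => (Polynomial.aeval (0 : R) : Polynomial R →ₐ[R] R)
          (Polynomial.C (x k) * Polynomial.X ^ (f (D.P.root (e k))).toNat)) = 0 := funext fun k => by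
        have : (f (D.P.root (e k))).toNat ≠ 0 := by have := hepos k; omega
        simp [zero_pow this]
      rw [hz, uProd_zero, _root_.mul_one]
      congr 1
      refine MonoidHom.ext fun m => ?_
      change (Polynomial.aeval (0 : R)) (pconst R R (χ m)) = χ m
      rw [pconst_apply, Polynomial.aeval_C]
      rfl
    rw [hw, ← e0]
    exact h0
  have h2 : ∀ (R : Type u) [CommRing R] (g : Spec (CommRingCat.of R) ⟶ S) (y : pt g R ⟶ U')
      (χ : Multiplicative D.M →* R), y ≫ u' ≫ h = tPt g D χ → y ≫ w ≫ D.i = y ≫ u' ≫ h := fun R _ g y χ hy => by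
    let p : pt g R ⟶ D.T ⊗ RedSub.pow (Red.Ga S) m := lift (ds g χ ≫ D.split.inv.hom.hom) (gas g 0)
    have hp : p ≫ RedSub.borelMap D e = tPt g D χ := by
      simp only [p, RedSub.borelMap, MonObj.comp_mul, lift_fst_assoc, lift_snd_assoc, comp_prodMap_u, gvs_gas,
        uProd_zero, _root_.mul_one, tPt, Category.assoc]
    have e1 : y ≫ u' ≫ φ.inv = p := by
      rw [← cancel_mono φ.hom, ← cancel_mono h]
      simp only [Category.assoc, Iso.inv_hom_id_assoc]
      rw [hy, hφ, hp]
    rw [show y ≫ w ≫ D.i = ((y ≫ u' ≫ φ.inv) ≫ fst _ _) ≫ D.i by simp only [w, Category.assoc], e1, hy]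
    simp only [p, lift_fst, tPt, Category.assoc]
  have hw1 : w = 1 := torusPart_eq_one D (u' ≫ h) hfib w h1 h2
  refine ⟨u' ≫ φ.inv ≫ snd _ _, ?_⟩
  have e2 : u' ≫ h = (w ≫ D.i) * ((u' ≫ φ.inv ≫ snd _ _) ≫ RedSub.prodMap (Red.Ga S) m (fun k => D.u (e k))) := by
    conv_lhs => rw [show h = φ.inv ≫ RedSub.borelMap D e by rw [← hφ, Iso.inv_hom_id_assoc]]
    simp only [RedSub.borelMap, MonObj.comp_mul, w, Category.assoc]
  rw [e2, hw1, MonObj.one_comp, _root_.one_mul]

include ht hR' in
/-- **The unipotent radical.** -/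
theorem exists_unipotentRadical [QuasiCompact H.hom] (hconn : RedSub.HasConnectedFibres H) (b : D.P.Base)
    (hsub : R' ⊆ RedSub.posRoots D.P b) :
    ∃ (U : Over S) (_ : GrpObj U) (u : U ⟶ H), IsMonHom u ∧ IsClosedImmersion (u ≫ h).left ∧ Smooth U.hom ∧
      Par.IsUnipotentRadical u ∧ IsIso ((t ⊗ₘ u) ≫ μ[H]) ∧
      ∀ {m : ℕ} (e : Fin m → D.idx), RedSub.Enumerates R' e →
        ∃ ψ : RedSub.pow (Red.Ga S) m ≅ U, ψ.hom ≫ u ≫ h = RedSub.prodMap (Red.Ga S) m (fun k => D.u (e k)) := by
  haveI := isAffineHom_hom D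
  haveI := D.fintypeIdx
  haveI : Finite D.idx := Finite.of_fintype _
  haveI : Mono h := (Over.forget S).mono_of_mono_map (inferInstanceAs (Mono h.left))
  obtain ⟨f, hfp, -⟩ := exists_regular D b
  have hhalf : R' ∩ half D f = R' := Set.inter_eq_left.mpr fun a ha => hfp a (hsub ha)
  obtain ⟨m₀, e₀, he₀⟩ := exists_enumerates D R'
  have he₀' : RedSub.Enumerates (R' ∩ half D f) e₀ := by rw [hhalf]; exact he₀
  obtain ⟨grp, hmon⟩ := exists_uPartGrp t ht R' hR' f e₀ he₀'
  letI := grp
  haveI := hmon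
  obtain ⟨v, hv⟩ := exists_uPart_lift t ht R' hR' f e₀ he₀'
  haveI hcl := isClosedImmersion_uPart t ht R' hR' f e₀ he₀'
  haveI hclv : IsClosedImmersion (v ≫ h).left := by rw [hv]; exact hcl
  haveI : IsMonHom v := by
    haveI : IsMonHom (v ≫ h) := by rw [hv]; exact hmon
    exact H21Diag.isMonHom_of_comp_mono v h
  haveI hvcl : IsClosedImmersion v.left := by
    haveI : IsClosedImmersion (v.left ≫ h.left) := by rw [← Over.comp_left]; exact hclv
    exact IsClosedImmersion.of_comp v.left h.left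
  haveI hsm : Smooth (RedSub.pow (Red.Ga S) m₀).hom := smooth_pow H21Rank1.smooth_Ga m₀
  have hfibv : ∀ s : S, ConnectedSpace (Red.geomFibre s (RedSub.pow (Red.Ga S) m₀)).left ∧
      Red.HasNoSubtorus (AlgebraicClosure (S.residueField s)) (Red.geomFibre s (RedSub.pow (Red.Ga S) m₀)) := fun s => by
    haveI : Mono (RedSub.prodMap (Red.Ga S) m₀ fun k => D.u (e₀ k)) := Over.mono_of_mono_left _
    exact ⟨connected_fib_pow D (Red.geomPt s) m₀,
      hasNoSubtorus_uPart f e₀ he₀.1 (fun k => hfp _ (hsub (he₀.2.subset ⟨k, rfl⟩))) (Red.geomPt s)⟩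
  haveI : QuasiCompact (RedSub.pow (Red.Ga S) m₀).hom := by
    rw [← Over.w v]; infer_instance
  refine ⟨RedSub.pow (Red.Ga S) m₀, inferInstance, v, inferInstance, hclv, hsm,
    ⟨inferInstance, hvcl, ?_, hsm, inferInstance, hfibv, ?_⟩, ?_, ?_⟩
  · intro T x n
    obtain ⟨n', hn'⟩ := conj_uPart_mem t ht R' hR' f e₀ he₀' hconn (fun a ha => (hfp a (hsub ha)).le) x n
    refine ⟨n', ?_⟩
    rw [← cancel_mono h]
    simp only [MonObj.mul_comp, GrpObj.inv_comp, Category.assoc, hv]
    exact hn'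
  · intro U' _ u' _ hcl' hN hsm' _ hfib'
    haveI := hcl'
    haveI := hsm'
    obtain ⟨x, hx⟩ := exists_factor_uPart D t ht R' hR' hconn b hsub e₀ he₀ u' hN hfib'
    exact ⟨x, by rw [← cancel_mono h, Category.assoc, hv, hx]⟩
  · obtain ⟨φ, hφ⟩ := exists_iso_borelMap D t ht R' hR' b hconn hsub e₀ he₀
    have e1 : (t ⊗ₘ v) ≫ μ[H] = φ.hom := by
      rw [← cancel_mono h, hφ, ← CartesianMonoidalCategory.lift_fst_comp_snd_comp, ← Hom.mul_def, MonObj.mul_comp]
      simp only [Category.assoc, ht, hv]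
      rfl
    rw [e1]
    infer_instance
  · intro m e he
    have he' : RedSub.Enumerates (R' ∩ half D f) e := by rw [hhalf]; exact he
    haveI := isClosedImmersion_uPart t ht R' hR' f e he'
    haveI : Mono (RedSub.prodMap (Red.Ga S) m fun k => D.u (e k)) := Over.mono_of_mono_left _
    haveI : Mono (RedSub.prodMap (Red.Ga S) m₀ fun k => D.u (e₀ k)) := Over.mono_of_mono_left _
    obtain ⟨a, ha⟩ := exists_lift_uPart t ht R' hR' f e₀ he₀' (RedSub.prodMap (Red.Ga S) m fun k => D.u (e k))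
      fun R _ g j => by simpa using comp_uPart_mem t ht R' hR' f e he' g j (𝟙 _)
    obtain ⟨a', ha'⟩ := exists_lift_uPart t ht R' hR' f e he' (RedSub.prodMap (Red.Ga S) m₀ fun k => D.u (e₀ k))
      fun R _ g j => by simpa using comp_uPart_mem t ht R' hR' f e₀ he₀' g j (𝟙 _)
    refine ⟨⟨a, a', ?_, ?_⟩, ?_⟩
    · rw [← cancel_mono (RedSub.prodMap (Red.Ga S) m fun k => D.u (e k)), Category.assoc, ha', ha, Category.id_comp]
    · rw [← cancel_mono (RedSub.prodMap (Red.Ga S) m₀ fun k => D.u (e₀ k)), Category.assoc, ha, ha', Category.id_comp]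
    · rw [hv]
      exact ha

end Groth.Agent.H21Split.TypeR
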