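import Groth.Agent.H21Split.TypeR.LeviAux
import Groth.Agent.H21Split.TypeR.RadPos
import Groth.Agent.H21Split.TypeR.Closed
import Groth.Agent.H20Red.Scheme

/-!
The Levi decomposition of a type (R) subgroup along the symmetric part of its roots.
-/

open CategoryTheory MonoidalCategory CartesianMonoidalCategory MonObj GrpObj AlgebraicGeometry
open CategoryTheory.Limits

universe u

set_option autoImplicit false
set_option backward.isDefEq.respectTransparency false
set_option linter.style.haveILetI false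
set_option linter.unusedSectionVars false
set_option synthInstance.maxHeartbeats 400000
set_option maxHeartbeats 1000000

noncomputable section

namespace Groth.Agent.H21Split.TypeR

variable {S : Scheme.{u}} {G H₁ : Over S} [GrpObj G] [GrpObj H₁] (D : Red.SplitRed G) {h₁ : H₁ ⟶ G}
  [Smooth H₁.hom] [IsMonHom h₁] [IsImmersion h₁.left] [ConnectedSpace S] (t₁ : D.T ⟶ H₁) (ht₁ : t₁ ≫ h₁ = D.i)
  (R₁ : Set D.idx) (hR₁ : ∀ a : D.idx, (∃ v : Red.Ga S ⟶ H₁, v ≫ h₁ = D.u a) ↔ a ∈ R₁)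
  (f : D.M →+ ℤ) (hf₁ : ∀ a ∈ R₁, f (D.P.root a) = 0)

include ht₁ hR₁ hf₁

/-- a point of the subgroup in the positive half is trivial -/
theorem eq_one_of_mem_half {R : Type u} [CommRing R] (g : Spec (CommRingCat.of R) ⟶ S) {z : pt g R ⟶ G}
    (hz : Fac h₁ z) (hu : z ∈ Ug D g (half D f)) : z = 1 := by
  have he : RedSub.Enumerates (R₁ ∩ half D f) (Fin.elim0 : Fin 0 → D.idx) := by
    refine ⟨fun k => k.elim0, ?_⟩
    rw [Set.range_eq_empty, eq_comm, Set.eq_empty_iff_forall_notMem]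
    rintro a ⟨ha, hpos⟩
    change 0 < f (D.P.root a) at hpos
    rw [hf₁ a ha] at hpos
    exact lt_irrefl _ hpos
  obtain ⟨x, hx⟩ := (mem_inter_iff t₁ ht₁ R₁ hR₁ f _ he g z).mp ⟨hu, hz⟩
  rw [← hx, uProd, List.ofFn_zero, List.prod_nil]

/-- the subgroup is centralised by the cocharacter -/
theorem conjL_eq_const (hconn : RedSub.HasConnectedFibres H₁) {R : Type u} [CommRing R]
    (g : Spec (CommRingCat.of R) ⟶ S) (z : pt g R ⟶ H₁) :
    conjL D g f (z ≫ h₁) = pmap g (lconst R R) ≫ z ≫ h₁ := by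
  haveI := D.fintypeIdx
  haveI : Finite D.idx := Finite.of_fintype _
  haveI : Mono h₁ := (Over.forget S).mono_of_mono_map (inferInstanceAs (Mono h₁.left))
  obtain ⟨b⟩ := H21Red0.nonempty_base D
  obtain ⟨r₁, en, hen⟩ := exists_extend D (Ψ := R₁ ∩ RedSub.negRoots D.P b) (n := 0) Fin.elim0
    (fun k => k.elim0) (fun k => k.elim0)
  obtain ⟨r₂, ep, hep⟩ := exists_extend D (Ψ := R₁ ∩ RedSub.posRoots D.P b) (n := 0) Fin.elim0
    (fun k => k.elim0) (fun k => k.elim0)
  obtain ⟨c, hc, hco⟩ := exists_cell_openImmersion D t₁ ht₁ R₁ hR₁ b _ _ hen hep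
  haveI := hco
  have h1 : ∀ s : S, η[H₁].left s ∈ Set.range c.left.base := fun s => by
    let o : 𝟙_ (Over S) ⟶ _ := lift (tuple (0 + r₁) fun _ => (1 : 𝟙_ (Over S) ⟶ Red.Ga S))
      (lift (1 : 𝟙_ (Over S) ⟶ D.T) (tuple (0 + r₂) fun _ => (1 : 𝟙_ (Over S) ⟶ Red.Ga S)))
    have ho : o ≫ c = η[H₁] := by
      rw [← cancel_mono h₁, Category.assoc, hc, show η[H₁] = (1 : 𝟙_ (Over S) ⟶ H₁) by
        rw [Hom.one_def, toUnit_unique (toUnit _) (𝟙 _), Category.id_comp], MonObj.one_comp]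
      refine hom_ext_pt fun R _ g j => ?_
      rw [← Category.assoc, comp_cellMap g D _ _ (j ≫ o) 1 (by
        rw [tPt_one]; simp [o, MonObj.one_comp])]
      have hz : ∀ (l : ℕ), gvs g (j ≫ (tuple l fun _ => (1 : 𝟙_ (Over S) ⟶ Red.Ga S))) = 0 := fun l => funext fun k => by
        rw [gvs, Category.assoc, tuple_pr, MonObj.comp_one, ← ga_zero g, gv_ga]; rfl
      simp only [o, Category.assoc, lift_snd_assoc, lift_snd, lift_fst, hz, cellPt, uProd_zero, tPt_one,
        _root_.one_mul, MonObj.comp_one]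
    exact ⟨o.left.base s, congrArg (fun q : 𝟙_ (Over S) ⟶ H₁ => q.left.base s) ho⟩
  let l : Red.DS S ℤ ⟶ G := Red.DSmap S f ≫ D.split.inv.hom.hom ≫ D.i
  have hl : ∀ {R : Type u} [CommRing R] {B : Type u} [CommRing B] [Algebra R B] (g : Spec (CommRingCat.of R) ⟶ S)
      (χ : Multiplicative ℤ →* B), ds g χ ≫ l = tPt g D (χ.comp f.toMultiplicative) := fun g χ => by
    simp only [l, ← Category.assoc, ds_DSmap]
    simp only [tPt, Category.assoc]
  -- the cocharacter commutes with the cell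
  have hcell : ∀ {Y : Over S} (χ : Y ⟶ Red.DS S ℤ) (a : Y ⟶ _), (χ ≫ l) * (a ≫ c ≫ h₁) * (χ ≫ l)⁻¹ = a ≫ c ≫ h₁ := by
    intro Y χ a
    refine hom_ext_pt fun R _ g j => ?_
    obtain ⟨χ₀, hχ₀⟩ := ds_surjective g (j ≫ χ)
    obtain ⟨θ, hθ⟩ := exists_tPt g D ((j ≫ a) ≫ snd _ _ ≫ fst _ _)
    rw [MonObj.comp_mul, MonObj.comp_mul, GrpObj.comp_inv, ← Category.assoc j χ, ← hχ₀, hl, ← Category.assoc j a, hc,
      comp_cellMap g D _ _ (j ≫ a) θ hθ, cellPt]
    have hu : ∀ {n : ℕ} (e : Fin n → D.idx) (_ : ∀ k, e k ∈ R₁) (x : Fin n → R),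
        tPt g D (χ₀.comp f.toMultiplicative) * uProd g D e x * (tPt g D (χ₀.comp f.toMultiplicative))⁻¹ =
          uProd g D e x := fun e he x => by
      rw [tPt_conj_uProd]
      congr 1
      funext k
      change χ₀ (Multiplicative.ofAdd (f (D.P.root (e k)))) * x k = x k
      rw [hf₁ _ (he k), ofAdd_zero, map_one, _root_.one_mul]
    set τ := tPt g D (χ₀.comp f.toMultiplicative)
    have hθc : τ * tPt g D θ * τ⁻¹ = tPt g D θ := by rw [(tPt_commute g D _ θ).eq, mul_inv_cancel_right]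
    have key : ∀ v w, τ * (uProd g D (Fin.append Fin.elim0 en) v * (tPt g D θ * uProd g D (Fin.append Fin.elim0 ep) w)) *
        τ⁻¹ = uProd g D (Fin.append Fin.elim0 en) v * (tPt g D θ * uProd g D (Fin.append Fin.elim0 ep) w) := fun v w => by
      conv_rhs => rw [← hu _ (fun k => (hen.2.subset ⟨k, rfl⟩).1) v, ← hu _ (fun k => (hep.2.subset ⟨k, rfl⟩).1) w, ← hθc]
      group
    exact key _ _
  -- and hence with the subgroup
  haveI := geometricallyIrreducible_of_connected hconn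
  obtain ⟨Y', p, a₁, a₂, hp1, hp2, hp3, ha₁, ha₂, hab⟩ :=
    exists_split_fppf c.left.opensRange h1 (pmap g (lconst R R) ≫ z)
  haveI := hp1
  haveI := hp2
  haveI := hp3
  obtain ⟨za, hza⟩ := H21Rank1.exists_lift_of_range_subset c a₁ ha₁
  obtain ⟨zb, hzb⟩ := H21Rank1.exists_lift_of_range_subset c a₂ ha₂
  obtain ⟨χ₁, hχ₁⟩ : ∃ χ₁ : Multiplicative ℤ →* LaurentPolynomial R, ds g χ₁ ≫ l = tPt g D (cz R D f) :=
    ⟨AddMonoidAlgebra.of R ℤ, by rw [hl]; rfl⟩
  haveI : Epi p.left := inferInstance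
  haveI : Epi p := (Over.forget S).epi_of_epi_map (inferInstanceAs (Epi p.left))
  have hpc : p ≫ pmap g (lconst R R) ≫ z ≫ h₁ = (za ≫ c ≫ h₁) * (zb ≫ c ≫ h₁) := by
    have := congrArg (· ≫ h₁) hab
    simp only [MonObj.mul_comp, Category.assoc, ← hza, ← hzb] at this
    exact this
  rw [← cancel_epi p, conjL_apply, ← hχ₁, MonObj.comp_mul, MonObj.comp_mul, GrpObj.comp_inv, hpc,
    ← Category.assoc p]
  set q := (p ≫ ds g χ₁) ≫ l with hq
  calc q * ((za ≫ c ≫ h₁) * (zb ≫ c ≫ h₁)) * q⁻¹ = q * (za ≫ c ≫ h₁) * q⁻¹ * (q * (zb ≫ c ≫ h₁) * q⁻¹) := by group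
    _ = _ := by rw [hq, hcell, hcell]

omit hf₁ in
/-- **The Levi decomposition along the symmetric part.** -/
theorem exists_levi_decomposition {H' : Over S} [GrpObj H'] {h' : H' ⟶ G} [Smooth H'.hom] [IsMonHom h']
    [IsImmersion h'.left] [QuasiCompact H'.hom] [QuasiCompact H₁.hom] (hconn' : RedSub.HasConnectedFibres H')
    (hconn₁ : RedSub.HasConnectedFibres H₁) (t' : D.T ⟶ H') (ht' : t' ≫ h' = D.i) (R' : Set D.idx)
    (hR' : ∀ a : D.idx, (∃ v : Red.Ga S ⟶ H', v ≫ h' = D.u a) ↔ a ∈ R')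
    (hR₁' : R₁ = {a | a ∈ R' ∧ D.P.reflectionPerm a a ∈ R'}) (f₁ : H₁ ⟶ H') (hf₁' : f₁ ≫ h' = h₁) :
    ∃ (U₂ : Over S) (_ : GrpObj U₂) (u₂ : U₂ ⟶ H'), IsMonHom u₂ ∧ Par.IsUnipotentRadical u₂ ∧
      IsIso ((f₁ ⊗ₘ u₂) ≫ μ[H']) ∧
      (∀ {m : ℕ} (e : Fin m → D.idx), RedSub.Enumerates {a | a ∈ R' ∧ D.P.reflectionPerm a a ∉ R'} e →
        ∃ ψ : RedSub.pow (Red.Ga S) m ≅ U₂, ψ.hom ≫ u₂ ≫ h' = RedSub.prodMap (Red.Ga S) m (fun k => D.u (e k))) ∧
      ∀ (X : Over S) (x : X ⟶ U₂),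
        (∀ (X' : Over S) (y : X' ⟶ X) (z : X' ⟶ H₁),
          (∃ z' : X' ⟶ H₁, (y ≫ x ≫ u₂ ≫ h') * (z ≫ h₁) * (y ≫ x ≫ u₂ ≫ h')⁻¹ = z' ≫ h₁) ∧
          (∃ z' : X' ⟶ H₁, (y ≫ x ≫ u₂ ≫ h')⁻¹ * (z ≫ h₁) * (y ≫ x ≫ u₂ ≫ h') = z' ≫ h₁)) → x = 1 := by
  classical
  haveI := isAffineHom_hom D
  haveI := D.fintypeIdx
  haveI : Finite D.idx := Finite.of_fintype _
  haveI := H21Red0.isReduced_of_nonempty D
  haveI : Mono h' := (Over.forget S).mono_of_mono_map (inferInstanceAs (Mono h'.left))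
  haveI : Mono h₁ := (Over.forget S).mono_of_mono_map (inferInstanceAs (Mono h₁.left))
  haveI : IsMonHom f₁ := by
    haveI : IsMonHom (f₁ ≫ h') := by rw [hf₁']; infer_instance
    exact H21Diag.isMonHom_of_comp_mono f₁ h'
  subst hR₁'
  have hrl := rootsLike t' ht' R' hR'
  obtain ⟨f, hf0, hfpos⟩ := hrl.exists_functional
  have hf₁ : ∀ a ∈ {a | a ∈ R' ∧ D.P.reflectionPerm a a ∈ R'}, f (D.P.root a) = 0 := fun a ha => hf0 a ha
  have hsymm : ∀ a ∈ {a | a ∈ R' ∧ D.P.reflectionPerm a a ∈ R'},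
      D.P.reflectionPerm a a ∈ {a | a ∈ R' ∧ D.P.reflectionPerm a a ∈ R'} := fun a ha => opp_mem_sPart D.P ha
  have hhalf : R' ∩ half D f = {a | a ∈ R' ∧ D.P.reflectionPerm a a ∉ R'} := by
    ext a
    refine ⟨fun ⟨ha, hpos⟩ => ⟨ha, fun ho => ?_⟩, fun ha => ⟨ha.1, hfpos a ha⟩⟩
    change 0 < f (D.P.root a) at hpos
    rw [hf0 a ⟨ha, ho⟩] at hpos
    exact lt_irrefl _ hpos
  have hnn : ∀ b ∈ R', 0 ≤ f (D.P.root b) := fun b hb => by
    by_cases hb' : D.P.reflectionPerm b b ∈ R'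
    · exact (hf0 b ⟨hb, hb'⟩).ge
    · exact (hfpos b ⟨hb, hb'⟩).le
  obtain ⟨m₀, e₀, he₀⟩ := exists_enumerates D (R' ∩ half D f)
  obtain ⟨grp, hmon⟩ := exists_uPartGrp t' ht' R' hR' f e₀ he₀
  letI := grp
  haveI := hmon
  set pu := RedSub.prodMap (Red.Ga S) m₀ (fun k => D.u (e₀ k)) with hpu
  haveI hclpu : IsClosedImmersion pu.left := isClosedImmersion_uPart t' ht' R' hR' f e₀ he₀
  haveI : Mono pu := Over.mono_of_mono_left _
  obtain ⟨u, hu⟩ := exists_uPart_lift t' ht' R' hR' f e₀ he₀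
  rw [← hpu] at hu
  haveI : IsMonHom u := by
    haveI : IsMonHom (u ≫ h') := by rw [hu]; infer_instance
    exact H21Diag.isMonHom_of_comp_mono u h'
  haveI hucl : IsClosedImmersion u.left := by
    haveI : IsClosedImmersion (u.left ≫ h'.left) := by rw [← Over.comp_left, hu]; infer_instance
    exact IsClosedImmersion.of_comp u.left h'.left
  haveI hsm : Smooth (RedSub.pow (Red.Ga S) m₀).hom := smooth_pow H21Rank1.smooth_Ga m₀
  have hinter : ∀ {X : Over S} (a : X ⟶ H₁) (n : X ⟶ RedSub.pow (Red.Ga S) m₀), a ≫ h₁ = n ≫ pu → a = 1 := by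
    intro X a n han
    refine hom_ext_pt fun R _ g j => ?_
    rw [← cancel_mono h₁, MonObj.comp_one, MonObj.one_comp]
    refine eq_one_of_mem_half D t₁ ht₁ _ hR₁ f hf₁ g ⟨j ≫ a, rfl⟩ ?_
    rw [Category.assoc, han]
    exact (comp_uPart_mem t' ht' R' hR' f e₀ he₀ g j n).1
  have hconj : ∀ {X : Over S} (x : X ⟶ H') (n : X ⟶ RedSub.pow (Red.Ga S) m₀),
      ∃ n', (x ≫ h') * (n ≫ pu) * (x ≫ h')⁻¹ = n' ≫ pu := fun x n =>
    conj_uPart_mem t' ht' R' hR' f e₀ he₀ hconn' hnn x n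
  -- the product map
  let mm : H₁ ⊗ RedSub.pow (Red.Ga S) m₀ ⟶ H' := (f₁ ⊗ₘ u) ≫ μ[H']
  have hmm : ∀ {X : Over S} (k : X ⟶ H₁ ⊗ RedSub.pow (Red.Ga S) m₀),
      k ≫ mm ≫ h' = (k ≫ fst _ _ ≫ h₁) * (k ≫ snd _ _ ≫ pu) := fun k => by
    simp only [mm]
    rw [← CartesianMonoidalCategory.lift_fst_comp_snd_comp, ← Hom.mul_def, MonObj.mul_comp, MonObj.comp_mul]
    simp only [Category.assoc, hf₁', hu]
  haveI : Mono mm := ⟨fun {X} k k' hk => by
    have h2 := congrArg (· ≫ h') hk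
    simp only [Category.assoc, hmm] at h2
    have e1 : ((k' ≫ fst _ _)⁻¹ * (k ≫ fst _ _)) ≫ h₁ = ((k' ≫ snd _ _) * (k ≫ snd _ _)⁻¹) ≫ pu := by
      rw [MonObj.mul_comp, GrpObj.inv_comp, MonObj.mul_comp, GrpObj.inv_comp, eq_mul_inv_iff_mul_eq,
        _root_.mul_assoc, inv_mul_eq_iff_eq_mul]
      simpa only [Category.assoc] using h2
    have e2 := hinter _ _ e1
    rw [inv_mul_eq_one] at e2
    refine CartesianMonoidalCategory.hom_ext _ _ e2.symm ?_
    rw [← cancel_mono pu]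
    simp only [← Category.assoc k, ← Category.assoc k'] at h2
    rw [e2, mul_left_cancel_iff] at h2
    exact h2⟩
  -- its image is a subgroup
  let Img : ∀ X : Over S, Subgroup (X ⟶ G) := fun X =>
    { carrier := {z | Fac (mm ≫ h') z}
      one_mem' := ⟨lift 1 1, by rw [hmm]; simp only [lift_fst_assoc, lift_snd_assoc, MonObj.one_comp, _root_.mul_one]⟩
      mul_mem' := by
        rintro _ _ ⟨k, rfl⟩ ⟨k', rfl⟩
        obtain ⟨n', hn'⟩ := hconj (k' ≫ fst _ _ ≫ f₁)⁻¹ (k ≫ snd _ _)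
        refine ⟨lift ((k ≫ fst _ _) * (k' ≫ fst _ _)) (n' * (k' ≫ snd _ _)), ?_⟩
        rw [hmm, hmm, hmm, lift_fst_assoc, lift_snd_assoc, MonObj.mul_comp, MonObj.mul_comp, ← hn', GrpObj.inv_comp]
        simp only [Category.assoc, hf₁']
        group
      inv_mem' := by
        rintro _ ⟨k, rfl⟩
        obtain ⟨n', hn'⟩ := hconj (k ≫ fst _ _ ≫ f₁) (k ≫ snd _ _)⁻¹
        refine ⟨lift (k ≫ fst _ _)⁻¹ n', ?_⟩
        rw [hmm, hmm, lift_fst_assoc, lift_snd_assoc, ← hn', GrpObj.inv_comp, GrpObj.inv_comp]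
        simp only [Category.assoc, hf₁']
        group }
  have hImg_pre : ∀ {X Y : Over S} (q : Y ⟶ X) (z : X ⟶ G), z ∈ Img X → q ≫ z ∈ Img Y := fun q z hz =>
    Fac.precomp q hz
  have hImg₁ : ∀ {X : Over S} (a : X ⟶ H₁), a ≫ h₁ ∈ Img X := fun a =>
    ⟨lift a 1, by rw [hmm]; simp only [lift_fst_assoc, lift_snd_assoc, MonObj.one_comp, _root_.mul_one]⟩
  have hImg₂ : ∀ {X : Over S} (n : X ⟶ RedSub.pow (Red.Ga S) m₀), n ≫ pu ∈ Img X := fun n =>
    ⟨lift 1 n, by rw [hmm]; simp only [lift_fst_assoc, lift_snd_assoc, MonObj.one_comp, _root_.one_mul]⟩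
  have hroot : ∀ a ∈ R', D.u a ∈ Img (Red.Ga S) := by
    intro a ha
    by_cases ha' : D.P.reflectionPerm a a ∈ R'
    · obtain ⟨v, hv⟩ := (hR₁ a).mpr ⟨ha, ha'⟩
      rw [← hv]
      exact hImg₁ v
    · obtain ⟨w, hw⟩ := exists_lift_uPart t' ht' R' hR' f e₀ he₀ (D.u a) fun R _ g j => by
        obtain ⟨x, hx⟩ : ∃ x, ga g x = j := ⟨gv g j, ga_gv g j⟩
        rw [← hx]
        exact ⟨uPt_mem_Ug D g (show a ∈ half D f from hfpos a ⟨ha, ha'⟩) x, by
          obtain ⟨v, hv⟩ := (hR' a).mpr ha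
          exact ⟨ga g x ≫ v, by rw [Category.assoc, hv]⟩⟩
      rw [← hw]
      exact hImg₂ w
  have hprod : ∀ (n : ℕ) (e : Fin n → D.idx), (∀ k, e k ∈ R') →
      RedSub.prodMap (Red.Ga S) n (fun k => D.u (e k)) ∈ Img (RedSub.pow (Red.Ga S) n) := by
    intro n
    induction n with
    | zero => exact fun e _ => one_mem _
    | succ n ih =>
      intro e he
      exact mul_mem (hImg_pre _ _ (hroot _ (he 0))) (hImg_pre _ _ (ih (fun k => e k.succ) fun k => he k.succ))
  obtain ⟨b⟩ := H21Red0.nonempty_base D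
  obtain ⟨r₁, en, hen⟩ := exists_extend D (Ψ := R' ∩ RedSub.negRoots D.P b) (n := 0) Fin.elim0
    (fun k => k.elim0) (fun k => k.elim0)
  obtain ⟨r₂, ep, hep⟩ := exists_extend D (Ψ := R' ∩ RedSub.posRoots D.P b) (n := 0) Fin.elim0
    (fun k => k.elim0) (fun k => k.elim0)
  obtain ⟨c, hc, hco⟩ := exists_cell_openImmersion D t' ht' R' hR' b _ _ hen hep
  haveI := hco
  have h1 : ∀ s : S, η[H'].left s ∈ Set.range c.left.base := fun s => by
    let o : 𝟙_ (Over S) ⟶ _ := lift (tuple (0 + r₁) fun _ => (1 : 𝟙_ (Over S) ⟶ Red.Ga S))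
      (lift (1 : 𝟙_ (Over S) ⟶ D.T) (tuple (0 + r₂) fun _ => (1 : 𝟙_ (Over S) ⟶ Red.Ga S)))
    have ho : o ≫ c = η[H'] := by
      rw [← cancel_mono h', Category.assoc, hc, show η[H'] = (1 : 𝟙_ (Over S) ⟶ H') by
        rw [Hom.one_def, toUnit_unique (toUnit _) (𝟙 _), Category.id_comp], MonObj.one_comp]
      refine hom_ext_pt fun R _ g j => ?_
      rw [← Category.assoc, comp_cellMap g D _ _ (j ≫ o) 1 (by
        rw [tPt_one]; simp [o, MonObj.one_comp])]
      have hz : ∀ (l : ℕ), gvs g (j ≫ (tuple l fun _ => (1 : 𝟙_ (Over S) ⟶ Red.Ga S))) = 0 := fun l => funext fun k => by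
        rw [gvs, Category.assoc, tuple_pr, MonObj.comp_one, ← ga_zero g, gv_ga]; rfl
      simp only [o, Category.assoc, lift_snd_assoc, lift_snd, lift_fst, hz, cellPt, uProd_zero, tPt_one,
        _root_.one_mul, MonObj.comp_one]
    exact ⟨o.left.base s, congrArg (fun q : 𝟙_ (Over S) ⟶ H' => q.left.base s) ho⟩
  have hcImg : c ≫ h' ∈ Img _ := by
    rw [hc]
    refine mul_mem (hImg_pre _ _ (hprod _ _ fun k => (hen.2.subset ⟨k, rfl⟩).1)) (mul_mem ?_
      (hImg_pre _ _ (hImg_pre _ _ (hprod _ _ fun k => (hep.2.subset ⟨k, rfl⟩).1))))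
    rw [← ht₁]
    exact hImg_pre _ _ (hImg_pre _ _ (hImg₁ t₁))
  haveI := geometricallyIrreducible_of_connected hconn'
  obtain ⟨Y', p, a₁, a₂, hp1, hp2, hp3, ha₁, ha₂, hab⟩ := exists_split_fppf c.left.opensRange h1 (𝟙 H')
  haveI := hp1
  haveI := hp2
  haveI := hp3
  obtain ⟨za, hza⟩ := H21Rank1.exists_lift_of_range_subset c a₁ ha₁
  obtain ⟨zb, hzb⟩ := H21Rank1.exists_lift_of_range_subset c a₂ ha₂
  obtain ⟨w, hw⟩ : p ≫ h' ∈ Img Y' := by
    have e : p ≫ h' = (za ≫ c ≫ h') * (zb ≫ c ≫ h') := by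
      have := congrArg (· ≫ h') hab
      simp only [MonObj.mul_comp, Category.assoc, Category.id_comp, ← hza, ← hzb] at this
      exact this
    rw [e]
    exact mul_mem (hImg_pre _ _ hcImg) (hImg_pre _ _ hcImg)
  obtain ⟨σ, hσ⟩ := exists_lift_epi p mm (𝟙 H') w (by
    rw [← cancel_mono h', Category.assoc, hw, Category.comp_id])
  haveI : IsIso mm := ⟨σ, by rw [← cancel_mono mm, Category.assoc, hσ, Category.comp_id, Category.id_comp], hσ⟩
  have hσ' : ∀ {X : Over S} (z : X ⟶ H'), z ≫ h' = (z ≫ σ ≫ fst _ _ ≫ h₁) * (z ≫ σ ≫ snd _ _ ≫ pu) := fun z => by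
    have := hmm (z ≫ σ)
    simp only [Category.assoc, reassoc_of% hσ] at this
    exact this
  haveI : QuasiCompact (RedSub.pow (Red.Ga S) m₀).hom := by rw [← Over.w u]; infer_instance
  refine ⟨RedSub.pow (Red.Ga S) m₀, inferInstance, u, inferInstance,
    ⟨inferInstance, hucl, fun T x n => ?_, hsm, inferInstance, fun s => ⟨connected_fib_pow D (Red.geomPt s) m₀,
      hasNoSubtorus_uPart f e₀ he₀.1 (fun k => (he₀.2.subset ⟨k, rfl⟩).2) (Red.geomPt s)⟩, ?_⟩,
    inferInstanceAs (IsIso mm), ?_, ?_⟩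
  · obtain ⟨n', hn'⟩ := hconj x n
    refine ⟨n', ?_⟩
    rw [← cancel_mono h']
    simp only [MonObj.mul_comp, GrpObj.inv_comp, Category.assoc, hu]
    exact hn'
  · intro U' _ u' _ hcl hN hsm' _ hfib
    haveI := hcl
    haveI := hsm'
    let w : U' ⟶ H₁ := u' ≫ σ ≫ fst _ _
    let wu : U' ⟶ RedSub.pow (Red.Ga S) m₀ := u' ≫ σ ≫ snd _ _
    have hsplit : u' ≫ h' = (w ≫ h₁) * (wu ≫ pu) := by simp only [w, wu, Category.assoc]; exact hσ' u'
    suffices hw1 : w = 1 by
      refine ⟨wu, ?_⟩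
      rw [← cancel_mono h', Category.assoc, hu, hsplit, hw1, MonObj.one_comp, _root_.one_mul]
    -- the projection stays in the subgroup
    have hret : ∀ (R : Type u) [CommRing R] (g : Spec (CommRingCat.of R) ⟶ S) (y : pt g R ⟶ U'),
        ∃ y', y' ≫ u' = y ≫ w ≫ f₁ := fun R _ g y => by
      let x : Fin m₀ → R := gvs g (y ≫ wu)
      let xX : Fin m₀ → Polynomial R := fun k => Polynomial.C (x k) * Polynomial.X ^ (f (D.P.root (e₀ k))).toNat
      let P : pt g (Polynomial R) ⟶ H' := (pmap g (pconst R R) ≫ y ≫ w ≫ f₁) * (gas g xX ≫ u)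
      have hP : P ≫ h' = (pmap g (pconst R R) ≫ y ≫ w ≫ h₁) * uProd g D e₀ xX := by
        simp only [P, MonObj.mul_comp, Category.assoc, hf₁', hu, hpu, comp_prodMap_u, gvs_gas]
      have hy : y ≫ u' ≫ h' = ((y ≫ w) ≫ h₁) * uProd g D e₀ x := by
        rw [hsplit, MonObj.comp_mul, ← Category.assoc y wu, hpu, comp_prodMap_u]
        simp only [Category.assoc]
        rfl
      have hpe : pmap g (polyL R R) ≫ pmap g (pconst R R) = pmap g (lconst R R) := by
        rw [pmap_comp]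
        congr 1
        refine AlgHom.ext fun r => ?_
        rw [AlgHom.comp_apply, pconst_apply, polyL_apply, Polynomial.toLaurent_C, lconst_apply]
      have hL : Fac u' (pmap g (polyL R R) ≫ P) := by
        obtain ⟨n', hn'⟩ := hN _ (ds g (cz R D f) ≫ D.split.inv.hom.hom ≫ t') (pmap g (lconst R R) ≫ y)
        refine ⟨n', ?_⟩
        rw [← cancel_mono h']
        have hn2 := congrArg (· ≫ h') hn'
        simp only [MonObj.mul_comp, GrpObj.inv_comp, Category.assoc, ht'] at hn2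
        rw [Category.assoc, ← hn2, Category.assoc, hP]
        change _ = _
        rw [show ds g (cz R D f) ≫ D.split.inv.hom.hom ≫ D.i = tPt g D (cz R D f) from rfl, hy, ← conjL_apply, map_mul,
          conjL_eq_const D t₁ ht₁ _ hR₁ f hf₁ hconn₁ g (y ≫ w), MonObj.comp_mul,
          ← Category.assoc (pmap g (polyL R R)) (pmap g (pconst R R)), hpe, conjL_apply]
        congr 1
        rw [uProd, uProd, polyL_prod g D f e₀ (fun k => (he₀.2.subset ⟨k, rfl⟩).2.le) x, ← conj_cz_prod]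
      obtain ⟨y', hy'⟩ := (fac_of_injective u' g _ Polynomial.toLaurent_injective hL).precomp
        (pmap g (Polynomial.aeval (0 : R) : Polynomial R →ₐ[R] R))
      refine ⟨y', hy'.trans ?_⟩
      rw [← cancel_mono h', Category.assoc, hP, MonObj.comp_mul, pmap_uProd, ← Category.assoc _ (pmap g (pconst R R)),
        pmap_comp]
      have hz : (fun k => (Polynomial.aeval (0 : R) : Polynomial R →ₐ[R] R) (xX k)) = 0 := funext fun k => by
        have h0 : (f (D.P.root (e₀ k))).toNat ≠ 0 := by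
          have : 0 < f (D.P.root (e₀ k)) := (he₀.2.subset ⟨k, rfl⟩).2
          omega
        simp [xX, zero_pow h0]
      have hid : (Polynomial.aeval (0 : R) : Polynomial R →ₐ[R] R).comp (pconst R R) = AlgHom.id R R :=
        AlgHom.ext fun r => by rw [AlgHom.comp_apply, pconst_apply, Polynomial.aeval_C]; rfl
      rw [hz, uProd_zero, _root_.mul_one, hid, pmap_id, Category.id_comp]
      simp only [Category.assoc, hf₁']
    haveI : Mono u' := Over.mono_of_mono_left _
    obtain ⟨r, hr⟩ := exists_lift_of_pts u' (w ≫ f₁) fun R _ g y => hret R g y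
    obtain ⟨P, i, q, hqcl, hiq, hPlift⟩ := exists_pullback_closed u' f₁
    haveI := hqcl
    haveI : Mono q := Over.mono_of_mono_left _
    obtain ⟨ρ, hρi, hρq⟩ := hPlift U' r w hr
    have hπf : f₁ ≫ σ = lift (𝟙 H₁) 1 := by
      rw [← cancel_mono mm, Category.assoc, hσ, Category.comp_id, ← cancel_mono h', hf₁', Category.assoc, hmm]
      simp only [lift_fst_assoc, lift_snd_assoc, MonObj.one_comp, _root_.mul_one, Category.id_comp]
    have hiρ : i ≫ ρ = 𝟙 P := by
      rw [← cancel_mono q, Category.assoc, hρq, Category.id_comp]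
      simp only [w, reassoc_of% hiq, reassoc_of% hπf, lift_fst, Category.comp_id]
    obtain ⟨grpP, hqmon⟩ := H21Diag.exists_grpObj_of_mono q
      ⟨(hPlift _ 1 1 (by rw [MonObj.one_comp, MonObj.one_comp])).choose,
        (hPlift _ 1 1 (by rw [MonObj.one_comp, MonObj.one_comp])).choose_spec.2⟩
      (fun X a a' => by
        obtain ⟨c, -, hc2⟩ := hPlift X ((a ≫ i) * (a' ≫ i)) ((a ≫ q) * (a' ≫ q))
          (by simp only [MonObj.mul_comp, Category.assoc, hiq])
        exact ⟨c, hc2⟩)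
      (fun X a => by
        obtain ⟨c, -, hc2⟩ := hPlift X (a ≫ i)⁻¹ (a ≫ q)⁻¹ (by simp only [GrpObj.inv_comp, Category.assoc, hiq])
        exact ⟨c, hc2⟩)
    letI := grpP
    haveI := hqmon
    haveI : IsMonHom i := by
      haveI : IsMonHom (i ≫ u') := by rw [hiq]; infer_instance
      exact H21Diag.isMonHom_of_comp_mono i u'
    have hqN : AlgGrp.IsNormalHom q := fun X x n => by
      obtain ⟨n', hn'⟩ := hN X (x ≫ f₁) (n ≫ i)
      obtain ⟨c, -, hc2⟩ := hPlift X n' (x * (n ≫ q) * x⁻¹) (by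
        simp only [MonObj.mul_comp, GrpObj.inv_comp, Category.assoc, ← hn', hiq])
      exact ⟨c, hc2.symm⟩
    haveI : IsClosedImmersion h₁.left := isClosedImmersion_of_symm t₁ ht₁ _ hR₁ hsymm hconn₁
    haveI hfh : IsImmersion (f₁.left ≫ h'.left) := by rw [← Over.comp_left, hf₁']; infer_instance
    haveI : IsImmersion f₁.left := IsImmersion.of_comp f₁.left h'.left
    haveI : IsImmersion i.left := by
      haveI : IsImmersion (i.left ≫ u'.left) := by rw [← Over.comp_left, hiq, Over.comp_left]; infer_instance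
      exact IsImmersion.of_comp i.left u'.left
    haveI : LocallyOfFiniteType P.hom := by rw [← Over.w q]; infer_instance
    haveI : QuasiCompact P.hom := by rw [← Over.w q]; infer_instance
    have hPtriv : Red.IsTrivialGrp P := isTrivial_of_geomFibres fun s => by
      let g := Red.geomPt s
      let D' := H21Red0.geomSplit D s
      let h₁' : Red.geomFibre s H₁ ⟶ Red.geomFibre s G := (Over.pullback g).map h₁
      let q' : Red.geomFibre s P ⟶ Red.geomFibre s H₁ := (Over.pullback g).map q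
      let i' : Red.geomFibre s P ⟶ Red.geomFibre s U' := (Over.pullback g).map i
      let ρ' : Red.geomFibre s U' ⟶ Red.geomFibre s P := (Over.pullback g).map ρ
      have hret' : i' ≫ ρ' = 𝟙 _ := by rw [← Functor.map_comp, hiρ, CategoryTheory.Functor.map_id]
      haveI : IsMonHom h₁' := H21Diag.isMonHom_bcMap _ h₁
      haveI : IsMonHom q' := H21Diag.isMonHom_bcMap _ q
      haveI : IsMonHom i' := H21Diag.isMonHom_bcMap _ i
      haveI : IsImmersion h₁'.left := isImmersion_bcMap _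
      haveI : IsClosedImmersion q'.left := MorphismProperty.overPullbackMap (P := @IsClosedImmersion) _ _ hqcl
      haveI : Smooth (Red.geomFibre s H₁).hom := MorphismProperty.pullback_snd (P := @Smooth) _ _ inferInstance
      haveI : Smooth (Red.geomFibre s U').hom := MorphismProperty.pullback_snd (P := @Smooth) _ _ inferInstance
      haveI := isAffineHom_hom D'
      haveI : IsAffine (Red.geomFibre s G).left := isAffine_of_isAffineHom (Red.geomFibre s G).hom
      haveI := isClosedImmersion_of_sub D' h₁'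
      haveI : IsAffine (Red.geomFibre s H₁).left := isAffine_of_isAffineHom h₁'.left
      haveI : IsAffine (Red.geomFibre s P).left := isAffine_of_isAffineHom q'.left
      haveI : IsAffine (Red.geomFibre s U').left := by
        let u'' : Red.geomFibre s U' ⟶ Red.geomFibre s H' := (Over.pullback g).map u'
        let h'' : Red.geomFibre s H' ⟶ Red.geomFibre s G := (Over.pullback g).map h'
        haveI : IsMonHom h'' := H21Diag.isMonHom_bcMap _ h'
        haveI : IsImmersion h''.left := isImmersion_bcMap _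
        haveI : Smooth (Red.geomFibre s H').hom := MorphismProperty.pullback_snd (P := @Smooth) _ _ inferInstance
        haveI : IsClosedImmersion u''.left := MorphismProperty.overPullbackMap (P := @IsClosedImmersion) _ _ hcl
        haveI := isClosedImmersion_of_sub D' h''
        haveI : IsAffine (Red.geomFibre s H').left := isAffine_of_isAffineHom h''.left
        exact isAffine_of_isAffineHom u''.left
      haveI : LocallyOfFiniteType (Red.geomFibre s P).hom := by rw [← Over.w q']; infer_instance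
      haveI : Smooth (Red.geomFibre s P).hom := H27Split.smooth_of_retract i' ρ' hret'
      haveI : ConnectedSpace (Red.geomFibre s P).left := by
        haveI := (hfib s).1
        have hs : Function.Surjective ρ'.left.base := fun x => ⟨i'.left.base x, by
          change (i' ≫ ρ').left.base x = x
          rw [hret']; rfl⟩
        exact hs.connectedSpace ρ'.left.continuous
      haveI : Mono i' := by
        haveI : IsImmersion i'.left := MorphismProperty.overPullbackMap (P := @IsImmersion) _ _ ‹IsImmersion i.left›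
        exact (Over.forget _).mono_of_mono_map (inferInstanceAs (Mono i'.left))
      have hns : Red.HasNoSubtorus (AlgebraicClosure (S.residueField s)) (Red.geomFibre s P) := by
        intro T' _ j _ _ hT'
        exact (hfib s).2 T' (j ≫ i') hT'
      exact radical_trivial D' ((Over.pullback g).map t₁) (fibre_torus D t₁ ht₁ s) _
        (fibre_roots D t₁ ht₁ _ hR₁ s) hsymm q' (H20Red.isNormalHom_bcMap g q hqN) hns
    rw [← hρq, isTrivial_pts hPtriv ρ 1, MonObj.one_comp]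
  · intro m e he
    have he' : RedSub.Enumerates (R' ∩ half D f) e := by rw [hhalf]; exact he
    haveI := isClosedImmersion_uPart t' ht' R' hR' f e he'
    haveI : Mono (RedSub.prodMap (Red.Ga S) m fun k => D.u (e k)) := Over.mono_of_mono_left _
    obtain ⟨a, ha⟩ := exists_lift_uPart t' ht' R' hR' f e₀ he₀ (RedSub.prodMap (Red.Ga S) m fun k => D.u (e k))
      fun R _ g j => by simpa using comp_uPart_mem t' ht' R' hR' f e he' g j (𝟙 _)
    obtain ⟨a', ha'⟩ := exists_lift_uPart t' ht' R' hR' f e he' pu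
      fun R _ g j => by simpa using comp_uPart_mem t' ht' R' hR' f e₀ he₀ g j (𝟙 _)
    rw [← hpu] at ha
    refine ⟨⟨a, a', ?_, ?_⟩, ?_⟩
    · rw [← cancel_mono (RedSub.prodMap (Red.Ga S) m fun k => D.u (e k)), Category.assoc, ha', ha, Category.id_comp]
    · rw [← cancel_mono pu, Category.assoc, ha, ha', Category.id_comp]
    · rw [hu]
      exact ha
  · intro X x hx
    refine hom_ext_pt fun R _ g j => ?_
    let A := MonoidAlgebra R (Multiplicative D.M)
    let χu : Multiplicative D.M →* A := MonoidAlgebra.of R _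
    let y : pt g A ⟶ X := pmap g (toBase R A) ≫ j
    obtain ⟨⟨z', hz'⟩, -⟩ := hx (pt g A) y (ds g χu ≫ D.split.inv.hom.hom ≫ t₁)
    let τ : pt g A ⟶ H₁ := ds g χu ≫ D.split.inv.hom.hom ≫ t₁
    have hτ : τ ≫ h₁ = tPt g D χu := by simp only [τ, Category.assoc, ht₁]; rfl
    -- the torus is centralised
    obtain ⟨n', hn'⟩ := hconj (τ ≫ f₁) (y ≫ x)⁻¹
    rw [Category.assoc τ, hf₁', GrpObj.inv_comp] at hn'
    simp only [Category.assoc, hu] at hz' hn'
    have h3 : (z' * τ⁻¹) ≫ h₁ = ((y ≫ x) * n') ≫ pu := by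
      rw [MonObj.mul_comp, MonObj.mul_comp, GrpObj.inv_comp, ← hz', ← hn', Category.assoc y x]
      simp only [τ, Category.assoc]
      group
    have h4 : z' = τ := mul_inv_eq_one.mp (hinter _ _ h3)
    rw [h4, hτ, show ds g χu ≫ D.split.inv.hom.hom ≫ t₁ ≫ h₁ = tPt g D χu by rw [← hτ]; simp only [τ, Category.assoc]] at hz'
    let v := gvs g (j ≫ x)
    suffices hv0 : v = 0 by
      rw [← cancel_mono pu, Category.assoc j x, ← Category.assoc j x, hpu, comp_prodMap_u, MonObj.comp_one,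
        MonObj.one_comp]
      change uProd g D e₀ v = 1
      rw [hv0, uProd_zero]
    have hval : (y ≫ x) ≫ pu = uProd g D e₀ (fun k => algebraMap R A (v k)) := by
      rw [hpu, comp_prodMap_u]
      congr 1
      rw [show y ≫ x = pmap g (toBase R A) ≫ gas g v by simp only [y, v, Category.assoc, gas_gvs], pmap_gas, gvs_gas]
      rfl
    rw [← Category.assoc, hval] at hz'
    have h5 : uProd g D e₀ (fun k => χu (Multiplicative.ofAdd (D.P.root (e₀ k))) * algebraMap R A (v k)) =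
        uProd g D e₀ (fun k => algebraMap R A (v k)) := by
      rw [← tPt_conj_uProd, mul_inv_eq_iff_eq_mul]
      exact (mul_inv_eq_iff_eq_mul.mp hz').symm
    have h6 : gas g (fun k => χu (Multiplicative.ofAdd (D.P.root (e₀ k))) * algebraMap R A (v k)) =
        gas g (fun k => algebraMap R A (v k)) := by
      rw [← cancel_mono pu, hpu, comp_prodMap_u, comp_prodMap_u, gvs_gas, gvs_gas]
      exact h5
    funext k
    have hk := congrArg (fun z => gvs g z k) h6
    simp only [gvs_gas] at hk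
    change MonoidAlgebra.single (Multiplicative.ofAdd (D.P.root (e₀ k))) (1 : R) * MonoidAlgebra.single 1 (v k) =
      MonoidAlgebra.single 1 (v k) at hk
    rw [MonoidAlgebra.single_mul_single, _root_.one_mul, _root_.mul_one, MonoidAlgebra.single_inj] at hk
    rcases hk with ⟨h7, -⟩ | ⟨h7, -⟩
    · exact absurd (Multiplicative.ofAdd.injective h7) (D.P.ne_zero _)
    · exact h7

end Groth.Agent.H21Split.TypeR
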