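import Groth.Agent.H21Split.TypeR.Radical
import Groth.Agent.H21Split.TypeR.RadTorus
import Groth.Agent.H27Split.Scheme
import Groth.Agent.H19Grp.UnramifiedFibres
import Groth.Agent.H19Grp.Diagonal
import Groth.Agent.H22Alg.FlatSurj

/-!
Retracts of smooth subgroups with trivial geometric fibres are trivial.
-/

open CategoryTheory MonoidalCategory CartesianMonoidalCategory MonObj GrpObj AlgebraicGeometry
open CategoryTheory.Limits

universe u

set_option autoImplicit false
set_option backward.isDefEq.respectTransparency false
set_option linter.style.haveILetI false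
set_option linter.unusedSectionVars false
set_option synthInstance.maxHeartbeats 400000
set_option maxHeartbeats 1000000

noncomputable section

namespace Groth.Agent.H21Split.TypeR

variable {S : Scheme.{u}}

/-- fibre products along a closed immersion, with their points -/
theorem exists_pullback_closed {A B C : Over S} (a : A ⟶ C) (b : B ⟶ C) [IsClosedImmersion a.left] :
    ∃ (P : Over S) (p : P ⟶ A) (q : P ⟶ B), IsClosedImmersion q.left ∧ p ≫ a = q ≫ b ∧
      ∀ (X : Over S) (x : X ⟶ A) (y : X ⟶ B), x ≫ a = y ≫ b → ∃ z : X ⟶ P, z ≫ p = x ∧ z ≫ q = y := by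
  let P : Over S := Over.mk (pullback.fst a.left b.left ≫ A.hom)
  have hw : pullback.snd a.left b.left ≫ B.hom = pullback.fst a.left b.left ≫ A.hom := by
    rw [← Over.w b, ← Category.assoc, ← pullback.condition, Category.assoc, Over.w]
  refine ⟨P, Over.homMk (pullback.fst a.left b.left) rfl, Over.homMk (pullback.snd a.left b.left) hw, ?_, ?_, ?_⟩
  · change IsClosedImmersion (pullback.snd a.left b.left)
    infer_instance
  · exact Over.OverMorphism.ext pullback.condition
  · intro X x y hxy
    refine ⟨Over.homMk (pullback.lift x.left y.left (congrArg (·.left) hxy)) ?_, ?_, ?_⟩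
    · change pullback.lift _ _ _ ≫ pullback.fst a.left b.left ≫ A.hom = X.hom
      rw [pullback.lift_fst_assoc, Over.w]
    · exact Over.OverMorphism.ext (pullback.lift_fst _ _ _)
    · exact Over.OverMorphism.ext (pullback.lift_snd _ _ _)

/-- **A group locally of finite type with trivial geometric fibres is trivial.** -/
theorem isTrivial_of_geomFibres {P : Over S} [GrpObj P] [LocallyOfFiniteType P.hom] [QuasiCompact P.hom]
    (h : ∀ s : S, Red.IsTrivialGrp (Red.geomFibre s P)) : Red.IsTrivialGrp P := by
  have h' : ∀ s : S, IsIso (P.hom.fiberToSpecResidueField s) := fun s => by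
    let g : Spec (CommRingCat.of (AlgebraicClosure (S.residueField s))) ⟶ Spec (S.residueField s) :=
      Spec.map (CommRingCat.ofHom (algebraMap (S.residueField s) (AlgebraicClosure (S.residueField s))))
    haveI : Flat g := (HasRingHomProperty.Spec_iff (P := @Flat)).mpr
      (RingHom.flat_algebraMap_iff.mpr inferInstance)
    haveI : Surjective g := ⟨fun x => ⟨(Classical.arbitrary (PrimeSpectrum (AlgebraicClosure (S.residueField s)))),
      Subsingleton.elim (α := PrimeSpectrum (S.residueField s)) _ _⟩⟩
    haveI : QuasiCompact (pullback.snd P.hom (S.fromSpecResidueField s)) := inferInstance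
    haveI : IsIso (pullback.snd (pullback.snd P.hom (S.fromSpecResidueField s)) g) := by
      have h1 : IsIso (pullback.snd P.hom (Red.geomPt s)) := h s
      haveI : IsIso (pullback.snd P.hom (g ≫ S.fromSpecResidueField s)) := h1
      rw [← pullbackLeftPullbackSndIso_hom_snd P.hom (S.fromSpecResidueField s) g]
      infer_instance
    exact H22Alg.isIso_of_baseChange (pullback.snd P.hom (S.fromSpecResidueField s)) g
  haveI : FormallyUnramified P.hom := H19Grp.formallyUnramified_of_fibres P.hom fun s => by
    haveI := h' s
    infer_instance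
  haveI : IsOpenImmersion (η[P]).left := (H19Grp.formallyUnramified_iff_isOpenImmersion_one P).mp inferInstance
  haveI : Surjective (η[P]).left := ⟨fun x => by
    refine ⟨P.hom x, ?_⟩
    haveI := h' (P.hom x)
    have hs : Subsingleton ↥(P.hom.fiber (P.hom x)) :=
      (asIso (P.hom.fiberToSpecResidueField (P.hom x))).hom.homeomorph.toEquiv.subsingleton
    have h1 : (η[P]).left (P.hom x) ∈ P.hom ⁻¹' {P.hom x} := by
      change ((η[P]).left ≫ P.hom) (P.hom x) = P.hom x
      rw [Over.w η[P]]
      rfl
    haveI := (P.hom.fiberHomeo (P.hom x)).symm.toEquiv.subsingleton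
    exact congrArg Subtype.val (Subsingleton.elim (α := ↥(P.hom ⁻¹' {P.hom x})) ⟨_, h1⟩ ⟨x, rfl⟩)⟩
  haveI : IsIso (η[P]).left := (isIso_iff_isOpenImmersion_and_surjective _).mpr ⟨inferInstance, inferInstance⟩
  have e : P.hom = CategoryTheory.inv (η[P]).left := IsIso.eq_inv_of_hom_inv_id (Over.w η[P])
  change IsIso P.hom
  rw [e]
  infer_instance

end Groth.Agent.H21Split.TypeR
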