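import Groth.Agent.H21Split.TypeR.RadPos
import Groth.Agent.H21Split.TypeR.NotRed

/-!
The normaliser of a type (R) subgroup in a solvable type (R) subgroup.
-/

open CategoryTheory MonoidalCategory CartesianMonoidalCategory MonObj GrpObj AlgebraicGeometry
open CategoryTheory.Limits

universe u

set_option autoImplicit false
set_option backward.isDefEq.respectTransparency false
set_option linter.style.haveILetI false
set_option linter.unusedSectionVars false
set_option synthInstance.maxHeartbeats 400000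
set_option maxHeartbeats 1000000

noncomputable section

namespace Groth.Agent.H21Split.TypeR

variable {S : Scheme.{u}} {G H : Over S} [GrpObj G] [GrpObj H] (D : Red.SplitRed G) {h : H ⟶ G}
  [Smooth H.hom] [IsMonHom h] [IsImmersion h.left] [ConnectedSpace S] (t : D.T ⟶ H) (ht : t ≫ h = D.i) (R' : Set D.idx)
  (hR' : ∀ a : D.idx, (∃ v : Red.Ga S ⟶ H, v ≫ h = D.u a) ↔ a ∈ R')

include ht hR' in
/-- a product of positive root groups outside the roots of a subgroup meets it trivially -/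
theorem eq_zero_of_fac_outside (f : D.M →+ ℤ) {n : ℕ} (e : Fin n → D.idx) (he : Function.Injective e)
    (hpos : ∀ k, e k ∈ half D f) (hout : ∀ k, e k ∉ R') {R : Type u} [CommRing R]
    (g : Spec (CommRingCat.of R) ⟶ S) {B : Type u} [CommRing B] [Algebra R B] (x : Fin n → B)
    (hx : Fac h (uProd g D e x)) : x = 0 := by
  classical
  haveI := D.fintypeIdx
  haveI : Finite D.idx := Finite.of_fintype _
  obtain ⟨n₁, e₁, he₁⟩ := exists_enumerates D (R' ∩ half D f)
  obtain ⟨r, e₂, he₂⟩ := exists_extend D (Ψ := half D f \ R') e he fun k => ⟨hpos k, hout k⟩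
  have hΨ : RedSub.Enumerates (half D f) (Fin.append e₁ (Fin.append e e₂)) := by
    refine ⟨append_injective D he₁.1 he₂.1 fun i j hij => ?_, ?_⟩
    · exact (he₂.2.subset ⟨j, rfl⟩).2 (hij ▸ (he₁.2.subset ⟨i, rfl⟩).1)
    · rw [range_append, he₁.2, he₂.2]
      ext a
      simp only [Set.mem_union, Set.mem_inter_iff, Set.mem_sdiff]
      tauto
  have h0 := coord_eq_zero t ht R' hR' (isPosSet_half D f) e₁ (Fin.append e e₂) hΨ he₁ g
    (Fin.append 0 (Fin.append x 0)) (by
      rw [uProd_append, uProd_zero, _root_.one_mul, uProd_append, uProd_zero, _root_.mul_one]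
      exact hx)
  funext k
  simpa using h0 (Fin.castAdd r k)

include ht hR' in
/-- **The points of a solvable subgroup normalising a subgroup lie in the intersection.** -/
theorem exists_factor_of_normalizes [QuasiCompact H.hom] (hconn : RedSub.HasConnectedFibres H) (b : D.P.Base)
    (hsub : R' ⊆ RedSub.posRoots D.P b) {H'' K : Over S} [GrpObj H''] [GrpObj K] {h'' : H'' ⟶ G} [Smooth H''.hom]
    [IsMonHom h''] [IsImmersion h''.left] (t'' : D.T ⟶ H'') (ht'' : t'' ≫ h'' = D.i) (R'' : Set D.idx)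
    (hR'' : ∀ a : D.idx, (∃ v : Red.Ga S ⟶ H'', v ≫ h'' = D.u a) ↔ a ∈ R'')
    {kG : K ⟶ G} [IsMonHom kG] (tK : D.T ⟶ K) (htK : tK ≫ kG = D.i)
    (hRK : ∀ a ∈ R', a ∈ R'' → ∃ v : Red.Ga S ⟶ K, v ≫ kG = D.u a) (fK : K ⟶ H) (hfK : fK ≫ h = kG)
    {X : Over S} (x : X ⟶ H)
    (hx : ∀ (X' : Over S) (y : X' ⟶ X) (z : X' ⟶ H''),
      ∃ z' : X' ⟶ H'', (y ≫ x ≫ h) * (z ≫ h'') * (y ≫ x ≫ h)⁻¹ = z' ≫ h'') :
    ∃ w : X ⟶ K, w ≫ fK = x := by
  classical
  haveI := isAffineHom_hom D
  haveI := D.fintypeIdx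
  haveI : Finite D.idx := Finite.of_fintype _
  haveI : Mono h := (Over.forget S).mono_of_mono_map (inferInstanceAs (Mono h.left))
  obtain ⟨f, hfp, -⟩ := exists_regular D b
  have hhalf : R' ∩ half D f = R' := Set.inter_eq_left.mpr fun a ha => hfp a (hsub ha)
  obtain ⟨m, eK, heK⟩ := exists_enumerates D (R' ∩ R'')
  obtain ⟨r, eo, he⟩ := exists_extend D (Ψ := R') eK heK.1 fun k => (heK.2.subset ⟨k, rfl⟩).1
  have heo : Function.Injective eo := fun i j hij =>
    Fin.natAdd_injective r m (he.1 (a₁ := Fin.natAdd m i) (a₂ := Fin.natAdd m j) (by simpa using hij))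
  have heoR : ∀ k, eo k ∈ R' ∧ eo k ∉ R'' := fun k => by
    have h1 : eo k ∈ R' := he.2.subset ⟨Fin.natAdd m k, by simp⟩
    refine ⟨h1, fun h2 => ?_⟩
    obtain ⟨i, hi⟩ := heK.2.symm.subset ⟨h1, h2⟩
    have := congrArg Fin.val (he.1 (a₁ := Fin.castAdd r i) (a₂ := Fin.natAdd m k) (by simp [hi]))
    simp at this
    omega
  have he' : RedSub.Enumerates (R' ∩ half D f) (Fin.append eK eo) := by rw [hhalf]; exact he
  haveI hclu := isClosedImmersion_uPart t ht R' hR' f _ he'
  obtain ⟨φ, hφ⟩ := exists_iso_borelMap D t ht R' hR' b hconn hsub _ he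
  obtain ⟨w, hw⟩ : ∃ w, w ≫ RedSub.borelMap D (Fin.append eK eo) = x ≫ h :=
    ⟨x ≫ φ.inv, by rw [← hφ, Category.assoc, Iso.inv_hom_id_assoc]⟩
  have hK : ∀ (n : ℕ) (e : Fin n → D.idx), (∀ k, e k ∈ R' ∧ e k ∈ R'') →
      ∃ v, v ≫ kG = RedSub.prodMap (Red.Ga S) n (fun k => D.u (e k)) := fun n e he0 =>
    exists_prodMap_lift n _ fun k => hRK _ (he0 k).1 (he0 k).2
  have hK'' : ∀ {R : Type u} [CommRing R] (g : Spec (CommRingCat.of R) ⟶ S) {B : Type u} [CommRing B] [Algebra R B]
      (a : Fin m → B), Fac h'' (uProd g D eK a) := by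
    intro R _ g B _ _ a
    obtain ⟨v, hv⟩ := exists_prodMap_lift (h := h'') m (fun k => D.u (eK k)) fun k =>
      (hR'' _).mpr (heK.2.subset ⟨k, rfl⟩).2
    exact ⟨gas g a ≫ v, by rw [Category.assoc, hv, comp_prodMap_u, gvs_gas]⟩
  have hzero : ∀ (R : Type u) [CommRing R] (g : Spec (CommRingCat.of R) ⟶ S) (j : pt g R ⟶ X),
      (fun k => gvs g (j ≫ w ≫ snd _ _) (Fin.natAdd m k)) = 0 := by
    intro R _ g j
    let A := MonoidAlgebra R (Multiplicative D.M)
    let χu : Multiplicative D.M →* A := MonoidAlgebra.of R _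
    let y : pt g A ⟶ X := pmap g (toBase R A) ≫ j
    let v := gvs g (j ≫ w ≫ snd _ _)
    let a : Fin m → A := fun k => algebraMap R A (v (Fin.castAdd r k))
    let o : Fin r → A := fun k => algebraMap R A (v (Fin.natAdd m k))
    obtain ⟨χ, hχ⟩ := exists_tPt g D ((y ≫ w) ≫ fst _ _)
    have hdec : y ≫ x ≫ h = tPt g D χ * (uProd g D eK a * uProd g D eo o) := by
      rw [← hw, ← Category.assoc y, RedSub.borelMap, MonObj.comp_mul, hχ, ← uProd_append]
      congr 1
      rw [← Category.assoc, comp_prodMap_u]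
      congr 1
      rw [show (y ≫ w) ≫ snd _ _ = pmap g (toBase R A) ≫ gas g v by simp only [y, v, Category.assoc, gas_gvs],
        pmap_gas, gvs_gas]
      funext k
      induction k using Fin.addCases <;> (simp [a, o]; rfl)
    let ge : Spec (CommRingCat.of A) ⟶ S := Spec.map (CommRingCat.ofHom (algebraMap R A)) ≫ g
    let i₀ := (towerIso g A A).hom
    have hup : ∀ {n : ℕ} (e : Fin n → D.idx) (c : Fin n → A), i₀ ≫ uProd g D e c = uProd ge D e c := fun e c => by
      simp only [uProd, prod_comp, i₀]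
      congr
      funext k
      exact towerIso_uPt D g A (e k) (c k)
    have hdec' : (i₀ ≫ y) ≫ x ≫ h = tPt ge D χ * (uProd ge D eK a * uProd ge D eo o) := by
      rw [Category.assoc, hdec, MonObj.comp_mul, MonObj.comp_mul, hup, hup, towerIso_tPt]
    obtain ⟨z', hz'⟩ := hx (pt ge A) (i₀ ≫ y) (ds ge χu ≫ D.split.inv.hom.hom ≫ t'')
    rw [hdec', show (ds ge χu ≫ D.split.inv.hom.hom ≫ t'') ≫ h'' = tPt ge D χu by
      simp only [Category.assoc, ht'']; rfl] at hz'
    set τ := tPt ge D χu with hτdef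
    set q := uProd ge D eo o with hq
    set p := tPt ge D χ * uProd ge D eK a with hp
    have hT'' : ∀ θ : Multiplicative D.M →* A, Fac h'' (tPt ge D θ) := fun θ =>
      ⟨ds ge θ ≫ D.split.inv.hom.hom ≫ t'', by simp only [Category.assoc, ht'']; rfl⟩
    have hp'' : Fac h'' p := (hT'' χ).mul (hK'' ge a)
    have hqq : Fac h'' (q * τ * q⁻¹ * τ⁻¹) := by
      have h1 := ((hp''.inv.mul ⟨z', hz'.symm⟩).mul hp'').mul (hT'' χu).inv
      convert h1 using 1
      simp only [hp, hτdef]
      group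
    -- the elements of the unipotent part
    have hdecU : ∀ z : pt ge A ⟶ G, z ∈ Ug D ge (half D f) → Fac h z → Fac h'' z → ∃ c, z = uProd ge D eK c := by
      intro z hz hf hf''
      obtain ⟨c, rfl⟩ := (mem_inter_iff t ht R' hR' f _ he' ge z).mp ⟨hz, hf⟩
      refine ⟨fun i => c (Fin.castAdd r i), ?_⟩
      rw [← Fin.append_castAdd_natAdd (f := c), uProd_append] at hf'' ⊢
      have h2 : Fac h'' (uProd ge D eo fun i => c (Fin.natAdd m i)) := by
        have := (hK'' ge (fun i => c (Fin.castAdd r i))).inv.mul hf''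
        rwa [inv_mul_cancel_left] at this
      rw [eq_zero_of_fac_outside D t'' ht'' R'' hR'' f eo heo (fun k => hfp _ (hsub (heoR k).1)) (fun k => (heoR k).2)
        ge _ h2, uProd_zero, _root_.mul_one]
      congr 1
      funext i
      simp
    have hqU : q ∈ Ug D ge (half D f) := uProd_mem_Ug D ge (fun k => hfp _ (hsub (heoR k).1)) _
    have hqH : Fac h q := by
      obtain ⟨v', hv'⟩ := exists_prodMap_lift (h := h) r (fun k => D.u (eo k)) fun k => (hR' _).mpr (heoR k).1
      exact ⟨gas ge o ≫ v', by rw [Category.assoc, hv', comp_prodMap_u, gvs_gas]⟩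
    have hTH : Fac h τ := ⟨ds ge χu ≫ D.split.inv.hom.hom ≫ t, by simp only [Category.assoc, ht]; rfl⟩
    have hcU : q * τ * q⁻¹ * τ⁻¹ ∈ Ug D ge (half D f) := by
      have := mul_mem hqU (Tg_conj_mem D ge (tPt_mem_Tg D ge χu) (inv_mem hqU))
      simpa only [_root_.mul_assoc] using this
    obtain ⟨c', hc'⟩ := hdecU _ (inv_mem hcU) (((hqH.mul hTH).mul hqH.inv).mul hTH.inv).inv hqq.inv
    have h3 : uProd ge D (Fin.append eK eo) (Fin.append c' o) =
        uProd ge D (Fin.append eK eo) (Fin.append 0 fun k => χu (Multiplicative.ofAdd (D.P.root (eo k))) * o k) := by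
      rw [uProd_append, uProd_append, uProd_zero, _root_.one_mul, ← hc', ← tPt_conj_uProd, ← hq, ← hτdef]
      group
    haveI : Mono (RedSub.prodMap (Red.Ga S) (m + r) fun k => D.u (Fin.append eK eo k)) := Over.mono_of_mono_left _
    have h4 : gas ge (Fin.append c' o) =
        gas ge (Fin.append 0 fun k => χu (Multiplicative.ofAdd (D.P.root (eo k))) * o k) := by
      rw [← cancel_mono (RedSub.prodMap (Red.Ga S) (m + r) fun k => D.u (Fin.append eK eo k)), comp_prodMap_u,
        comp_prodMap_u, gvs_gas, gvs_gas]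
      exact h3
    funext k
    have hk := congrArg (fun z => gvs ge z (Fin.natAdd m k)) h4
    simp only [gvs_gas, Fin.append_right] at hk
    change MonoidAlgebra.single 1 (v (Fin.natAdd m k)) = MonoidAlgebra.single (Multiplicative.ofAdd (D.P.root (eo k))) (1 : R) *
      MonoidAlgebra.single 1 (v (Fin.natAdd m k)) at hk
    rw [MonoidAlgebra.single_mul_single, _root_.one_mul, _root_.mul_one, MonoidAlgebra.single_inj] at hk
    rcases hk with ⟨h7, -⟩ | ⟨h7, -⟩
    · exact absurd (Multiplicative.ofAdd.injective h7.symm) (D.P.ne_zero _)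
    · exact h7
  obtain ⟨vK, hvK⟩ := hK m eK fun k => heK.2.subset ⟨k, rfl⟩
  let pK : D.T ⊗ RedSub.pow (Red.Ga S) (m + r) ⟶ RedSub.pow (Red.Ga S) m :=
    tuple m fun i => snd _ _ ≫ pr (Red.Ga S) (m + r) (Fin.castAdd r i)
  refine ⟨w ≫ ((fst _ _ ≫ tK) * (pK ≫ vK)), ?_⟩
  rw [← cancel_mono h, Category.assoc, hfK, ← hw, Category.assoc, MonObj.mul_comp, Category.assoc, htK,
    Category.assoc pK, hvK, RedSub.borelMap, MonObj.comp_mul, MonObj.comp_mul]
  congr 1
  refine hom_ext_pt fun R _ g j => ?_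
  rw [← Category.assoc w pK, ← Category.assoc j (w ≫ pK), comp_prodMap_u, ← Category.assoc w (snd _ _),
    ← Category.assoc j (w ≫ snd _ _), comp_prodMap_u]
  conv_rhs => rw [← Fin.append_castAdd_natAdd (f := gvs g (j ≫ w ≫ snd _ _)), uProd_append, hzero R g j, uProd_zero,
    _root_.mul_one]
  congr 1
  funext i
  simp [gvs, pK, tuple_pr]

end Groth.Agent.H21Split.TypeR
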