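import Groth.Agent.H21Split.TypeR.Cell
import Groth.Agent.H21Split.Bru.UPsi
import Groth.Agent.H21Split.Red0.BaseExists

/-!
The intersection of a type (R) subgroup with the group of a closed set of roots without opposites.
-/

open CategoryTheory MonoidalCategory CartesianMonoidalCategory MonObj GrpObj AlgebraicGeometry
open CategoryTheory.Limits

universe u

set_option backward.isDefEq.respectTransparency false
set_option linter.style.haveILetI false
set_option linter.unusedSectionVars false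
set_option synthInstance.maxHeartbeats 400000
set_option maxHeartbeats 1000000

noncomputable section

namespace Groth.Agent.H21Split.TypeR

variable {S : Scheme.{u}}

theorem pmap_base {R : Type u} [CommRing R] (g : Spec (CommRingCat.of R) ⟶ S) {B B' : Type u} [CommRing B]
    [Algebra R B] [CommRing B'] [Algebra R B'] (f : B →ₐ[R] B') (q : PrimeSpectrum B') :
    (pmap g f).left.base q = PrimeSpectrum.comap f.toRingHom q := rfl

variable {G H : Over S} [GrpObj G] [GrpObj H] {h : H ⟶ G} {D : Red.SplitRed G}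
  [Smooth H.hom] [IsMonHom h] [IsImmersion h.left] [ConnectedSpace S] (t : D.T ⟶ H) (ht : t ≫ h = D.i) (R' : Set D.idx)
  (hR' : ∀ a : D.idx, (∃ v : Red.Ga S ⟶ H, v ≫ h = D.u a) ↔ a ∈ R')

/-- contraction: a point of the subgroup in the half space lies in any open neighbourhood of the unit after scaling -/
theorem exists_scalar {R : Type u} [CommRing R] (g : Spec (CommRingCat.of R) ⟶ S) {K : Type u} [Field K] [Infinite K]
    [Algebra R K] {Z : Over S} (f : Z ⟶ H) [IsOpenImmersion f.left]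
    (hf1 : ∀ q : PrimeSpectrum K, (1 : pt g K ⟶ H).left.base q ∈ Set.range f.left.base)
    (hh : D.M →+ ℤ) {m : ℕ} (e : Fin m → D.idx) (hpos : ∀ k, 0 < hh (D.P.root (e k))) (x : Fin m → K) :
    ∃ z₀ : Kˣ, ∀ w : pt g K ⟶ H, w ≫ h = uProd g D e (fun k => (z₀ : K) ^ (hh (D.P.root (e k))).toNat * x k) →
      Set.range w.left.base ⊆ Set.range f.left.base := by
  classical
  let d : Fin m → ℕ := fun k => (hh (D.P.root (e k))).toNat
  let Φ : pt g (Polynomial K) ⟶ G := uProd g D e fun k => Polynomial.C (x k) * Polynomial.X ^ d k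
  let ev : K → (Polynomial K →ₐ[R] K) := fun z => (Polynomial.aeval z).restrictScalars R
  have hev : ∀ z, pmap g (ev z) ≫ Φ = uProd g D e fun k => z ^ d k * x k := fun z => by
    rw [pmap_uProd]
    congr 1
    funext k
    simp [ev, mul_comm]
  obtain ⟨U, hUo, hU⟩ := h.left.isEmbedding.isInducing.isOpen_iff.mp f.left.isOpenEmbedding.isOpen_range
  have hmem : ∀ (z : K) (w : pt g K ⟶ H), w ≫ h = pmap g (ev z) ≫ Φ → ∀ q : PrimeSpectrum K,
      (w.left.base q ∈ Set.range f.left.base ↔ PrimeSpectrum.comap (ev z).toRingHom q ∈ Φ.left.base ⁻¹' U) := by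
    intro z w hw q
    have e1 : h.left.base (w.left.base q) = Φ.left.base (PrimeSpectrum.comap (ev z).toRingHom q) :=
      congrArg (fun m : pt g K ⟶ G => m.left.base q) hw
    rw [Set.mem_preimage, ← e1, ← hU]
    exact Iff.rfl
  obtain ⟨q₀⟩ := (inferInstance : Nonempty (PrimeSpectrum K))
  have h0 : PrimeSpectrum.comap (ev 0).toRingHom q₀ ∈ Φ.left.base ⁻¹' U := by
    refine (hmem 0 1 ?_ q₀).mp (hf1 q₀)
    rw [MonObj.one_comp, hev, ← uProd_zero g D e]
    congr 1
    funext k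
    have : d k ≠ 0 := by have := hpos k; simp only [d]; omega
    simp [zero_pow this]
  obtain ⟨_, ⟨_, ⟨p, rfl⟩, rfl⟩, hp0, hpU⟩ := PrimeSpectrum.isBasis_basic_opens.exists_subset_of_mem_open h0
    (hUo.preimage Φ.left.base.hom.continuous)
  have hpne : p ≠ 0 := fun hp => by
    rw [hp] at hp0
    simp [PrimeSpectrum.mem_basicOpen] at hp0
  obtain ⟨z, hz⟩ := Infinite.exists_notMem_finset (insert 0 p.roots.toFinset)
  simp only [Finset.mem_insert, Multiset.mem_toFinset, Polynomial.mem_roots hpne, Polynomial.IsRoot.def, not_or] at hz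
  refine ⟨Units.mk0 z hz.1, fun w hw => ?_⟩
  rintro _ ⟨q, rfl⟩
  refine (hmem z w (by rw [hev]; exact hw) q).mpr (hpU ?_)
  change p ∉ (PrimeSpectrum.comap (ev z).toRingHom q).asIdeal
  rw [PrimeSpectrum.comap_asIdeal, Ideal.mem_comap]
  intro hmem'
  have hbot : q.asIdeal = ⊥ := (Ideal.eq_bot_or_top q.asIdeal).resolve_right q.isPrime.ne_top
  rw [hbot, Ideal.mem_bot] at hmem'
  exact hz.2 (by simpa [ev] using hmem')

include ht hR'

/-- **Coordinates outside the roots of the subgroup vanish.** -/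
theorem coord_eq_zero {Ψ : Set D.idx} (hΨ : IsPosSet D.P Ψ) {n₁ n₂ : ℕ} (e₁ : Fin n₁ → D.idx) (e₂ : Fin n₂ → D.idx)
    (he : RedSub.Enumerates Ψ (Fin.append e₁ e₂)) (he₁ : RedSub.Enumerates (R' ∩ Ψ) e₁)
    {R : Type u} [CommRing R] (g : Spec (CommRingCat.of R) ⟶ S) {B : Type u} [CommRing B] [Algebra R B]
    (x : Fin (n₁ + n₂) → B) (hfac : Fac h (uProd g D (Fin.append e₁ e₂) x)) : ∀ k, x (Fin.natAdd n₁ k) = 0 := by
  classical
  haveI := isAffineHom_hom D
  haveI : Mono h := (Over.forget S).mono_of_mono_map (inferInstanceAs (Mono h.left))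
  haveI := D.fintypeIdx
  haveI : Finite D.idx := Finite.of_fintype _
  obtain ⟨b, hb⟩ := H21Red0.exists_base_of_isPosSet D hΨ
  have hΨ₁ : ∀ k, e₁ k ∈ R' ∧ e₁ k ∈ Ψ := fun k => he₁.2.subset ⟨k, rfl⟩
  obtain ⟨n, en, hen⟩ : ∃ (n : ℕ) (en : Fin n → D.idx), RedSub.Enumerates (R' ∩ RedSub.negRoots D.P b) en := by
    obtain ⟨r, e', he'⟩ := exists_extend D (Ψ := R' ∩ RedSub.negRoots D.P b) (n := 0) Fin.elim0
      (fun k => k.elim0) (fun k => k.elim0)
    exact ⟨_, _, he'⟩
  obtain ⟨r, e₃, hep⟩ := exists_extend D (Ψ := R' ∩ RedSub.posRoots D.P b) e₁ he₁.1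
    fun k => ⟨(hΨ₁ k).1, hb (hΨ₁ k).2⟩
  obtain ⟨f, hf, hfo⟩ := exists_cell_openImmersion D t ht R' hR' b en (Fin.append e₁ e₃) hen hep
  haveI := hfo
  have he₃ : ∀ k, e₃ k ∈ R' ∧ e₃ k ∈ RedSub.posRoots D.P b ∧ e₃ k ∉ Ψ := by
    intro k
    have hk : e₃ k ∈ R' ∩ RedSub.posRoots D.P b := hep.2.subset ⟨Fin.natAdd n₁ k, by simp⟩
    refine ⟨hk.1, hk.2, fun hkΨ => ?_⟩
    obtain ⟨i, hi⟩ := he₁.2.symm.subset ⟨hk.1, hkΨ⟩
    have := hep.1 (a₁ := Fin.castAdd r i) (a₂ := Fin.natAdd n₁ k) (by simp [hi])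
    have := congrArg Fin.val this
    simp at this
    omega
  have hEinj : Function.Injective (Fin.append (Fin.append e₁ e₂) e₃) := by
    refine append_injective D he.1 (fun i j hij => ?_) fun i j hij => ?_
    · exact Fin.natAdd_injective r n₁ (hep.1 (a₁ := Fin.natAdd n₁ i) (a₂ := Fin.natAdd n₁ j) (by simpa using hij))
    · exact (he₃ j).2.2 (hij ▸ he.2.subset ⟨i, rfl⟩)
  have hEpos : ∀ k, Fin.append (Fin.append e₁ e₂) e₃ k ∈ RedSub.posRoots D.P b := fun k => by
    induction k using Fin.addCases with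
    | left i => simpa using hb (he.2.subset ⟨i, rfl⟩)
    | right i => simpa using (he₃ i).2.1
  have hennot : ∀ k, en k ∈ RedSub.negRoots D.P b := fun k => (hen.2.subset ⟨k, rfl⟩).2
  have cmp : ∀ {C : Type u} [CommRing C] [Algebra R C] (a : Fin n → C) (χ : Multiplicative D.M →* C)
      (c : Fin (n₁ + r) → C) (y : Fin (n₁ + n₂) → C),
      cellPt g D en (Fin.append e₁ e₃) a χ c = uProd g D (Fin.append e₁ e₂) y →
        (∀ k, y (Fin.natAdd n₁ k) = 0) ∧ a = 0 ∧ χ = 1 ∧ (∀ k, c (Fin.natAdd n₁ k) = 0) := by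
    intro C _ _ a χ c y hh
    have hc : c = Fin.append (fun i => c (Fin.castAdd r i)) (fun i => c (Fin.natAdd n₁ i)) :=
      (Fin.append_castAdd_natAdd (f := c)).symm
    have h1 : cellPt g D en (Fin.append (Fin.append e₁ e₂) e₃) a χ
        (Fin.append (Fin.append (fun i => c (Fin.castAdd r i)) 0) (fun i => c (Fin.natAdd n₁ i))) =
        cellPt g D en (Fin.append (Fin.append e₁ e₂) e₃) 0 1 (Fin.append y 0) := by
      simp only [cellPt, uProd_append, uProd_zero, _root_.mul_one, _root_.one_mul, tPt_one]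
      rw [cellPt] at hh
      conv_lhs at hh => rw [hc, uProd_append]
      exact hh
    obtain ⟨ha, hχ, hy⟩ := subcell_injective D g b en (Fin.append (Fin.append e₁ e₂) e₃) hen.1 hEinj hennot hEpos
      _ _ _ _ _ _ h1
    refine ⟨fun k => ?_, ha, hχ, fun k => ?_⟩
    · simpa using (congrFun hy (Fin.castAdd r (Fin.natAdd n₁ k))).symm
    · simpa using congrFun hy (Fin.natAdd (n₁ + n₂) k)
  have hpt : ∀ {C : Type u} [CommRing C] [Algebra R C] (w : pt g C ⟶ H) (v : pt g C ⟶ _) (y : Fin (n₁ + n₂) → C),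
      v ≫ f = w → w ≫ h = uProd g D (Fin.append e₁ e₂) y → ∀ k, y (Fin.natAdd n₁ k) = 0 := by
    intro C _ _ w v y hv hw
    obtain ⟨χ, hχ⟩ := exists_tPt g D (v ≫ snd _ _ ≫ fst _ _)
    rw [← hv, Category.assoc, hf, comp_cellMap g D en (Fin.append e₁ e₃) v χ hχ] at hw
    exact (cmp _ _ _ _ hw).1
  have hsub : ∀ {C : Type u} [CommRing C] [Algebra R C] (y : Fin n₁ → C),
      ∃ v : pt g C ⟶ _, v ≫ RedSub.cellMap D en (Fin.append e₁ e₃) =
        uProd g D (Fin.append e₁ e₂) (Fin.append y 0) := by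
    intro C _ _ y
    refine ⟨lift (gas g 0) (lift (ds g 1 ≫ D.split.inv.hom.hom) (gas g (Fin.append y 0))), ?_⟩
    rw [comp_cellMap g D en (Fin.append e₁ e₃) _ 1 (by simp only [lift_snd_assoc, lift_fst, tPt, Category.assoc]),
      lift_fst, lift_snd_assoc, lift_snd, gvs_gas, gvs_gas, cellPt, uProd_zero, tPt_one, uProd_append, uProd_append,
      uProd_zero, uProd_zero, _root_.one_mul, _root_.one_mul]
  obtain ⟨z, hz⟩ := hfac
  have hrange : Set.range z.left.base ⊆ Set.range f.left.base := by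
    rintro _ ⟨q, rfl⟩
    let K := AlgebraicClosure q.asIdeal.ResidueField
    let φ : B →ₐ[R] K := IsScalarTower.toAlgHom R B K
    obtain ⟨hh, hhpos, -⟩ := exists_regular_of_isPosSet D hΨ
    have hhpos' : ∀ k, 0 < hh (D.P.root (Fin.append e₁ e₂ k)) := fun k => hhpos _ (he.2.subset ⟨k, rfl⟩)
    let y : Fin (n₁ + n₂) → K := fun k => φ (x k)
    have hzK : (pmap g φ ≫ z) ≫ h = uProd g D (Fin.append e₁ e₂) y := by rw [Category.assoc, hz, pmap_uProd]
    obtain ⟨o, ho⟩ := hsub (C := K) 0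
    have ho' : o ≫ f = 1 := by
      rw [← cancel_mono h, Category.assoc, hf, ho, MonObj.one_comp,
        show Fin.append (0 : Fin n₁ → K) (0 : Fin n₂ → K) = 0 from funext fun k => by
          refine Fin.addCases (fun i => ?_) (fun i => ?_) k <;> simp, uProd_zero]
    obtain ⟨z₀, hz₀⟩ := exists_scalar (h := h) g f (fun p => ⟨o.left.base p, congrArg (fun m : pt g K ⟶ H => m.left.base p) ho'⟩)
      hh _ hhpos' y
    let χ : Multiplicative D.M →* K :=
      (Units.coeHom K).comp ((zpowersHom Kˣ z₀).comp (AddMonoidHom.toMultiplicative hh))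
    obtain ⟨w₀, hw₀⟩ := ((fac_tPt (h := h) g D t ht χ).mul ⟨_, hzK⟩).mul (fac_tPt (h := h) g D t ht χ).inv
    have hw : w₀ ≫ h = uProd g D (Fin.append e₁ e₂)
        (fun k => (z₀ : K) ^ (hh (D.P.root (Fin.append e₁ e₂ k))).toNat * y k) := by
      rw [hw₀, tPt_conj_uProd]
      congr 1
      funext k
      congr 1
      change ((z₀ ^ hh (D.P.root (Fin.append e₁ e₂ k)) : Kˣ) : K) = _
      conv_lhs => rw [← Int.toNat_of_nonneg (hhpos' k).le, zpow_natCast, Units.val_pow_eq_pow_val]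
    obtain ⟨v₀, hv₀⟩ : ∃ v₀, v₀ ≫ f = w₀ :=
      ⟨Over.homMk (IsOpenImmersion.lift f.left w₀.left (hz₀ w₀ hw)) (by
        rw [← Over.w f, IsOpenImmersion.lift_fac_assoc]; exact Over.w w₀),
        Over.OverMorphism.ext (IsOpenImmersion.lift_fac _ _ _)⟩
    have hy0 : ∀ k, y (Fin.natAdd n₁ k) = 0 := fun k =>
      (mul_eq_zero.mp (hpt w₀ v₀ _ hv₀ hw k)).resolve_left (pow_ne_zero _ z₀.ne_zero)
    obtain ⟨v, hv⟩ := hsub (C := K) fun i => y (Fin.castAdd n₂ i)
    have hvz : v ≫ f = pmap g φ ≫ z := by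
      rw [← cancel_mono h, Category.assoc, hf, hv, hzK]
      congr 1
      funext k
      refine Fin.addCases (fun i => ?_) (fun i => ?_) k
      · simp
      · simp [hy0 i]
    obtain ⟨q₀⟩ := (inferInstance : Nonempty (PrimeSpectrum K))
    have hq : (pmap g φ).left.base q₀ = q := by
      rw [pmap_base]
      apply PrimeSpectrum.ext
      have hbot : q₀.asIdeal = ⊥ := (Ideal.eq_bot_or_top q₀.asIdeal).resolve_right q₀.isPrime.ne_top
      rw [PrimeSpectrum.comap_asIdeal, hbot, ← RingHom.ker_eq_comap_bot]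
      change RingHom.ker (algebraMap B K) = _
      rw [IsScalarTower.algebraMap_eq B q.asIdeal.ResidueField K, ← RingHom.comap_ker,
        (RingHom.injective_iff_ker_eq_bot _).mp (algebraMap q.asIdeal.ResidueField K).injective,
        ← RingHom.ker_eq_comap_bot, Ideal.ker_algebraMap_residueField]
    refine ⟨v.left.base q₀, ?_⟩
    have := congrArg (fun m : pt g K ⟶ H => m.left.base q₀) hvz
    refine this.trans ?_
    change z.left.base ((pmap g φ).left.base q₀) = _
    rw [hq]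
  exact hpt z (Over.homMk (IsOpenImmersion.lift f.left z.left hrange)
    (by rw [← Over.w f, IsOpenImmersion.lift_fac_assoc]; exact Over.w z)) x
    (Over.OverMorphism.ext (IsOpenImmersion.lift_fac _ _ _)) hz

end Groth.Agent.H21Split.TypeR
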