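import Groth.Agent.H21Split.TypeR.Proj
import Groth.Agent.H21Split.Basis
import Groth.Agent.H21Split.Gen.Main
import Groth.Agent.H21Split.Levi
import Mathlib.RingTheory.Flat.FaithfullyFlat.Algebra
import Mathlib.RingTheory.Localization.Away.Basic
import Mathlib.RingTheory.Polynomial.Quotient

/-!
Lie vectors of a subgroup containing the torus split into root components.
-/

open CategoryTheory MonoidalCategory CartesianMonoidalCategory MonObj GrpObj AlgebraicGeometry
open CategoryTheory.Limits
open TrivSqZeroExt (inl inr)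

universe u

set_option backward.isDefEq.respectTransparency false
set_option linter.style.haveILetI false
set_option linter.unusedSectionVars false
set_option synthInstance.maxHeartbeats 400000
set_option maxHeartbeats 1000000

noncomputable section

namespace Groth.Agent.H21Split.TypeR

variable {S : Scheme.{u}} {G H : Over S} [GrpObj G] [GrpObj H] {h : H ⟶ G}

theorem Fac.mul [IsMonHom h] {X : Over S} {z z' : X ⟶ G} (hz : Fac h z) (hz' : Fac h z') : Fac h (z * z') := by
  obtain ⟨w, rfl⟩ := hz
  obtain ⟨w', rfl⟩ := hz'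
  exact ⟨w * w', MonObj.mul_comp w w' h⟩

theorem Fac.inv [IsMonHom h] {X : Over S} {z : X ⟶ G} (hz : Fac h z) : Fac h z⁻¹ := by
  obtain ⟨w, rfl⟩ := hz
  exact ⟨w⁻¹, GrpObj.inv_comp w h⟩

theorem fac_one [IsMonHom h] {X : Over S} : Fac h (1 : X ⟶ G) := ⟨1, MonObj.one_comp h⟩

theorem Fac.precomp {X Y : Over S} (f : Y ⟶ X) {z : X ⟶ G} (hz : Fac h z) : Fac h (f ≫ z) := by
  obtain ⟨w, rfl⟩ := hz
  exact ⟨f ≫ w, Category.assoc _ _ _⟩

variable {R : Type u} [CommRing R] (g : Spec (CommRingCat.of R) ⟶ S)
variable {B : Type u} [CommRing B] [Algebra R B] {B' : Type u} [CommRing B'] [Algebra R B']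

/-- factoring descends along faithfully flat maps -/
theorem fac_descend [Mono h] (f : B →ₐ[R] B') (hf : f.toRingHom.FaithfullyFlat) {z : pt g B ⟶ G}
    (hz : Fac h (pmap g f ≫ z)) : Fac h z := by
  obtain ⟨w, hw⟩ := hz
  rw [RingHom.FaithfullyFlat.iff_flat_and_comap_surjective] at hf
  haveI : Flat (pmap g f).left := by
    rw [pmap_left, HasRingHomProperty.Spec_iff (P := @Flat)]
    exact hf.1
  haveI : Surjective (pmap g f).left := ⟨hf.2⟩
  haveI : QuasiCompact (pmap g f).left :=
    inferInstanceAs (QuasiCompact (Spec.map (CommRingCat.ofHom f.toRingHom : CommRingCat.of B ⟶ CommRingCat.of B')))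
  exact Gen.exists_lift_flat (pmap g f) h z w hw

/-- dual numbers preserve faithfully flat maps -/
theorem faithfullyFlat_dnMap (f : B →ₐ[R] B') (hf : f.toRingHom.FaithfullyFlat) :
    (dnMap f).toRingHom.FaithfullyFlat := by
  letI : Algebra B B' := f.toRingHom.toAlgebra
  haveI : IsScalarTower R B B' := IsScalarTower.of_algebraMap_eq fun r => (f.commutes r).symm
  haveI : Module.FaithfullyFlat B B' := hf
  haveI : Module.FaithfullyFlat (DualNumber B) (TensorProduct B (DualNumber B) B') := inferInstance
  let φ : TensorProduct B (DualNumber B) B' →+* DualNumber B' :=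
    (Algebra.TensorProduct.lift
      ({ (dnMap f).toRingHom with
         commutes' := fun r => by
           ext <;> simp [fst_dnMap, snd_dnMap, TrivSqZeroExt.algebraMap_eq_inl']; rfl } :
        DualNumber B →ₐ[B] DualNumber B')
      ({ TrivSqZeroExt.inlHom B' B' with
         commutes' := fun r => by ext <;> simp [TrivSqZeroExt.algebraMap_eq_inl'] } : B' →ₐ[B] DualNumber B')
      (fun _ _ => Commute.all _ _)).toRingHom
  let ψ : DualNumber B' → TensorProduct B (DualNumber B) B' := fun x =>
    TensorProduct.tmul B (1 : DualNumber B) (TrivSqZeroExt.fst x) +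
      TensorProduct.tmul B (inr 1 : DualNumber B) (TrivSqZeroExt.snd x)
  have hφt : ∀ (x : DualNumber B) (y : B'), φ (TensorProduct.tmul B x y) = dnMap f x * inl y := fun _ _ => rfl
  have hr : ∀ x, φ (ψ x) = x := fun x => by
    rw [map_add, hφt, hφt]
    ext <;> simp [fst_dnMap, snd_dnMap]
  have hl : ∀ z, ψ (φ z) = z := by
    intro z
    induction z using TensorProduct.induction_on with
    | zero => simp [ψ]
    | tmul x y =>
      rw [hφt]
      have hx : x = TrivSqZeroExt.fst x • (1 : DualNumber B) + TrivSqZeroExt.snd x • (inr 1 : DualNumber B) := by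
        ext <;> simp
      conv_rhs => rw [hx, TensorProduct.add_tmul, TensorProduct.smul_tmul, TensorProduct.smul_tmul]
      simp [ψ, fst_dnMap, snd_dnMap, Algebra.smul_def]
      rfl
    | add a b ha hb =>
      rw [map_add]
      simp only [ψ, TrivSqZeroExt.fst_add, TrivSqZeroExt.snd_add, TensorProduct.tmul_add] at ha hb ⊢
      conv_rhs => rw [← ha, ← hb]
      abel
  have h1 : (dnMap f).toRingHom = φ.comp Algebra.TensorProduct.includeLeftRingHom := by
    refine RingHom.ext fun x => ?_
    change dnMap f x = φ (TensorProduct.tmul B x (1 : B'))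
    rw [hφt, TrivSqZeroExt.inl_one, _root_.mul_one]
  letI : Algebra (DualNumber B) (DualNumber B') := (dnMap f).toRingHom.toAlgebra
  let le : TensorProduct B (DualNumber B) B' ≃ₗ[DualNumber B] DualNumber B' :=
    { toFun := fun z => φ z, invFun := ψ, left_inv := hl, right_inv := hr
      map_add' := fun a b => φ.map_add a b
      map_smul' := fun x z => by
        change φ (x • z) = dnMap f x * φ z
        induction z using TensorProduct.induction_on with
        | zero => simp
        | tmul a b => rw [TensorProduct.smul_tmul', hφt, hφt, smul_eq_mul, map_mul, _root_.mul_assoc]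
        | add a b ha hb => rw [smul_add, map_add, map_add, ha, hb, mul_add] }
  exact Module.FaithfullyFlat.of_linearEquiv (DualNumber B) _ le.symm

variable (R) in
/-- after a faithfully flat extension there is a unit of large order everywhere -/
theorem exists_unit_ff (B : Type u) [CommRing B] [Algebra R B] (n : ℕ) :
    ∃ (B' : Type u) (_ : CommRing B') (_ : Algebra R B') (f : B →ₐ[R] B') (u : B'ˣ), f.toRingHom.FaithfullyFlat ∧
      ∀ k : ℕ, 0 < k → k ≤ n → IsUnit ((u : B') ^ k - 1) := by
  let P : Polynomial B := Polynomial.X * ∏ k ∈ Finset.Icc 1 n, (Polynomial.X ^ k - 1)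
  have hP : P.Monic := Polynomial.monic_X.mul (Polynomial.monic_prod_of_monic _ _ fun k hk =>
    Polynomial.monic_X_pow_sub_C (1 : B) (Nat.one_le_iff_ne_zero.mp (Finset.mem_Icc.mp hk).1) |>
      (fun h => by rwa [map_one] at h))
  let B' := Localization.Away P
  have hunit : IsUnit (algebraMap (Polynomial B) B' P) := IsLocalization.Away.algebraMap_isUnit P
  rw [map_mul, map_prod, IsUnit.mul_iff, IsUnit.prod_iff] at hunit
  let f : B →ₐ[R] B' := IsScalarTower.toAlgHom R B B'
  refine ⟨B', inferInstance, inferInstance, f, hunit.1.unit, ?_, fun k h0 hk => ?_⟩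
  · rw [RingHom.FaithfullyFlat.iff_flat_and_comap_surjective]
    have hfl : Module.Flat B B' := by
      haveI : Module.Flat (Polynomial B) B' := IsLocalization.flat B' (Submonoid.powers P)
      exact Module.Flat.trans B (Polynomial B) B'
    refine ⟨RingHom.flat_algebraMap_iff.mpr hfl, fun p => ?_⟩
    let q : Ideal (Polynomial B) := p.asIdeal.map Polynomial.C
    have hq : q.IsPrime := Ideal.isPrime_map_C_of_isPrime
    have hPq : P ∉ q := fun h => by
      have h1 := (Ideal.mem_map_C_iff.mp h) P.natDegree
      rw [Polynomial.coeff_natDegree, hP.leadingCoeff] at h1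
      exact p.isPrime.ne_top ((Ideal.eq_top_iff_one _).mpr h1)
    obtain ⟨q', hq'⟩ : (⟨q, hq⟩ : PrimeSpectrum (Polynomial B)) ∈
        Set.range (PrimeSpectrum.comap (algebraMap (Polynomial B) B')) := by
      rw [PrimeSpectrum.localization_away_comap_range B' P]
      exact hPq
    refine ⟨q', ?_⟩
    have h2 : f.toRingHom = (algebraMap (Polynomial B) B').comp Polynomial.C :=
      IsScalarTower.algebraMap_eq B (Polynomial B) B'
    rw [h2, PrimeSpectrum.comap_comp_apply, hq']
    apply PrimeSpectrum.ext
    change q.comap Polynomial.C = p.asIdeal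
    refine le_antisymm (fun x hx => ?_) Ideal.le_comap_map
    simpa using (Ideal.mem_map_C_iff.mp hx) 0
  · have h1 := hunit.2 k (Finset.mem_Icc.mpr ⟨h0, hk⟩)
    rw [map_sub, map_pow, map_one] at h1
    rw [IsUnit.unit_spec]
    exact h1

variable [IsAffineHom G.hom] (D : Red.SplitRed G)

theorem lieComb_single [DecidableEq D.idx] (a : D.idx) (x : B) :
    lieComb g D (Pi.single a x) (0 : Fin (rk D) → B) = uPt g D a (inr x : DualNumber B) := by
  refine eq_of_lieDev (isLie_lieComb g D _ _) (isLie_uPt_inr g D a x) (LinearMap.ext fun y => ?_)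
  rw [lieDev_lieComb, lieDev_uPt, Finset.sum_eq_single a (fun b _ hb => by simp [Pi.single_eq_of_ne hb]) (by simp)]
  simp

theorem lieComb_add (c c' : D.idx → B) (k k' : Fin (rk D) → B) :
    lieComb g D (c + c') (k + k') = lieComb g D c k * lieComb g D c' k' := by
  refine eq_of_lieDev (isLie_lieComb g D _ _) ((isLie_lieComb g D _ _).mul (isLie_lieComb g D _ _))
    (LinearMap.ext fun y => ?_)
  rw [lieDev_mul (isLie_lieComb g D _ _) (isLie_lieComb g D _ _), LinearMap.add_apply, lieDev_lieComb,
    lieDev_lieComb, lieDev_lieComb]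
  simp only [Pi.add_apply, add_mul, Finset.sum_add_distrib]
  abel

theorem lieComb_scl (z : B) (c : D.idx → B) (k : Fin (rk D) → B) :
    pmap g (scl z) ≫ lieComb g D c k = lieComb g D (fun a => z * c a) (fun i => z * k i) := by
  refine eq_of_lieDev ((isLie_lieComb g D _ _).pmap_scl z) (isLie_lieComb g D _ _) (LinearMap.ext fun y => ?_)
  rw [lieDev_pmap_scl, lieDev_lieComb, lieDev_lieComb, mul_add, Finset.mul_sum, Finset.mul_sum]
  simp only [_root_.mul_assoc]

theorem lieComb_dnMap (f : B →ₐ[R] B') (c : D.idx → B) (k : Fin (rk D) → B) :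
    pmap g (dnMap f) ≫ lieComb g D c k = lieComb g D (fun a => f (c a)) (fun i => f (k i)) := by
  refine eq_of_lieDev ((isLie_lieComb g D _ _).pmap_dnMap f) (isLie_lieComb g D _ _) (LinearMap.ext fun y => ?_)
  rw [lieDev_pmap_dnMap, lieDev_lieComb, lieDev_lieComb, map_add, map_sum, map_sum]
  simp only [map_mul, AlgHom.commutes]

theorem lieComb_eq (c : D.idx → B) (k : Fin (rk D) → B) :
    lieComb g D c k = lieComb g D c (0 : Fin (rk D) → B) * tPt g D (expChar D (hOf D k)) := by
  refine eq_of_lieDev (isLie_lieComb g D _ _) ((isLie_lieComb g D _ _).mul (isLie_tPt g D _)) (LinearMap.ext fun y => ?_)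
  rw [lieDev_mul (isLie_lieComb g D _ _) (isLie_tPt g D _), LinearMap.add_apply, lieDev_lieComb, lieDev_lieComb,
    lieDev_tPt_hOf]
  simp

theorem conj_lieComb_zero (χ : Multiplicative D.M →* B) (c : D.idx → B) :
    tPt g D ((TrivSqZeroExt.inlHom B B).toMonoidHom.comp χ) * lieComb g D c (0 : Fin (rk D) → B) *
      (tPt g D ((TrivSqZeroExt.inlHom B B).toMonoidHom.comp χ))⁻¹ =
      lieComb g D (fun a => χ (Multiplicative.ofAdd (D.P.root a)) * c a) (0 : Fin (rk D) → B) := by
  rw [lieComb, lieComb, ← MulAut.conj_apply, map_mul, map_list_prod, List.map_map, MulAut.conj_apply,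
    (tPt_commute g D _ _).eq, mul_inv_cancel_right]
  congr 2
  refine List.map_congr_left fun a _ => ?_
  change MulAut.conj _ _ = _
  rw [MulAut.conj_apply, tPt_conj]
  congr 1
  refine TrivSqZeroExt.ext ?_ ?_ <;> simp [mul_comm]

variable [IsMonHom h] [Mono h] (t : D.T ⟶ H) (ht : t ≫ h = D.i)

include ht in
theorem fac_tPt (χ : Multiplicative D.M →* B) : Fac h (tPt g D χ) :=
  ⟨ds g χ ≫ D.split.inv.hom.hom ≫ t, by rw [tPt, Category.assoc, Category.assoc, ht]⟩

include ht in
/-- **components of a Lie vector of the subgroup** -/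
theorem fac_components (c : D.idx → B) (k : Fin (rk D) → B) (hf : Fac h (lieComb g D c k)) (a : D.idx) :
    Fac h (uPt g D a (inr (c a) : DualNumber B)) := by
  classical
  haveI := D.finiteM
  haveI := D.freeM
  haveI := D.fintypeIdx
  obtain ⟨ν₀, hν₀⟩ := exists_dual_ne_zero (fun p : D.idx × D.idx => D.P.root p.1 - D.P.root p.2)
  let n := (Finset.univ.image fun p : D.idx × D.idx => (ν₀ (D.P.root p.1 - D.P.root p.2)).natAbs).sup id
  obtain ⟨B', iB', iA', f, u, hff, hu⟩ := exists_unit_ff R B n
  letI := iB'
  letI := iA'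
  let χ : Multiplicative D.M →* B' :=
    (Units.coeHom B').comp ((zpowersHom B'ˣ u).comp (AddMonoidHom.toMultiplicative ν₀))
  have hdiff : ∀ b b' : D.idx, b ≠ b' →
      IsUnit (χ (Multiplicative.ofAdd (D.P.root b)) - χ (Multiplicative.ofAdd (D.P.root b'))) := by
    intro b b' hne
    have hm : ν₀ (D.P.root b - D.P.root b') ≠ 0 := hν₀ (b, b') fun h => hne (D.P.root.injective (sub_eq_zero.mp h))
    have hle : (ν₀ (D.P.root b - D.P.root b')).natAbs ≤ n :=
      Finset.le_sup (f := id) (Finset.mem_image.mpr ⟨(b, b'), Finset.mem_univ _, rfl⟩)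
    have h1 := hu _ (Int.natAbs_pos.mpr hm) hle
    change IsUnit (((u ^ ν₀ (D.P.root b) : B'ˣ) : B') - ((u ^ ν₀ (D.P.root b') : B'ˣ) : B'))
    have key : ∀ i j : ℤ, IsUnit ((u : B') ^ (i - j).natAbs - 1) → IsUnit (((u ^ i : B'ˣ) : B') - ((u ^ j : B'ˣ) : B')) := by
      intro i j hij
      rcases Int.natAbs_eq (i - j) with e | e
      · have : (u ^ i : B'ˣ) = u ^ j * u ^ (i - j).natAbs := by
          rw [← zpow_natCast, ← zpow_add, ← e, add_sub_cancel]
        rw [this, Units.val_mul, Units.val_pow_eq_pow_val, show ∀ x y : B', x * y - x = x * (y - 1) from fun x y => by ring]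
        exact (u ^ j).isUnit.mul hij
      · have : (u ^ j : B'ˣ) = u ^ i * u ^ (i - j).natAbs := by
          rw [← zpow_natCast, ← zpow_add]; congr 1; omega
        rw [this, Units.val_mul, Units.val_pow_eq_pow_val, show ∀ x y : B', x - x * y = -(x * (y - 1)) from fun x y => by ring]
        exact ((u ^ i).isUnit.mul hij).neg
    refine key _ _ ?_
    rwa [← map_sub]
  let W : Set (D.idx → B') := {c | Fac h (lieComb g D c (0 : Fin (rk D) → B'))}
  have hadd : ∀ c c', c ∈ W → c' ∈ W → c + c' ∈ W := fun c c' hc hc' => by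
    change Fac h _
    rw [← add_zero (0 : Fin (rk D) → B'), lieComb_add]
    exact hc.mul hc'
  have hsmul : ∀ (z : B') c, c ∈ W → (fun b => z * c b) ∈ W := fun z c hc => by
    change Fac h _
    have := hc.precomp (pmap g (scl z))
    rw [lieComb_scl] at this
    convert this using 3
    simp
  have hconj : ∀ c, c ∈ W → (fun b => χ (Multiplicative.ofAdd (D.P.root b)) * c b) ∈ W := fun c hc => by
    change Fac h _
    rw [← conj_lieComb_zero]
    exact ((fac_tPt g D t ht _).mul hc).mul (fac_tPt g D t ht _).inv
  have hmain : ∀ (s : Finset D.idx) (c : D.idx → B'), c ∈ W → (∀ b, b ∉ s → c b = 0) →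
      ∀ b, Pi.single b (c b) ∈ W := by
    intro s
    induction s using Finset.induction_on with
    | empty =>
      intro c hc h0 b
      rw [h0 b (Finset.notMem_empty b), Pi.single_zero]
      have : c = 0 := funext fun b => h0 b (Finset.notMem_empty b)
      rwa [this] at hc
    | insert b₀ s hb₀ ih =>
      intro c hc h0
      let x := fun b => χ (Multiplicative.ofAdd (D.P.root b))
      let c' : D.idx → B' := fun b => x b * c b + -x b₀ * c b
      have hc' : c' ∈ W := hadd _ _ (hconj c hc) (hsmul (-x b₀) c hc)
      have hc'0 : ∀ b, b ∉ s → c' b = 0 := fun b hb => by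
        rcases eq_or_ne b b₀ with rfl | hne
        · simp [c']
        · simp [c', h0 b (fun h => (Finset.mem_insert.mp h).elim hne hb)]
      have hcomp : ∀ b, b ≠ b₀ → Pi.single b (c b) ∈ W := fun b hne => by
        have h1 := hsmul (((hdiff b b₀ hne).unit⁻¹ : B'ˣ) : B') _ (ih c' hc' hc'0 b)
        convert h1 using 1
        funext d
        rcases eq_or_ne d b with rfl | hd
        · simp only [Pi.single_eq_same, c', x]
          rw [← add_mul, ← sub_eq_add_neg, ← _root_.mul_assoc, IsUnit.val_inv_mul, _root_.one_mul]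
        · simp [Pi.single_eq_of_ne hd]
      intro b
      rcases eq_or_ne b b₀ with rfl | hne
      · have hrest : ∀ t : Finset D.idx, b ∉ t → (∑ d ∈ t, Pi.single d (-(c d))) ∈ W := by
          intro t
          induction t using Finset.induction_on with
          | empty =>
            intro _
            have := hsmul 0 c hc
            simpa [← Pi.zero_def] using show (fun d => (0 : B') * c d) ∈ W from this
          | insert d t hd ih2 =>
            intro hb
            rw [Finset.sum_insert hd]
            refine hadd _ _ ?_ (ih2 fun h => hb (Finset.mem_insert_of_mem h))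
            have := hsmul (-1) _ (hcomp d fun h => hb (h ▸ Finset.mem_insert_self d t))
            convert this using 1
            funext e
            rcases eq_or_ne e d with rfl | he <;> simp [*]
        have := hadd _ _ hc (hrest (Finset.univ.erase b) (Finset.notMem_erase b _))
        convert this using 1
        funext d
        rw [Pi.add_apply, Finset.sum_apply]
        rcases eq_or_ne d b with rfl | hd
        · rw [Finset.sum_eq_zero fun e he => Pi.single_eq_of_ne (Finset.ne_of_mem_erase he).symm _]
          simp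
        · rw [Finset.sum_eq_single d (fun e _ he => Pi.single_eq_of_ne he.symm _)
            (fun h => absurd (Finset.mem_erase.mpr ⟨hd, Finset.mem_univ d⟩) h)]
          simp [Pi.single_eq_of_ne hd]
      · exact hcomp b hne
  have h0 : Fac h (lieComb g D c (0 : Fin (rk D) → B)) := by
    have := hf.mul (fac_tPt g D t ht (expChar D (hOf D k))).inv
    rwa [lieComb_eq g D c k, mul_inv_cancel_right] at this
  have h1 : (fun b => f (c b)) ∈ W := by
    change Fac h _
    have := h0.precomp (pmap g (dnMap f))
    rw [lieComb_dnMap] at this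
    convert this using 3
    simp
  have h2 := hmain Finset.univ _ h1 (fun b hb => absurd (Finset.mem_univ b) hb) a
  change Fac h (lieComb g D _ _) at h2
  rw [lieComb_single] at h2
  refine fac_descend g (dnMap f) (faithfullyFlat_dnMap f hff) ?_
  · rw [pmap_uPt]
    convert h2 using 3
    refine TrivSqZeroExt.ext ?_ ?_
    · simp [fst_dnMap]
    · simp [snd_dnMap]

end Groth.Agent.H21Split.TypeR
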