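import Groth.Agent.H21Split.TypeR.RadTorus
import Groth.Agent.H21Split.Bru.Fibre
import Groth.Agent.H21Split.TypeR.Weight
import Mathlib.RingTheory.Flat.Basic

/-!
A closed subgroup without subtori which retracts to its intersection with the torus of a split group meets it trivially,
over any base.
-/

open CategoryTheory MonoidalCategory CartesianMonoidalCategory MonObj GrpObj AlgebraicGeometry
open CategoryTheory.Limits
open scoped TensorProduct

universe u

set_option autoImplicit false
set_option backward.isDefEq.respectTransparency false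
set_option linter.style.haveILetI false
set_option linter.unusedSectionVars false
set_option synthInstance.maxHeartbeats 400000
set_option maxHeartbeats 1000000

noncomputable section

namespace Groth.Agent.H21Split.TypeR

variable {S : Scheme.{u}} {G U : Over S} [GrpObj G] [GrpObj U] (D : Red.SplitRed G) (u : U ⟶ G) [IsMonHom u]
  [IsClosedImmersion u.left] [Smooth U.hom]
  (hfib : ∀ s : S, ConnectedSpace (Red.geomFibre s U).left ∧
    Red.HasNoSubtorus (AlgebraicClosure (S.residueField s)) (Red.geomFibre s U))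
  (w : U ⟶ D.T)
  (h1 : ∀ (R : Type u) [CommRing R] (g : Spec (CommRingCat.of R) ⟶ S) (y : pt g R ⟶ U), Fac u (y ≫ w ≫ D.i))
  (h2 : ∀ (R : Type u) [CommRing R] (g : Spec (CommRingCat.of R) ⟶ S) (y : pt g R ⟶ U)
    (χ : Multiplicative D.M →* R), y ≫ u = tPt g D χ → y ≫ w ≫ D.i = y ≫ u)

include hfib h1 h2 in
/-- the retraction is trivial on the geometric fibres -/
theorem torusPart_fibre (s : S) : (Over.pullback (Red.geomPt s)).map w = 1 := by
  let K := AlgebraicClosure (S.residueField s)
  let g := Red.geomPt s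
  let D' := H21Red0.geomSplit D s
  let u' : Red.geomFibre s U ⟶ Red.geomFibre s G := (Over.pullback g).map u
  haveI : IsMonHom u' := H21Diag.isMonHom_bcMap _ u
  haveI : IsClosedImmersion u'.left :=
    MorphismProperty.overPullbackMap (P := @IsClosedImmersion) _ _ inferInstance
  haveI : Smooth (Red.geomFibre s U).hom := MorphismProperty.pullback_snd (P := @Smooth) _ _ inferInstance
  haveI := (hfib s).1
  let jK : affO (R := K) K ≅ 𝟙_ (Over (Spec (CommRingCat.of K))) :=
    Over.isoMk (Iso.refl _) (by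
      change 𝟙 _ ≫ 𝟙 _ = Spec.map (CommRingCat.ofHom (algebraMap K K))
      rw [show CommRingCat.ofHom (algebraMap K K) = 𝟙 _ from rfl, Spec.map_id, Category.comp_id])
  refine torusPart_field D' u' (hfib s).2 ((Over.pullback g).map w) (fun y => ?_) fun y s' hs' => ?_
  · obtain ⟨y₁, hy₁⟩ := h1 K g (fibEquiv g K U (jK.hom ≫ y))
    refine ⟨jK.inv ≫ (fibEquiv g K U).symm y₁, ?_⟩
    rw [← cancel_epi jK.hom]
    refine (fibEquiv g K G).injective ?_
    change fibEquiv g K G (jK.hom ≫ (jK.inv ≫ _) ≫ (Over.pullback g).map u) =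
      fibEquiv g K G (jK.hom ≫ y ≫ (Over.pullback g).map w ≫ (Over.pullback g).map D.i)
    rw [Category.assoc, Iso.hom_inv_id_assoc, fibEquiv_comp, Equiv.apply_symm_apply, hy₁]
    simp only [← Category.assoc, fibEquiv_comp]
  · have e : fibEquiv g K U (jK.hom ≫ y) ≫ u = fibEquiv g K D.T (jK.hom ≫ s') ≫ D.i := by
      rw [← fibEquiv_comp, ← fibEquiv_comp, Category.assoc, Category.assoc]
      exact congrArg (fun m => fibEquiv g K G (jK.hom ≫ m)) hs'
    obtain ⟨χ, hχ⟩ := exists_tPt g D (fibEquiv g K D.T (jK.hom ≫ s'))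
    have h := h2 K g _ χ (e.trans hχ.symm)
    rw [← cancel_epi jK.hom]
    refine (fibEquiv g K G).injective ?_
    change fibEquiv g K G (jK.hom ≫ y ≫ (Over.pullback g).map w ≫ (Over.pullback g).map D.i) =
      fibEquiv g K G (jK.hom ≫ y ≫ (Over.pullback g).map u)
    simp only [← Category.assoc, fibEquiv_comp]
    simpa only [Category.assoc] using h

include hfib h1 h2 in
/-- the retraction is trivial on schemes over a geometric point -/
theorem comp_torusPart_of_fibre {X : Over S} {s : S} (q : X.left ⟶ Spec (CommRingCat.of (AlgebraicClosure (S.residueField s))))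
    (hq : q ≫ Red.geomPt s = X.hom) (z : X ⟶ U) : z ≫ w = 1 := by
  let g := Red.geomPt s
  let X' := Over.mk q
  let e : X ≅ (Over.map g).obj X' := Over.isoMk (Iso.refl _) (by simp [X', g, hq])
  let a : X' ⟶ Red.bc g U := H21Diag.bcEquiv g U X' (e.inv ≫ z)
  have h3 : H21Diag.bcHom g D.T X' (a ≫ (Over.pullback g).map w) = 1 := by
    rw [torusPart_fibre D u hfib w h1 h2 s, MonObj.comp_one, map_one]
  change (H21Diag.bcEquiv g D.T X').symm (a ≫ (Over.pullback g).map w) = 1 at h3
  rw [H21Red0.bcEquiv_symm_comp, show (H21Diag.bcEquiv g U X').symm a = e.inv ≫ z from Equiv.symm_apply_apply _ _]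
    at h3
  calc z ≫ w = e.hom ≫ (e.inv ≫ z) ≫ w := by simp
    _ = 1 := by rw [h3, MonObj.comp_one]

include hfib h1 h2 in
/-- a torus point of the subgroup over a field is trivial -/
theorem torus_point_eq_one {R K B : Type u} [CommRing R] [Field K] [IsAlgClosed K] [CommRing B] [Algebra R K]
    [Algebra K B] [Algebra R B] [IsScalarTower R K B] (g : Spec (CommRingCat.of R) ⟶ S)
    (χ : Multiplicative D.M →* B) (hχ : Fac u (tPt g D χ)) : χ = 1 := by
  obtain ⟨y, hy⟩ := hχ
  haveI : Mono D.i := D.maximalTorus.2.1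
  let gK : Spec (CommRingCat.of K) ⟶ S := Spec.map (CommRingCat.ofHom (algebraMap R K)) ≫ g
  obtain ⟨⟨s, θ⟩, hθ⟩ := (Scheme.SpecToEquivOfField K S).symm.surjective gK
  have hθ' : Spec.map θ ≫ S.fromSpecResidueField s = gK := hθ
  letI : Algebra (S.residueField s) K := θ.hom.toAlgebra
  let L : AlgebraicClosure (S.residueField s) →ₐ[S.residueField s] K := IsAlgClosed.lift
  let q : Spec (CommRingCat.of B) ⟶ Spec (CommRingCat.of (AlgebraicClosure (S.residueField s))) :=
    Spec.map (CommRingCat.ofHom (algebraMap K B)) ≫ Spec.map (CommRingCat.ofHom L.toRingHom)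
  have hq : q ≫ Red.geomPt s = (pt g B).hom := by
    have e1 : Spec.map (CommRingCat.ofHom L.toRingHom) ≫ Red.geomPt s = gK := by
      rw [← hθ', Red.geomPt, ← Category.assoc, ← Spec.map_comp, ← CommRingCat.ofHom_comp]
      congr 2
      exact CommRingCat.hom_ext (RingHom.ext fun x => L.commutes x)
    change (Spec.map (CommRingCat.ofHom (algebraMap K B)) ≫ _) ≫ _ = Spec.map (CommRingCat.ofHom (algebraMap R B)) ≫ g
    rw [Category.assoc, e1, ← Category.assoc, ← Spec.map_comp, ← CommRingCat.ofHom_comp,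
      ← IsScalarTower.algebraMap_eq R K B]
  obtain ⟨χ', hχ'⟩ : ∃ χ', tPt g D χ' = (y ≫ w) ≫ D.i := exists_tPt g D (y ≫ w)
  have h3 := comp_torusPart_of_fibre D u hfib w h1 h2 (X := pt g B) q hq y
  let z : pt (Spec.map (CommRingCat.ofHom (algebraMap R B)) ≫ g) B ⟶ pt g B := (towerIso g B B).hom
  have h4 : (z ≫ y) ≫ w ≫ D.i = (z ≫ y) ≫ u := by
    obtain ⟨χ₂, hχ₂⟩ : ∃ χ₂, tPt (Spec.map (CommRingCat.ofHom (algebraMap R B)) ≫ g) D χ₂ = z ≫ tPt g D χ := by
      obtain ⟨χ₂, hχ₂⟩ := exists_tPt (Spec.map (CommRingCat.ofHom (algebraMap R B)) ≫ g) D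
        (z ≫ ds g χ ≫ D.split.inv.hom.hom)
      exact ⟨χ₂, hχ₂.trans (by simp only [tPt, Category.assoc])⟩
    exact h2 B _ (z ≫ y) χ₂ (by rw [Category.assoc, hy, hχ₂])
  have h5 : y ≫ u = 1 := by
    rw [← cancel_epi z, ← Category.assoc z y u, ← h4, Category.assoc, ← Category.assoc y w, h3, MonObj.one_comp]
  refine tPt_injective g D ?_
  rw [← hy, h5, tPt_one]

include hfib h1 h2 in
/-- **A torus point of the subgroup is trivial.** -/
theorem torus_point_trivial {R : Type u} [CommRing R] (g : Spec (CommRingCat.of R) ⟶ S)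
    (χ₀ : Multiplicative D.M →* R) (hχ₀ : Fac u (tPt g D χ₀)) : χ₀ = 1 := by
  classical
  haveI := D.finiteM
  haveI : Mono D.i := D.maximalTorus.2.1
  let A := MonoidAlgebra R (Multiplicative D.M)
  let o : Multiplicative D.M →* A := MonoidAlgebra.of R (Multiplicative D.M)
  obtain ⟨I, hI⟩ := exists_ideal_fac u g (tPt g D o)
  have key : ∀ (B : Type u) [CommRing B] [Algebra R B] (φ : A →ₐ[R] B),
      Fac u (tPt g D (φ.toRingHom.toMonoidHom.comp o)) ↔ I ≤ RingHom.ker φ.toRingHom := fun B _ _ φ => by
    rw [← pmap_tPt]; exact hI B φ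
  let ε : A →ₐ[R] R := MonoidAlgebra.lift R R (Multiplicative D.M) 1
  have hεo : ∀ m, ε (o m) = 1 := fun m => MonoidAlgebra.lift_of _ _
  have hIε : I ≤ RingHom.ker ε.toRingHom := (key R ε).mp (by
    rw [show ε.toRingHom.toMonoidHom.comp o = 1 from MonoidHom.ext hεo, tPt_one]
    exact fac_one)
  let J : Ideal A := Ideal.span (Set.range fun m => o m - 1)
  have hJ1 : ∀ m, o m - 1 ∈ J := fun m => Ideal.subset_span ⟨m, rfl⟩
  -- every prime over `I` contains `J`
  have hprime : ∀ P : Ideal A, P.IsPrime → I ≤ P → J ≤ P := fun P hP hIP => by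
    let K := AlgebraicClosure P.ResidueField
    let φ : A →ₐ[R] K := IsScalarTower.toAlgHom R A K
    have hk : RingHom.ker φ.toRingHom = P := by
      ext a
      rw [RingHom.mem_ker]
      change algebraMap A K a = 0 ↔ _
      rw [IsScalarTower.algebraMap_apply A P.ResidueField K, map_eq_zero, Ideal.algebraMap_residueField_eq_zero]
    have h0 := torus_point_eq_one D u hfib w h1 h2 (K := K) g _ ((key K φ).mpr (hk.symm ▸ hIP))
    refine Ideal.span_le.mpr ?_
    rintro _ ⟨m, rfl⟩
    change o m - 1 ∈ P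
    rw [← hk, RingHom.mem_ker, map_sub, map_one, sub_eq_zero]
    exact DFunLike.congr_fun h0 m
  -- `J` is idempotent modulo `I`
  have hidem : J ≤ I ⊔ J * J := by
    let I' : Ideal A := I ⊔ J * J
    let C := A ⧸ I'
    have hJε : J ≤ RingHom.ker ε.toRingHom := Ideal.span_le.mpr (by
      rintro _ ⟨m, rfl⟩
      change ε (o m - 1) = 0
      rw [map_sub, map_one, hεo, sub_self])
    let εC : C →ₐ[R] R := Ideal.Quotient.liftₐ I' ε fun a ha =>
      (sup_le hIε (Ideal.mul_le_left.trans hJε) : I' ≤ RingHom.ker ε.toRingHom) ha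
    let mk := Ideal.Quotient.mkₐ R I'
    have hεmk : ∀ a, εC (mk a) = ε a := fun a => rfl
    let ρ : C →ₗ[R] C := LinearMap.id - (Algebra.linearMap R C).comp εC.toLinearMap
    have hd : ∀ m m', mk (o (m * m') - 1) = mk (o m - 1) + mk (o m' - 1) := fun m m' => by
      rw [← map_add]
      refine Ideal.Quotient.eq.mpr ?_
      rw [map_mul, show o m * o m' - 1 - (o m - 1 + (o m' - 1)) = (o m - 1) * (o m' - 1) by ring]
      exact Ideal.mem_sup_right (Ideal.mul_mem_mul (hJ1 m) (hJ1 m'))
    let d : D.M →+ C := AddMonoidHom.mk' (fun m => mk (o (Multiplicative.ofAdd m) - 1)) fun m m' => hd _ _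
    obtain ⟨s, hs⟩ := (Module.Finite.iff_fg.mp inferInstance : (⊤ : Submodule ℤ D.M).FG)
    let Q : Submodule R C := Submodule.span R (d '' (s : Set D.M))
    have hdQ : ∀ m, d m ∈ Q := fun m => by
      have : m ∈ Submodule.span ℤ (s : Set D.M) := by rw [hs]; trivial
      induction this using Submodule.span_induction with
      | mem x hx => exact Submodule.subset_span ⟨x, hx, rfl⟩
      | zero => rw [map_zero]; exact zero_mem _
      | add x y _ _ hx hy => rw [map_add]; exact add_mem hx hy
      | smul k x _ hx => rw [map_zsmul]; exact zsmul_mem hx k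
    have hρd : ∀ m, ρ (mk (o m)) = d m.toAdd := fun m => by
      change mk (o m) - algebraMap R C (εC (mk (o m))) = mk (o m - 1)
      rw [hεmk, hεo, map_one, map_sub, map_one]
    have hρ : ∀ c, ρ c ∈ Q := fun c => by
      obtain ⟨a, rfl⟩ := Ideal.Quotient.mkₐ_surjective R I' c
      induction a using MonoidAlgebra.induction_on with
      | of m => rw [hρd]; exact hdQ _
      | add x y hx hy => rw [map_add, map_add]; exact add_mem hx hy
      | smul r x hx => rw [map_smul, map_smul]; exact Q.smul_mem r hx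
    have hmax : ∀ p : Ideal R, p.IsMaximal → Q ≤ p • Q := fun p hp => by
      let I'' : Ideal A := I' ⊔ p.map (algebraMap R A)
      letI := Ideal.Quotient.field p
      let k := R ⧸ p
      let K := AlgebraicClosure k
      let C'' := A ⧸ I''
      letI : Algebra k C'' := (Ideal.Quotient.lift p (algebraMap R C'') fun r hr => by
        rw [IsScalarTower.algebraMap_apply R A C'', Ideal.Quotient.algebraMap_eq, Ideal.Quotient.eq_zero_iff_mem]
        exact Ideal.mem_sup_right (Ideal.mem_map_of_mem _ hr)).toAlgebra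
      haveI : IsScalarTower R k C'' := IsScalarTower.of_algebraMap_eq fun r => rfl
      let B := K ⊗[k] C''
      let inc : C'' →ₐ[R] B := (Algebra.TensorProduct.includeRight : C'' →ₐ[k] B).restrictScalars R
      have hinj : Function.Injective inc :=
        Algebra.TensorProduct.includeRight_injective (algebraMap k K).injective
      let φ : A →ₐ[R] B := inc.comp (Ideal.Quotient.mkₐ R I'')
      have hφ : I ≤ RingHom.ker φ.toRingHom := fun a ha => by
        rw [RingHom.mem_ker]
        change inc (Ideal.Quotient.mk I'' a) = 0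
        rw [Ideal.Quotient.eq_zero_iff_mem.mpr (Ideal.mem_sup_left (Ideal.mem_sup_left ha) : a ∈ I''), map_zero]
      have h0 := torus_point_eq_one D u hfib w h1 h2 (K := K) g _ ((key B φ).mpr hφ)
      refine Submodule.span_le.mpr ?_
      rintro _ ⟨m, -, rfl⟩
      have h3 : o (Multiplicative.ofAdd m) - 1 ∈ I'' := by
        have h4 : φ (o (Multiplicative.ofAdd m) - 1) = 0 := by
          rw [map_sub, map_one, sub_eq_zero]
          exact DFunLike.congr_fun h0 (Multiplicative.ofAdd m)
        rw [← map_zero inc] at h4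
        exact Ideal.Quotient.eq_zero_iff_mem.mp (hinj h4)
      obtain ⟨a, ha, b, hb, hab⟩ := Submodule.mem_sup.mp h3
      have h5 : d m ∈ p • (⊤ : Submodule R C) := by
        rw [Ideal.smul_top_eq_map]
        change mk (o (Multiplicative.ofAdd m) - 1) ∈ Ideal.map (algebraMap R C) p
        rw [← hab, map_add, show mk a = 0 from Ideal.Quotient.eq_zero_iff_mem.mpr ha, zero_add,
          IsScalarTower.algebraMap_eq R A C, ← Ideal.map_map]
        exact Ideal.mem_map_of_mem _ hb
      have h6 : ρ (d m) ∈ p • Q := by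
        have h7 : ρ (d m) ∈ Submodule.map ρ (p • ⊤) := ⟨_, h5, rfl⟩
        rw [Submodule.map_smul''] at h7
        refine Submodule.smul_mono le_rfl ?_ h7
        rintro _ ⟨c, -, rfl⟩
        exact hρ c
      have h8 : ρ (d m) = d m := by
        change d m - algebraMap R C (εC (mk (o (Multiplicative.ofAdd m) - 1))) = d m
        rw [hεmk, map_sub, map_one, hεo, sub_self, map_zero, sub_zero]
      rw [h8] at h6
      exact h6
    let Ann : Ideal R :=
      { carrier := {r | ∀ n ∈ Q, r • n = 0}
        zero_mem' := fun n _ => zero_smul R n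
        add_mem' := fun {x y} hx hy n hn => by rw [add_smul, hx n hn, hy n hn, add_zero]
        smul_mem' := fun c x hx n hn => by rw [smul_eq_mul, mul_smul, hx n hn, smul_zero] }
    have hann : Ann = ⊤ := by
      by_contra hne
      obtain ⟨p, hp, hle⟩ := Ideal.exists_le_maximal Ann hne
      obtain ⟨r, hr, hr0⟩ := Submodule.exists_sub_one_mem_and_smul_eq_zero_of_fg_of_le_smul p Q
        (Submodule.fg_span (s.finite_toSet.image _)) (hmax p hp)
      refine hp.ne_top ((Ideal.eq_top_iff_one p).mpr ?_)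
      have := sub_mem (hle (show r ∈ Ann from hr0)) hr
      rwa [sub_sub_cancel] at this
    refine Ideal.span_le.mpr ?_
    rintro _ ⟨m, rfl⟩
    have h9 := ((Ideal.eq_top_iff_one Ann).mp hann : ∀ n ∈ Q, (1 : R) • n = 0) _ (hdQ m.toAdd)
    rw [one_smul] at h9
    exact Ideal.Quotient.eq_zero_iff_mem.mp h9
  have hfg : J.FG := by
    obtain ⟨s, hs⟩ := (Module.Finite.iff_fg.mp inferInstance : (⊤ : Submodule ℤ D.M).FG)
    refine ⟨(s.image fun m => o (Multiplicative.ofAdd m) - 1), le_antisymm (Ideal.span_le.mpr ?_) (Ideal.span_le.mpr ?_)⟩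
    · intro x hx
      obtain ⟨m, -, rfl⟩ := Finset.mem_image.mp hx
      exact hJ1 _
    · rintro _ ⟨m, rfl⟩
      set J₀ : Ideal A := Ideal.span ↑(s.image fun m => o (Multiplicative.ofAdd m) - 1)
      have key' : ∀ x : D.M, o (Multiplicative.ofAdd x) - 1 ∈ J₀ := fun x => by
        have : x ∈ Submodule.span ℤ (s : Set D.M) := by rw [hs]; trivial
        let Z : AddSubgroup D.M :=
          { carrier := {x | o (Multiplicative.ofAdd x) - 1 ∈ J₀}
            zero_mem' := by
              change o 1 - 1 ∈ J₀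
              rw [map_one, sub_self]
              exact zero_mem _
            add_mem' := fun {x y} hx hy => by
              change o (Multiplicative.ofAdd x * Multiplicative.ofAdd y) - 1 ∈ J₀
              rw [map_mul, show o (Multiplicative.ofAdd x) * o (Multiplicative.ofAdd y) - 1 =
                o (Multiplicative.ofAdd x) * (o (Multiplicative.ofAdd y) - 1) + (o (Multiplicative.ofAdd x) - 1) by ring]
              exact add_mem (Ideal.mul_mem_left _ _ hy) hx
            neg_mem' := fun {x} hx => by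
              change o (Multiplicative.ofAdd x)⁻¹ - 1 ∈ J₀
              have e : o (Multiplicative.ofAdd x)⁻¹ - 1 =
                  -(o (Multiplicative.ofAdd x)⁻¹ * (o (Multiplicative.ofAdd x) - 1)) := by
                rw [mul_sub, ← map_mul, inv_mul_cancel, map_one]; ring
              rw [e]
              exact neg_mem (Ideal.mul_mem_left _ _ hx) }
        have hZ : Submodule.span ℤ (s : Set D.M) ≤ AddSubgroup.toIntSubmodule Z := Submodule.span_le.mpr fun y hy =>
          Ideal.subset_span (Finset.mem_coe.mpr (Finset.mem_image.mpr ⟨y, hy, rfl⟩))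
        exact hZ this
      exact key' m.toAdd
  have hle : J ≤ I := by
    let C := A ⧸ I
    let Jb : Ideal C := J.map (Ideal.Quotient.mk I)
    have h3 : Jb = ⊥ := by
      refine Submodule.eq_bot_of_le_smul_of_le_jacobson_bot Jb Jb (hfg.map _) ?_ ?_
      · rw [smul_eq_mul, ← Ideal.map_mul]
        refine (Ideal.map_mono hidem).trans ?_
        rw [Ideal.map_sup, Ideal.map_quotient_self, bot_sup_eq]
      · refine le_sInf ?_
        rintro P ⟨-, hP⟩
        haveI := hP.isPrime
        exact Ideal.map_le_iff_le_comap.mpr (hprime _ (Ideal.IsPrime.comap _) fun a ha => by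
          rw [Ideal.mem_comap, Ideal.Quotient.eq_zero_iff_mem.mpr ha]
          exact zero_mem _)
    rwa [Ideal.map_eq_bot_iff_le_ker, Ideal.mk_ker] at h3
  let φ₀ : A →ₐ[R] R := MonoidAlgebra.lift R R (Multiplicative D.M) χ₀
  have hφo : φ₀.toRingHom.toMonoidHom.comp o = χ₀ := MonoidHom.ext fun m => MonoidAlgebra.lift_of _ _
  have h10 : I ≤ RingHom.ker φ₀.toRingHom := (key R φ₀).mp (by rw [hφo]; exact hχ₀)
  refine MonoidHom.ext fun m => ?_
  have h11 : φ₀ (o m - 1) = 0 := h10 (hle (hJ1 m))
  rw [map_sub, map_one, sub_eq_zero] at h11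
  rw [← hφo]
  exact h11

include hfib h1 h2 in
/-- **The retraction to the torus is trivial.** -/
theorem torusPart_eq_one : w = 1 := by
  haveI : Mono D.i := D.maximalTorus.2.1
  refine hom_ext_pt fun R _ g y => ?_
  rw [← cancel_mono D.i, MonObj.comp_one, MonObj.one_comp, Category.assoc]
  obtain ⟨χ, hχ⟩ := exists_tPt g D (y ≫ w)
  rw [Category.assoc] at hχ
  rw [← hχ, torus_point_trivial D u hfib w h1 h2 g χ (hχ ▸ h1 R g y), tPt_one]

end Groth.Agent.H21Split.TypeR
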