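import Groth.Agent.H21Split.TypeR.TorusSub
import Groth.Agent.H21Split.TypeR.Borel
import Groth.Agent.H21Split.DualLocal
import Groth.Agent.H19Grp.QuasiFiniteHom
import Groth.Agent.H21Split.Red0.BaseExists
import Groth.Agent.H21Rank1.NormalEtale

/-!
A subgroup with symmetric roots over an algebraically closed field has no unipotent radical.
-/

open CategoryTheory MonoidalCategory CartesianMonoidalCategory MonObj GrpObj AlgebraicGeometry
open CategoryTheory.Limits
open Groth.Agent.H27Witt H20Mu H20Conj H20Borel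
open scoped commutatorElement

universe u

set_option autoImplicit false
set_option backward.isDefEq.respectTransparency false
set_option linter.style.haveILetI false
set_option linter.unusedSectionVars false
set_option synthInstance.maxHeartbeats 400000
set_option maxHeartbeats 2000000

noncomputable section

namespace Groth.Agent.H21Split.TypeR

variable {K : Type u} [Field K] [IsAlgClosed K]

theorem pre_mul {X : Over (Sk K)} [GrpObj X] (a b : pt (𝟙 (Sk K)) K ⟶ X) :
    e₀.inv ≫ (a * b) = (e₀.inv ≫ a) * (e₀.inv ≫ b) := MonObj.comp_mul _ _ _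

/-- a subgroup of the group scheme over a field is closed -/
theorem isClosedImmersion_of_sub {G H : Over (Sk K)} [GrpObj G] [GrpObj H] (D : Red.SplitRed G) (h : H ⟶ G)
    [IsMonHom h] [IsImmersion h.left] : IsClosedImmersion h.left := by
  haveI := isAffineHom_hom D
  haveI := smooth_hom D
  haveI : IsLocallyNoetherian G.left := LocallyOfFiniteType.isLocallyNoetherian G.hom
  haveI : LocallyOfFiniteType H.hom := by rw [← Over.w h]; infer_instance
  haveI : IsAffine G.left := isAffine_of_isAffineHom G.hom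
  haveI : AlgebraicGeometry.IsNoetherian G.left := {}
  haveI : TopologicalSpace.NoetherianSpace H.left :=
    h.left.isEmbedding.isInducing.noetherianSpace
  exact H19Grp.QuasiFiniteHom.isClosedImmersion_of_mono h

variable {G H : Over (Sk K)} [GrpObj G] [GrpObj H] (D : Red.SplitRed G) {h : H ⟶ G}
  [Smooth H.hom] [IsMonHom h] [IsImmersion h.left] (t : D.T ⟶ H) (ht : t ≫ h = D.i) (R' : Set D.idx)
  (hR' : ∀ a : D.idx, (∃ v : Red.Ga (Sk K) ⟶ H, v ≫ h = D.u a) ↔ a ∈ R')

include ht hR'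

/-- **A subgroup with symmetric roots has trivial unipotent radical.** -/
theorem radical_trivial (hsymm : ∀ a ∈ R', D.P.reflectionPerm a a ∈ R') {U : Over (Sk K)} [GrpObj U] (u : U ⟶ H)
    [IsMonHom u] [IsClosedImmersion u.left] [Smooth U.hom] [ConnectedSpace U.left] (hN : AlgGrp.IsNormalHom u)
    (hns : Red.HasNoSubtorus K U) : Red.IsTrivialGrp U := by
  classical
  let g : Spec (CommRingCat.of K) ⟶ Sk K := 𝟙 _
  haveI := isAffineHom_hom D
  haveI := smooth_hom D
  haveI := D.fintypeIdx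
  haveI : Finite D.idx := Finite.of_fintype _
  haveI := H21Red0.isReduced_of_nonempty D
  haveI : IsAffine G.left := isAffine_of_isAffineHom G.hom
  haveI := D.finiteM
  haveI := D.freeM
  haveI : IsMonHom D.i := D.maximalTorus.1
  haveI := isClosedImmersion_of_sub D h
  haveI : Mono h := Over.mono_of_mono_left _
  haveI : IsClosedImmersion (u ≫ h).left := by rw [Over.comp_left]; infer_instance
  haveI : IsMonHom (u ≫ h) := inferInstance
  haveI : IsAffine U.left := isAffine_of_isAffineHom (u ≫ h).left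
  haveI := Fn.isDomain U
  haveI : IsAffine H.left := isAffine_of_isAffineHom h.left
  -- points of the torus and of the unipotent group
  let UK : Subgroup (𝟙_ (Over (Sk K)) ⟶ G) :=
    (MonoidHom.mk' (fun y : 𝟙_ (Over (Sk K)) ⟶ U => y ≫ u ≫ h) fun a b => MonObj.mul_comp a b _).range
  have hnorm : ∀ z : 𝟙_ (Over (Sk K)) ⟶ H, ∀ x ∈ UK, (z ≫ h) * x * (z ≫ h)⁻¹ ∈ UK := by
    rintro z _ ⟨y, rfl⟩
    obtain ⟨y', hy'⟩ := hN _ z y
    refine ⟨y', ?_⟩
    have := congrArg (· ≫ h) hy'
    simp only [MonObj.mul_comp, GrpObj.inv_comp, Category.assoc] at this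
    exact this.symm
  have hnormT : ∀ χ : Multiplicative D.M →* K, ∀ x ∈ UK,
      (e₀.inv ≫ tPt g D χ) * x * (e₀.inv ≫ tPt g D χ)⁻¹ ∈ UK := fun χ x hx => by
    have := hnorm (e₀.inv ≫ ds g χ ≫ D.split.inv.hom.hom ≫ t) x hx
    simpa only [tPt, Category.assoc, ht] using this
  let TK : Subgroup (𝟙_ (Over (Sk K)) ⟶ G) :=
    (MonoidHom.mk' (fun y : 𝟙_ (Over (Sk K)) ⟶ D.T => y ≫ D.i) fun a b => MonObj.mul_comp a b _).range
  have hTK : ∀ x ∈ TK, ∃ χ, x = e₀.inv ≫ tPt g D χ := by
    rintro _ ⟨y, rfl⟩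
    obtain ⟨χ, hχ⟩ := exists_tPt g D (e₀.hom ≫ y)
    exact ⟨χ, by simp [hχ]⟩
  have hTnorm : ∀ s ∈ TK, ∀ x ∈ UK, s * x * s⁻¹ ∈ UK := fun s hs x hx => by
    obtain ⟨χ, rfl⟩ := hTK s hs
    exact hnormT χ x hx
  let R : Subgroup (𝟙_ (Over (Sk K)) ⟶ G) :=
    { carrier := {z | ∃ s ∈ TK, ∃ x ∈ UK, z = s * x}
      one_mem' := ⟨1, TK.one_mem, 1, UK.one_mem, (_root_.mul_one _).symm⟩
      mul_mem' := by
        rintro _ _ ⟨s, hs, x, hx, rfl⟩ ⟨s', hs', x', hx', rfl⟩
        refine ⟨s * s', TK.mul_mem hs hs', s'⁻¹ * x * s'⁻¹⁻¹ * x',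
          UK.mul_mem (hTnorm _ (TK.inv_mem hs') x hx) hx', by group⟩
      inv_mem' := by
        rintro _ ⟨s, hs, x, hx, rfl⟩
        exact ⟨s⁻¹, TK.inv_mem hs, s * x⁻¹ * s⁻¹, hTnorm s hs _ (UK.inv_mem hx), by group⟩ }
  haveI : Mono D.i := D.maximalTorus.2.1
  -- the closure is irreducible
  haveI : IsAffine D.T.left := by
    haveI := H21Diag.isAffineHom_DS (Sk K) D.M
    haveI : IsAffine (Red.DS (Sk K) D.M).left := isAffine_of_isAffineHom (Red.DS (Sk K) D.M).hom
    haveI : IsIso D.split.hom.hom.hom.left :=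
      ⟨D.split.inv.hom.hom.left, by rw [← Over.comp_left, split_hom_inv, Over.id_left],
        by rw [← Over.comp_left, split_inv_hom, Over.id_left]⟩
    exact IsAffine.of_isIso D.split.hom.hom.hom.left
  haveI hsmT : Smooth D.T.hom := by
    haveI := smooth_DS (S := Sk K) D.M
    haveI : IsIso D.split.hom.hom.hom.left :=
      ⟨D.split.inv.hom.hom.left, by rw [← Over.comp_left, split_hom_inv, Over.id_left],
        by rw [← Over.comp_left, split_inv_hom, Over.id_left]⟩
    rw [show D.T.hom = D.split.hom.hom.hom.left ≫ (Red.DS (Sk K) D.M).hom from (Over.w _).symm]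
    infer_instance
  haveI : IrreducibleSpace D.T.left := H21Rank1.irreducibleSpace_of_isTorus D.maximalTorus.2.2.1
  haveI : ConnectedSpace D.T.left := IrreducibleSpace.connectedSpace _
  haveI := Fn.isDomain D.T
  have hprime : (vanish (R : Set (𝟙_ (Over (Sk K)) ⟶ G))).IsPrime := by
    refine ⟨fun h1 => ?_, fun {a b} hab => ?_⟩
    · have := mem_vanish.mp ((Ideal.eq_top_iff_one _).mp h1) 1 R.one_mem
      rw [map_one] at this
      exact one_ne_zero this
    · by_contra hn
      push Not at hn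
      obtain ⟨ha, hb⟩ := hn
      simp only [mem_vanish, not_forall] at ha hb
      obtain ⟨za, ⟨_, ⟨sa, rfl⟩, _, ⟨xa, rfl⟩, rfl⟩, hva⟩ := ha
      obtain ⟨zb, ⟨_, ⟨sb, rfl⟩, _, ⟨xb, rfl⟩, rfl⟩, hvb⟩ := hb
      let fa : D.T ⟶ G := D.i * (toUnit _ ≫ xa ≫ u ≫ h)
      let fb : D.T ⟶ G := D.i * (toUnit _ ≫ xb ≫ u ≫ h)
      have hfa : ∀ s, s ≫ fa = (s ≫ D.i) * (xa ≫ u ≫ h) := fun s => by
        rw [MonObj.comp_mul, ← Category.assoc s (toUnit _), toUnit_unique (s ≫ toUnit _) (𝟙 _), Category.id_comp]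
      have hfb : ∀ s, s ≫ fb = (s ≫ D.i) * (xb ≫ u ≫ h) := fun s => by
        rw [MonObj.comp_mul, ← Category.assoc s (toUnit _), toUnit_unique (s ≫ toUnit _) (𝟙 _), Category.id_comp]
      obtain ⟨s, hs⟩ : ∃ s, val s (Fn.pull fa a * Fn.pull fb b) ≠ 0 := by
        by_contra hall
        push Not at hall
        have hzero : Fn.pull fa a * Fn.pull fb b = 0 := Fn.ext_points fun s => by
          change val s _ = val s 0
          rw [hall, map_zero]
        rcases mul_eq_zero.mp hzero with h0 | h0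
        · exact hva (by
            have := congrArg (val sa) h0
            rw [val_pull, map_zero, hfa] at this
            exact this)
        · exact hvb (by
            have := congrArg (val sb) h0
            rw [val_pull, map_zero, hfb] at this
            exact this)
      let fs : U ⟶ G := (toUnit _ ≫ s ≫ D.i) * (u ≫ h)
      have hfs : ∀ x, x ≫ fs = (s ≫ D.i) * (x ≫ u ≫ h) := fun x => by
        rw [MonObj.comp_mul, ← Category.assoc x (toUnit _), toUnit_unique (x ≫ toUnit _) (𝟙 _), Category.id_comp]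
      have h0 : Fn.pull fs a * Fn.pull fs b = 0 := Fn.ext_points fun x => by
        change val x _ = val x 0
        rw [map_zero, ← map_mul, val_pull, hfs]
        exact mem_vanish.mp hab _ ⟨_, ⟨s, rfl⟩, _, ⟨x, rfl⟩, rfl⟩
      rw [map_mul, val_pull, val_pull, hfa, hfb] at hs
      rcases mul_eq_zero.mp h0 with h1 | h1
      · have := congrArg (val xa) h1
        rw [val_pull, map_zero, hfs] at this
        exact hs (by rw [this, zero_mul])
      · have := congrArg (val xb) h1
        rw [val_pull, map_zero, hfs] at this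
        exact hs (by rw [this, mul_zero])
  obtain ⟨H', grp, i', hi'mon, hi'cl, hH'aff, hH'sm, hH'conn, hpts, hlift⟩ := exists_subgroup_scheme_of_prime R hprime
  letI := grp
  haveI := hi'mon
  haveI := hi'cl
  haveI := hH'sm
  have hRclo : ∀ z ∈ R, z ∈ clo R := fun z hz a ha => mem_vanish.mp ha z hz
  haveI : AlgebraicGeometry.IsReduced D.T.left := H13AlgSp.isReduced_of_smooth_mor D.T.hom
  haveI : AlgebraicGeometry.IsReduced U.left := H13AlgSp.isReduced_of_smooth_mor U.hom
  obtain ⟨t', ht'⟩ := hlift D.i fun y => hRclo _ ⟨_, ⟨y, rfl⟩, 1, UK.one_mem, (_root_.mul_one _).symm⟩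
  obtain ⟨u', hu'⟩ := hlift (u ≫ h) fun y => hRclo _ ⟨1, TK.one_mem, _, ⟨y, rfl⟩, (_root_.one_mul _).symm⟩
  -- commutators with the torus land in the unipotent group
  have hcomm : ∀ (χ : Multiplicative D.M →* K), ∀ z ∈ clo R, ⁅e₀.inv ≫ tPt g D χ, z⁆ ∈ UK := by
    intro χ z hz
    let s := e₀.inv ≫ tPt g D χ
    let cm : G ⟶ G := (toUnit _ ≫ s) * 𝟙 G * (toUnit _ ≫ s)⁻¹ * (𝟙 G)⁻¹
    have hcm : ∀ w : 𝟙_ (Over (Sk K)) ⟶ G, w ≫ cm = ⁅s, w⁆ := fun w => by
      simp only [cm, MonObj.comp_mul, GrpObj.comp_inv, Category.comp_id, commutatorElement_def]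
      rw [← Category.assoc, toUnit_unique (w ≫ toUnit _) (𝟙 _), Category.id_comp]
    obtain ⟨y, hy⟩ := exists_lift_of_vanish (u ≫ h) ⁅s, z⁆ fun a ha => by
      rw [← hcm, ← val_pull]
      refine hz _ (mem_vanish.mpr ?_)
      rintro _ ⟨σ, hσ, x, hx, rfl⟩
      obtain ⟨χ', rfl⟩ := hTK σ hσ
      have hm : ⁅s, (e₀.inv ≫ tPt g D χ') * x⁆ ∈ UK := by
        have hc : s * (e₀.inv ≫ tPt g D χ') = (e₀.inv ≫ tPt g D χ') * s := by
          rw [← pre_mul, ← pre_mul, (tPt_commute g D χ χ').eq]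
        have e : ⁅s, (e₀.inv ≫ tPt g D χ') * x⁆ =
            (e₀.inv ≫ tPt g D χ') * (s * x * s⁻¹ * x⁻¹) * (e₀.inv ≫ tPt g D χ')⁻¹ := by
          rw [commutatorElement_def, ← _root_.mul_assoc, hc]
          group
        rw [e]
        exact hnormT χ' _ (UK.mul_mem (hnormT χ x hx) (UK.inv_mem hx))
      obtain ⟨y, hy⟩ := hm
      rw [val_pull, hcm, ← hy]
      change val (y ≫ u ≫ h) a = 0
      rw [← val_pull, ha, map_zero]
    exact ⟨y, hy⟩
  -- the roots of the auxiliary group
  let R'' : Set D.idx := {a | ∃ v : Red.Ga (Sk K) ⟶ H', v ≫ i' = D.u a}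
  have hconn' : RedSub.HasConnectedFibres H' := fun s => by
    have e : H'.hom.base ⁻¹' {s} = Set.univ :=
      Set.eq_univ_of_forall fun x => Subsingleton.elim (α := PrimeSpectrum K) _ _
    rw [e]
    exact isConnected_univ
  obtain ⟨b⟩ := H21Red0.nonempty_base D
  rcases Set.eq_empty_or_nonempty R'' with hemp | ⟨a, ha⟩
  · obtain ⟨φ, hφ⟩ := exists_iso_borelMap D t' ht' R'' (fun _ => Iff.rfl) b hconn' (by rw [hemp]; exact Set.empty_subset _)
      (Fin.elim0 : Fin 0 → D.idx) ⟨fun k => k.elim0, by rw [hemp, Set.range_eq_empty]⟩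
    have hU1 := points_eq_one_of_le_torus D (u ≫ h) hns fun y => by
      obtain ⟨χ, hχ⟩ := comp_borelMap D g (Fin.elim0 : Fin 0 → D.idx) (e₀.hom ≫ y ≫ u' ≫ φ.inv)
      refine ⟨χ, ?_⟩
      have e : tPt g D χ * uProd g D (Fin.elim0 : Fin 0 → D.idx)
          (gvs g ((e₀.hom ≫ y ≫ u' ≫ φ.inv) ≫ snd _ _)) = tPt g D χ := by
        rw [uProd, List.ofFn_zero, List.prod_nil, _root_.mul_one]
      rw [e] at hχ
      rw [← hχ]
      simp only [Category.assoc, ← hφ, Iso.inv_hom_id_assoc, Iso.inv_hom_id, hu']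
    haveI : Mono (u ≫ h) := Over.mono_of_mono_left _
    have hid : (𝟙 U : U ⟶ U) = 1 := by
      rw [← cancel_mono (u ≫ h), MonObj.one_comp, Category.id_comp]
      refine Fn.hom_ext (AlgHom.ext fun a => Fn.ext_points fun y => ?_)
      change val y (Fn.pull (u ≫ h) a) = val y (Fn.pull 1 a)
      rw [val_pull, val_pull, hU1, MonObj.comp_one]
    refine ⟨η[U].left, ?_, ?_⟩
    · rw [show U.hom = (toUnit U).left from rfl, ← Over.comp_left, ← Hom.one_def, ← hid]
      rfl
    · exact Over.w η[U]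
  · exfalso
    have ha' : a ∈ R'' := ha
    obtain ⟨v, hv⟩ := ha
    have hmem : ∀ x : K, e₀.inv ≫ uPt g D a x ∈ UK := fun x => by
      obtain ⟨w, hw⟩ := Infinite.exists_notMem_finset ({0, 1, -1} : Finset K)
      simp only [Finset.mem_insert, Finset.mem_singleton, not_or] at hw
      let z : Kˣ := Units.mk0 w hw.1
      have hsq : w * w ≠ 1 := fun e => by
        rcases mul_self_eq_one_iff.mp e with e | e
        · exact hw.2.1 e
        · exact hw.2.2 e
      have e : ⁅tPt g D (cor D z a), uPt g D a ((w * w - 1)⁻¹ * x)⁆ = uPt g D a x := by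
        rw [commutatorElement_def, tPt_conj, cor_self, ← uPt_neg, ← uPt_add]
        congr 1
        rw [← sub_eq_add_neg, ← sub_one_mul, show ((z * z : Kˣ) : K) = w * w from rfl,
          mul_inv_cancel_left₀ (sub_ne_zero.mpr hsq)]
      have hz : e₀.inv ≫ uPt g D a ((w * w - 1)⁻¹ * x) ∈ clo R := by
        have e1 : e₀.inv ≫ uPt g D a ((w * w - 1)⁻¹ * x) = (e₀.inv ≫ ga g ((w * w - 1)⁻¹ * x) ≫ v) ≫ i' := by
          simp only [uPt, Category.assoc, hv]
        rw [e1]
        exact hpts _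
      have h2 := hcomm (cor D z a) _ hz
      convert h2 using 1
      rw [← e, commutatorElement_def, commutatorElement_def, MonObj.comp_mul, MonObj.comp_mul, MonObj.comp_mul,
        GrpObj.comp_inv, GrpObj.comp_inv]
    have hfac : ∀ x ∈ UK, Fac h (e₀.hom ≫ x) := by
      rintro _ ⟨y, rfl⟩
      exact ⟨e₀.hom ≫ y ≫ u, by simp only [Category.assoc]; rfl⟩
    have haR : a ∈ R' := by
      by_contra hn
      have := eq_zero_of_fac' t ht R' hR' g hn (b := (1 : K)) (by
        simpa using hfac _ (hmem 1))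
      exact one_ne_zero this
    set c := D.P.reflectionPerm a a with hc
    have hcR : c ∈ R' := hsymm a haR
    have hroot : D.P.root c = -D.P.root a := by rw [hc, D.P.root_reflectionPerm, D.P.reflection_apply_self]
    obtain ⟨_, hκ, ⟨k, rfl⟩⟩ := exists_dual D g a
    rw [← hc] at hκ
    have hmemc : ∀ y : K, e₀.inv ≫ uPt g D c y ∈ UK := fun y => by
      obtain ⟨va, hva⟩ := (hR' a).mpr haR
      obtain ⟨vc, hvc⟩ := (hR' c).mpr hcR
      have hW : ∃ w, w ≫ h = R2.wPt g D a c k K := by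
        refine ⟨(ga g (1 : K) ≫ va) * (ga g (-algebraMap K K (↑k⁻¹)) ≫ vc) * (ga g (1 : K) ≫ va), ?_⟩
        simp only [R2.wPt, uPt, MonObj.mul_comp, Category.assoc, hva, hvc]
      obtain ⟨w, hw⟩ := hW
      have h1 := R2.hasN_self g D hroot hκ K (-(k : K) * y)
      have h2 := hnorm (e₀.inv ≫ w) _ (hmem (-(k : K) * y))
      rw [Category.assoc, hw, ← pre_mul, ← GrpObj.comp_inv, ← pre_mul, h1] at h2
      convert h2 using 3
      simp
    have hcor : ∀ z : Kˣ, e₀.inv ≫ tPt g D (cor D z a) ∈ UK := fun z => by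
      have hz : (z : K) = 1 + algebraMap K K k * (((z : K) - 1) * ↑k⁻¹) * 1 := by
        simp only [Algebra.algebraMap_self, RingHom.id_apply, _root_.mul_one, mul_left_comm (k : K), Units.mul_inv]
        ring
      have h1 := hκ K (((z : K) - 1) * ↑k⁻¹) 1 z hz
      have h2 := UK.mul_mem (UK.mul_mem (UK.inv_mem (hmemc (↑z⁻¹ * 1)))
        (UK.mul_mem (hmem (((z : K) - 1) * ↑k⁻¹)) (hmemc 1)))
        (UK.inv_mem (hmem (↑z⁻¹ * (((z : K) - 1) * ↑k⁻¹))))
      rw [← pre_mul, ← GrpObj.comp_inv, ← GrpObj.comp_inv, ← pre_mul, ← pre_mul, h1] at h2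
      simpa only [_root_.mul_assoc, inv_mul_cancel_left, mul_inv_cancel, _root_.mul_one] using h2
    -- the primitive cocharacter
    let φ : D.M →ₗ[ℤ] ℤ := D.P.coroot' a
    obtain ⟨n, hn⟩ := Int.subgroup_cyclic φ.toAddMonoidHom.range
    rw [← AddSubgroup.zmultiples_eq_closure] at hn
    have hn0 : n ≠ 0 := fun h0 => by
      have h2 : φ (D.P.root a) ∈ φ.toAddMonoidHom.range := ⟨_, rfl⟩
      rw [hn, h0, AddSubgroup.zmultiples_zero_eq_bot, AddSubgroup.mem_bot] at h2
      simp [φ, D.P.root_coroot'_eq_pairing] at h2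
    have hdvd : ∀ m, n ∣ φ m := fun m => by
      have h2 : φ m ∈ φ.toAddMonoidHom.range := ⟨_, rfl⟩
      rw [hn, Int.mem_zmultiples_iff] at h2
      exact h2
    choose ψ hψ using hdvd
    let ψh : D.M →+ ℤ := AddMonoidHom.mk' ψ fun m m' => mul_left_cancel₀ hn0 (by
      rw [mul_add, ← hψ, ← hψ, ← hψ, map_add])
    have hψs : Function.Surjective ψh := fun l => by
      obtain ⟨m, hm⟩ : (l * n) ∈ φ.toAddMonoidHom.range := by
        rw [hn, Int.mem_zmultiples_iff]; exact dvd_mul_left _ _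
      refine ⟨m, mul_left_cancel₀ hn0 ?_⟩
      change n * ψ m = n * l
      rw [← hψ, mul_comm n l]
      exact hm
    have hsub := subsingleton_of_points D (u ≫ h) hns ψh hψs fun χ => by
      obtain ⟨w, hw⟩ : ∃ w : Kˣ, (w ^ n : Kˣ) = ((Group.isUnit (Multiplicative.ofAdd (1 : ℤ))).map χ).unit := by
        obtain ⟨x, hx⟩ := IsAlgClosed.exists_pow_nat_eq (((Group.isUnit (Multiplicative.ofAdd (1 : ℤ))).map χ).unit : K)
          (Int.natAbs_pos.mpr hn0)
        have hx0 : x ≠ 0 := fun h0 => by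
          rw [h0, zero_pow (Int.natAbs_ne_zero.mpr hn0)] at hx
          exact Units.ne_zero _ hx.symm
        rcases Int.natAbs_eq n with he | he
        · exact ⟨Units.mk0 x hx0, Units.ext (by rw [he, zpow_natCast, Units.val_pow_eq_pow_val]; exact hx)⟩
        · refine ⟨(Units.mk0 x hx0)⁻¹, Units.ext ?_⟩
          rw [he, zpow_neg, inv_zpow', zpow_neg, _root_.inv_inv, zpow_natCast, Units.val_pow_eq_pow_val]
          exact hx
      obtain ⟨y, hy⟩ := hcor w
      refine ⟨y, hy.trans ?_⟩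
      congr 2
      refine MonoidHom.ext fun m => ?_
      induction m using Multiplicative.rec with
      | ofAdd m =>
        change ((w ^ (D.P.coroot a m) : Kˣ) : K) = χ (Multiplicative.ofAdd (ψ m))
        have e1 : D.P.coroot a m = n * ψ m := by rw [← hψ]; exact coroot_apply D a m
        rw [e1, zpow_mul, hw]
        have e2 : Multiplicative.ofAdd (ψ m) = Multiplicative.ofAdd (1 : ℤ) ^ (ψ m) := by
          rw [← ofAdd_zsmul, smul_eq_mul, _root_.mul_one]
        conv_rhs => rw [e2, ← MonoidHom.coe_toHomUnits χ, map_zpow]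
        exact congrArg (fun q : Kˣ => ((q ^ ψ m : Kˣ) : K)) (Units.ext rfl)
    exact zero_ne_one (α := ℤ) (hsub.elim _ _)

end Groth.Agent.H21Split.TypeR
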