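import Groth.Agent.H21Split.TypeR.Factor
import Groth.Agent.H21Split.Red0.Kill

/-!
The roots of a smooth subgroup containing the torus.
-/

open CategoryTheory MonoidalCategory CartesianMonoidalCategory MonObj GrpObj AlgebraicGeometry
open CategoryTheory.Limits
open TrivSqZeroExt (inl inr)

universe u

set_option backward.isDefEq.respectTransparency false
set_option linter.style.haveILetI false
set_option linter.unusedSectionVars false
set_option synthInstance.maxHeartbeats 400000
set_option maxHeartbeats 1000000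

noncomputable section

namespace Groth.Agent.H21Split.TypeR

variable {S : Scheme.{u}} {G H : Over S} [GrpObj G] [GrpObj H] {h : H ⟶ G} [IsAffineHom G.hom] (D : Red.SplitRed G)

section Tower

variable {R : Type u} [CommRing R] (g : Spec (CommRingCat.of R) ⟶ S)
variable (K : Type u) [CommRing K] [Algebra R K] {B : Type u} [CommRing B] [Algebra R B] [Algebra K B] [IsScalarTower R K B]

theorem towerIso_uPt (a : D.idx) (b : B) :
    (towerIso g K B).hom ≫ uPt g D a b = uPt (Spec.map (CommRingCat.ofHom (algebraMap R K)) ≫ g) D a b := by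
  rw [uPt, uPt, ← Category.assoc]
  congr 1
  refine gv_injective _ ?_
  rw [gv_ga]
  refine (H21Diag.gval_comp (RingHom.id B) (ga g b) _ ?_).trans (gv_ga g b)
  exact congrArg (· ≫ (ga g b).left) (Spec.map_id (CommRingCat.of B)).symm

theorem fac_tower (a : D.idx) (b : B) :
    Fac h (uPt (Spec.map (CommRingCat.ofHom (algebraMap R K)) ≫ g) D a b) ↔ Fac h (uPt g D a b) := by
  rw [← towerIso_uPt D g K a b]
  refine ⟨fun hb => ?_, fun hb => hb.precomp _⟩
  simpa using hb.precomp (towerIso g K B).inv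

end Tower

variable {R : Type u} [CommRing R] (g : Spec (CommRingCat.of R) ⟶ S)

/-- the idempotent deciding whether a root vector lies in the subgroup -/
def IsIdem (h : H ⟶ G) (a : D.idx) (e : R) : Prop :=
  ∀ (B : Type u) [CommRing B] [Algebra R B] (c : B),
    Fac h (uPt g D a (inr c : DualNumber B)) ↔ c * algebraMap R B e = c

theorem IsIdem.mul_self {a : D.idx} {e : R} (he : IsIdem D g h a e) (hf : Fac h (uPt g D a (inr e : DualNumber R))) :
    e * e = e := (he R e).mp hf

variable [Mono g] {A : Type u} [CommRing A] [Algebra R A] [Algebra.Smooth R A] (ε : A →ₐ[R] R) (j : pt g A ⟶ H)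
  [IsOpenImmersion j.left] (hε : pmap g ε ≫ j = (1 : pt g R ⟶ H)) [IsMonHom h] [Mono h]
  (t : D.T ⟶ H) (ht : t ≫ h = D.i)

include hε ht

/-- in a chart the vectors of a root in the subgroup are cut out by an idempotent -/
theorem exists_idem (a : D.idx) : ∃ e : R, IsIdem D g h a e ∧ e * e = e := by
  classical
  obtain ⟨P, hP1, hP2⟩ := exists_proj g ε j hε h
  obtain ⟨φ, hφ, hfac, hd⟩ := hP1 R (lieDev g (uPt g D a (inr 1 : DualNumber R)))
  obtain ⟨⟨c₀, k₀⟩, hck, -⟩ := existsUnique_lieComb g D hφ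
  simp only at hck
  subst hck
  have he : Fac h (uPt g D a (inr (c₀ a) : DualNumber R)) := fac_components g D t ht c₀ k₀ hfac a
  have hiff : IsIdem D g h a (c₀ a) := by
    intro B _ _ c
    constructor
    · intro hc
      have h1 := hP2 B _ (isLie_uPt_inr g D a c) hc
      have h2 : lieComb g D (fun b => c * algebraMap R B (c₀ b)) (fun i => c * algebraMap R B (k₀ i)) =
          lieComb g D (Pi.single a c) (0 : Fin (rk D) → B) := by
        rw [lieComb_single]
        refine eq_of_lieDev (isLie_lieComb g D _ _) (isLie_uPt_inr g D a c) (LinearMap.ext fun x => ?_)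
        rw [lieDev_lieComb, ← LinearMap.congr_fun h1 x, LinearMap.comp_apply, lieDev_uPt]
        have h3 := LinearMap.congr_fun hd x
        rw [lieDev_lieComb, LinearMap.comp_apply, lieDev_uPt] at h3
        simp only [Algebra.algebraMap_self, RingHom.id_apply, _root_.one_mul] at h3
        rw [← h3, map_add, map_sum, map_sum, mul_add, Finset.mul_sum, Finset.mul_sum]
        simp only [map_mul, _root_.mul_assoc]
      simpa using congrFun (lieComb_injective g D h2).1 a
    · intro hc
      have h1 := he.precomp (pmap g ((scl c).comp (dnMap (Algebra.ofId R B))))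
      rw [pmap_uPt] at h1
      convert h1 using 2
      refine TrivSqZeroExt.ext ?_ ?_
      · simp [fst_scl, fst_dnMap]
      · rw [AlgHom.comp_apply, snd_scl, snd_dnMap, TrivSqZeroExt.snd_inr, TrivSqZeroExt.snd_inr, Algebra.ofId_apply, hc]
  exact ⟨c₀ a, hiff, hiff.mul_self D g he⟩

end Groth.Agent.H21Split.TypeR

namespace Groth.Agent.H21Split.TypeR

variable {S : Scheme.{u}} {G H : Over S} [GrpObj G] [GrpObj H] {h : H ⟶ G} [IsAffineHom G.hom] {D : Red.SplitRed G}
variable {R₁ R₂ : Type u} [CommRing R₁] [CommRing R₂] {g₁ : Spec (CommRingCat.of R₁) ⟶ S} {g₂ : Spec (CommRingCat.of R₂) ⟶ S}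

/-- the idempotents of two charts agree at common points -/
theorem idem_mem_iff [IsOpenImmersion g₂] {a : D.idx} {e₁ : R₁} {e₂ : R₂} (h₁ : IsIdem D g₁ h a e₁)
    (hi₁ : e₁ * e₁ = e₁) (h₂ : IsIdem D g₂ h a e₂) (hi₂ : e₂ * e₂ = e₂) {p₁ : PrimeSpectrum R₁}
    {p₂ : PrimeSpectrum R₂} (hp : g₁.base p₁ = g₂.base p₂) : e₁ ∈ p₁.asIdeal ↔ e₂ ∈ p₂.asIdeal := by
  let K : Type u := p₁.asIdeal.ResidueField
  let gK := Spec.map (CommRingCat.ofHom (algebraMap R₁ K)) ≫ g₁
  have hk : ∀ k : PrimeSpectrum K, PrimeSpectrum.comap (algebraMap R₁ K) k = p₁ := fun k => by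
    have hk0 : k.asIdeal = ⊥ := (Ideal.eq_bot_or_top k.asIdeal).resolve_right k.isPrime.ne_top
    apply PrimeSpectrum.ext
    rw [PrimeSpectrum.comap_asIdeal, hk0, ← RingHom.ker_eq_comap_bot]
    exact Ideal.ker_algebraMap_residueField _
  have hr : Set.range gK.base ⊆ Set.range g₂.base := by
    rintro _ ⟨k, rfl⟩
    refine ⟨p₂, ?_⟩
    rw [← hp]
    exact congrArg g₁.base (hk k).symm
  obtain ⟨ψ, hψ⟩ := Spec.map_surjective (IsOpenImmersion.lift g₂ gK hr)
  have hfac : Spec.map ψ ≫ g₂ = gK := by rw [hψ]; exact IsOpenImmersion.lift_fac _ _ _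
  letI : Algebra R₂ K := ψ.hom.toAlgebra
  have hgK : Spec.map (CommRingCat.ofHom (algebraMap R₂ K)) ≫ g₂ = gK := hfac
  haveI : IsScalarTower R₁ K (DualNumber K) := IsScalarTower.of_algebraMap_eq fun r => by
    ext <;> simp [TrivSqZeroExt.algebraMap_eq_inl']
  haveI : IsScalarTower R₂ K (DualNumber K) := IsScalarTower.of_algebraMap_eq fun r => by
    ext <;> simp [TrivSqZeroExt.algebraMap_eq_inl']
  have key : algebraMap R₁ K e₁ = 1 ↔ algebraMap R₂ K e₂ = 1 := by
    have a₁ := (fac_tower (h := h) D g₁ K a (inr 1 : DualNumber K)).trans (h₁ K (1 : K))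
    have a₂ := (fac_tower (h := h) D g₂ K a (inr 1 : DualNumber K)).trans (h₂ K (1 : K))
    rw [_root_.one_mul] at a₁ a₂
    rw [hgK] at a₂
    exact a₁.symm.trans a₂
  have hidem : ∀ x : K, x * x = x → (x = 1 ↔ ¬ x = 0) := fun x hx => by
    refine ⟨fun h h0 => one_ne_zero (h.symm.trans h0), fun h => ?_⟩
    exact mul_left_cancel₀ h (by rw [hx, _root_.mul_one])
  rw [hidem _ (by rw [← map_mul, hi₁]), hidem _ (by rw [← map_mul, hi₂]), not_iff_not] at key
  have k₁ : algebraMap R₁ K e₁ = 0 ↔ e₁ ∈ p₁.asIdeal := by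
    rw [← RingHom.mem_ker, Ideal.ker_algebraMap_residueField]
  have k₂ : algebraMap R₂ K e₂ = 0 ↔ e₂ ∈ p₂.asIdeal := by
    obtain ⟨k⟩ := (inferInstance : Nonempty (PrimeSpectrum K))
    have h3 : PrimeSpectrum.comap (algebraMap R₂ K) k = p₂ := by
      refine g₂.isOpenEmbedding.injective ?_
      have := congrArg (fun f => f.base k) hgK
      exact this.trans ((congrArg g₁.base (hk k)).trans hp)
    have hk0 : k.asIdeal = ⊥ := (Ideal.eq_bot_or_top k.asIdeal).resolve_right k.isPrime.ne_top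
    rw [← h3, PrimeSpectrum.comap_asIdeal, hk0, Ideal.mem_comap, Ideal.mem_bot]
  rwa [← k₁, ← k₂]

variable [Smooth H.hom] [IsMonHom h] [Mono h] (t : D.T ⟶ H) (ht : t ≫ h = D.i)

include ht in
/-- **On a connected base a root is in the Lie algebra of the subgroup everywhere or nowhere.** -/
theorem idem_dichotomy [PreconnectedSpace S] (a : D.idx) :
    (∀ (R : Type u) [CommRing R] (g : Spec (CommRingCat.of R) ⟶ S) [IsOpenImmersion g] (e : R),
        IsIdem D g h a e → e * e = e → e = 1) ∨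
      ∀ (R : Type u) [CommRing R] (g : Spec (CommRingCat.of R) ⟶ S) [IsOpenImmersion g] (e : R),
        IsIdem D g h a e → e * e = e → e = 0 := by
  let U : Set S := {s | ∀ (R : Type u) [CommRing R] (g : Spec (CommRingCat.of R) ⟶ S) [IsOpenImmersion g] (e : R),
      IsIdem D g h a e → e * e = e → ∀ p : PrimeSpectrum R, g.base p = s → e ∉ p.asIdeal}
  have hloc : ∀ s : S, ∃ (R : Type u) (_ : CommRing R) (g : Spec (CommRingCat.of R) ⟶ S) (_ : IsOpenImmersion g)
      (e : R), IsIdem D g h a e ∧ e * e = e ∧ ∃ p : PrimeSpectrum R, g.base p = s := by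
    intro s
    obtain ⟨R, iR, g, hg, ⟨p, hp⟩, A, iA, iAR, iAs, ε, j, hj, hε⟩ := exists_chart (H := H) s
    letI := iR
    letI := iA
    letI := iAR
    haveI := iAs
    haveI := hj
    haveI := hg
    obtain ⟨e, he, hi⟩ := exists_idem D g ε j hε t ht a
    exact ⟨R, iR, g, hg, e, he, hi, p, hp⟩
  have hclopen : IsClopen U := by
    constructor
    · rw [← isOpen_compl_iff, isOpen_iff_forall_mem_open]
      intro s hs
      obtain ⟨R, iR, g, hg, e, he, hi, p, hp⟩ := hloc s
      letI := iR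
      haveI := hg
      refine ⟨g.base '' (PrimeSpectrum.basicOpen (1 - e) : Set (PrimeSpectrum R)), ?_,
        g.isOpenEmbedding.isOpenMap _ (PrimeSpectrum.basicOpen (1 - e)).isOpen, ?_⟩
      · rintro _ ⟨q, hq, rfl⟩ hU
        have h1 : (1 - e) * e = 0 := by rw [sub_mul, _root_.one_mul, hi, sub_self]
        exact (q.isPrime.mem_or_mem (h1 ▸ q.asIdeal.zero_mem)).elim hq (hU R g e he hi q rfl)
      · refine ⟨p, fun hq => hs fun R' _ g' _ e' he' hi' p' hp' hmem => ?_, hp⟩
        have h2 := (idem_mem_iff he' hi' he hi (hp'.trans hp.symm)).mp hmem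
        exact p.isPrime.ne_top ((Ideal.eq_top_iff_one _).mpr (by simpa using p.asIdeal.add_mem hq h2))
    · rw [isOpen_iff_forall_mem_open]
      intro s hs
      obtain ⟨R, iR, g, hg, e, he, hi, p, hp⟩ := hloc s
      letI := iR
      haveI := hg
      refine ⟨g.base '' (PrimeSpectrum.basicOpen e : Set (PrimeSpectrum R)), ?_,
        g.isOpenEmbedding.isOpenMap _ (PrimeSpectrum.basicOpen e).isOpen, ⟨p, hs R g e he hi p hp, hp⟩⟩
      rintro _ ⟨q, hq, rfl⟩ R' _ g' _ e' he' hi' p' hp' hmem
      exact hq ((idem_mem_iff he' hi' he hi hp').mp hmem)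
  rcases isClopen_iff.mp hclopen with hU | hU
  · right
    intro R _ g _ e he hi
    have hnil : ∀ p : PrimeSpectrum R, e ∈ p.asIdeal := fun p => by
      by_contra hp
      have : g.base p ∈ U := fun R' _ g' _ e' he' hi' p' hp' hmem => hp ((idem_mem_iff he' hi' he hi hp').mp hmem)
      rw [hU] at this
      exact this
    obtain ⟨n, hn⟩ : IsNilpotent e := by
      rw [nilpotent_iff_mem_prime]
      exact fun J hJ => hnil ⟨J, hJ⟩
    rcases n with - | n
    · rw [pow_zero] at hn; rw [← _root_.mul_one e, hn, mul_zero]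
    · exact (IsIdempotentElem.pow_succ_eq n hi).symm.trans hn
  · left
    intro R _ g _ e he hi
    have hu : IsUnit e := by
      by_contra hu
      obtain ⟨m, hm, hem⟩ := exists_max_ideal_of_mem_nonunits hu
      exact (hU ▸ Set.mem_univ (g.base ⟨m, hm.isPrime⟩) : g.base ⟨m, hm.isPrime⟩ ∈ U) R g e he hi _ rfl hem
    exact hu.mul_left_cancel (by rw [hi, _root_.mul_one])

end Groth.Agent.H21Split.TypeR

namespace Groth.Agent.H21Split.TypeR

variable {S : Scheme.{u}} {G H : Over S} [GrpObj G] [GrpObj H] {h : H ⟶ G} [IsAffineHom G.hom] {D : Red.SplitRed G}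

/-- a root is no proper multiple of a root -/
theorem root_ne_nsmul [Nonempty S] (D : Red.SplitRed G) (a b : D.idx) {m : ℕ} (hm : 2 ≤ m) :
    D.P.root b ≠ m • D.P.root a := fun hb => by
  haveI := H21Red0.isReduced_of_nonempty D
  haveI := D.freeM
  haveI : IsAddTorsionFree D.M := .of_isTorsionFree ℤ D.M
  have hli : ¬ LinearIndependent ℤ ![D.P.root b, D.P.root a] := by
    rw [LinearIndependent.pair_iff]
    intro hh
    have := (hh 1 (-(m : ℤ)) (by rw [hb, one_smul, neg_smul, natCast_zsmul, add_neg_cancel])).1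
    exact one_ne_zero this
  have h0 : ∀ k : ℤ, k • D.P.root a = 0 → k = 0 := fun k hk =>
    (smul_eq_zero.mp hk).resolve_right (D.P.ne_zero a)
  rcases RootPairing.IsReduced.eq_or_eq_neg (P := D.P) b a hli with e | e
  · have := h0 ((m : ℤ) - 1) (by rw [sub_smul, natCast_zsmul, ← hb, e, one_smul, sub_self])
    omega
  · have := h0 ((m : ℤ) + 1) (by rw [add_smul, natCast_zsmul, ← hb, e, one_smul, neg_add_cancel])
    omega

variable [Smooth H.hom] [IsMonHom h] [IsImmersion h.left] (t : D.T ⟶ H) (ht : t ≫ h = D.i) [ConnectedSpace S]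

include ht

/-- **The Lie algebra of the subgroup has the components of its roots.** -/
theorem idem_eq {R : Type u} [CommRing R] (g : Spec (CommRingCat.of R) ⟶ S) [IsOpenImmersion g] {a : D.idx} {e : R}
    (he : IsIdem D g h a e) (hi : e * e = e) :
    ((∃ v : Red.Ga S ⟶ H, v ≫ h = D.u a) → e = 1) ∧ ((¬∃ v : Red.Ga S ⟶ H, v ≫ h = D.u a) → e = 0) := by
  haveI : Mono h := (Over.forget S).mono_of_mono_map (inferInstanceAs (Mono h.left))
  refine ⟨fun ⟨v, hv⟩ => ?_, fun hno => ?_⟩
  · have := (he R (1 : R)).mp ⟨ga g (inr 1 : DualNumber R) ≫ v, by rw [Category.assoc, hv]; rfl⟩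
    simpa using this
  · rcases idem_dichotomy (h := h) t ht a with hall | hnone
    · refine absurd (exists_factor D a t ht (fun b m hm => root_ne_nsmul D a b hm)
        fun R' _ g' _ A _ _ _ ε j _ hε => ?_) hno
      obtain ⟨e', he', hi'⟩ := exists_idem D g' ε j hε t ht a
      exact (he' R' (1 : R')).mpr (by simp [hall R' g' e' he' hi'])
    · exact hnone R g e he hi

variable (R' : Set D.idx) (hR' : ∀ a : D.idx, (∃ v : Red.Ga S ⟶ H, v ≫ h = D.u a) ↔ a ∈ R')
variable {R : Type u} [CommRing R] (g : Spec (CommRingCat.of R) ⟶ S) [IsOpenImmersion g]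
variable {A : Type u} [CommRing A] [Algebra R A] [Algebra.Smooth R A] (ε : A →ₐ[R] R) (j : pt g A ⟶ H)
  [IsOpenImmersion j.left] (hε : pmap g ε ≫ j = (1 : pt g R ⟶ H))

include hR' hε

/-- a root vector in the subgroup -/
theorem fac_uPt_inr_iff (a : D.idx) {B : Type u} [CommRing B] [Algebra R B] (c : B) :
    Fac h (uPt g D a (inr c : DualNumber B)) ↔ (a ∉ R' → c = 0) := by
  haveI : Mono h := (Over.forget S).mono_of_mono_map (inferInstanceAs (Mono h.left))
  obtain ⟨e, he, hi⟩ := exists_idem D g ε j hε t ht a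
  rw [he B c]
  by_cases ha : a ∈ R'
  · simp [(idem_eq t ht g he hi).1 ((hR' a).mpr ha), ha]
  · rw [(idem_eq t ht g he hi).2 fun hv => ha ((hR' a).mp hv), map_zero, mul_zero]
    exact ⟨fun h0 _ => h0.symm, fun h0 => (h0 ha).symm⟩

/-- **The Lie vectors of the subgroup.** -/
theorem fac_lieComb_iff {B : Type u} [CommRing B] [Algebra R B] (c : D.idx → B) (k : Fin (rk D) → B) :
    Fac h (lieComb g D c k) ↔ ∀ a, a ∉ R' → c a = 0 := by
  haveI : Mono h := (Over.forget S).mono_of_mono_map (inferInstanceAs (Mono h.left))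
  refine ⟨fun hf a => (fac_uPt_inr_iff t ht R' hR' g ε j hε a (c a)).mp (fac_components g D t ht c k hf a), fun hc => ?_⟩
  exact (Fac.list_prod _ (fun a => (fac_uPt_inr_iff t ht R' hR' g ε j hε a (c a)).mpr (hc a)) _).mul
    (fac_tPt g D t ht _)

end Groth.Agent.H21Split.TypeR
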