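import Groth.Agent.H21Split.TypeR.SymPart
import Groth.Agent.H21Split.R2.ChevRoots

/-!
Simple roots of a symmetric set of roots relative to a regular functional.
-/

namespace Groth.Agent.H21Split.TypeR

open RootPairing
open Groth.Agent.H21Split.R2 (pairing_prod_lt_four pairing_prod_nonneg)

set_option linter.style.haveILetI false
set_option linter.unusedSectionVars false

variable {ι M N : Type} [Finite ι] [AddCommGroup M] [AddCommGroup N] (P : RootPairing ι ℤ M N) [P.IsReduced]
  (R' : Set ι) (f : M →+ ℤ)

/-- the roots of a set which are positive for a functional -/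
def posP : Set ι := {c | c ∈ R' ∧ 0 < f (P.root c)}

/-- a positive root whose reflection preserves the other positive roots -/
def IsSimp (a : ι) : Prop :=
  a ∈ posP P R' f ∧ ∀ c ∈ posP P R' f, c ≠ a → 0 < f (P.root (P.reflectionPerm a c))

theorem pos_indep {a b : ι} (ha : a ∈ posP P R' f) (hb : b ∈ posP P R' f) (hne : a ≠ b) :
    LinearIndependent ℤ ![P.root a, P.root b] := by
  by_contra hn
  rcases RootPairing.IsReduced.eq_or_eq_neg (P := P) a b hn with e | e
  · exact hne (P.root.injective e)
  · have h := congrArg f e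
    rw [map_neg] at h
    have := ha.2
    have := hb.2
    omega

variable {R'} (h : RootsLike P R') (hsymm : ∀ a ∈ R', P.reflectionPerm a a ∈ R') (hf : ∀ c ∈ R', f (P.root c) ≠ 0)

include h hsymm hf

/-- a root which is not simple is a sum of two positive roots -/
theorem exists_split {r : ι} (hr : r ∈ posP P R' f) (hn : ¬ IsSimp P R' f r) :
    ∃ p ∈ posP P R' f, ∃ q ∈ posP P R' f, P.root r = P.root p + P.root q := by
  haveI : Module.IsReflexive ℤ M := .of_isPerfPair P.toLinearMap
  haveI : IsAddTorsionFree M := .of_isTorsionFree ℤ M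
  obtain ⟨c, hc, hne, hneg⟩ : ∃ c ∈ posP P R' f, c ≠ r ∧ ¬ 0 < f (P.root (P.reflectionPerm r c)) := by
    by_contra hh
    push Not at hh
    exact hn ⟨hr, hh⟩
  have hsR : ∀ {a b : ι}, a ∈ R' → b ∈ R' → P.reflectionPerm a b ∈ R' := fun {a b} ha hb =>
    h.refl a b ha (hsymm a ha) hb
  set m := P.pairing c r with hm
  let d := P.reflectionPerm (P.reflectionPerm r c) (P.reflectionPerm r c)
  have hd : P.root d = m • P.root r - P.root c := by rw [root_neg, root_refl, neg_sub]
  have hdR : d ∈ R' := hsymm _ (hsR hr.1 hc.1)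
  have hdp : d ∈ posP P R' f := ⟨hdR, by
    have h1 := hf _ (hsR hr.1 hc.1)
    rw [root_neg, map_neg]
    omega⟩
  have hfd : f (P.root d) = m * f (P.root r) - f (P.root c) := by rw [hd, map_sub, map_zsmul, smul_eq_mul]
  have hm1 : 1 ≤ m := by
    have := hdp.2
    have := hc.2
    have := hr.2
    by_contra hm0
    have : m * f (P.root r) ≤ 0 := mul_nonpos_of_nonpos_of_nonneg (by omega) (by omega)
    omega
  rcases eq_or_ne m 1 with h1 | h1
  · exact ⟨c, hc, d, hdp, by rw [hd, h1, one_zsmul, add_sub_cancel]⟩
  have hdne : d ≠ r := fun e => by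
    have : P.pairing d r = 2 := by rw [e, P.pairing_same]
    have h2 : P.pairing d r = m * 2 - m := by
      rw [← P.root_coroot'_eq_pairing, hd, map_sub, map_zsmul, smul_eq_mul, P.root_coroot'_eq_pairing,
        P.root_coroot'_eq_pairing, P.pairing_same, hm]
    have h3 := congrArg P.root e
    rw [hd, show m = 2 by omega, two_zsmul, sub_eq_iff_eq_add] at h3
    exact hne (P.root.injective (add_left_cancel h3.symm))
  -- both strings from `r` step down by one
  have hone : ∀ x ∈ posP P R' f, x ≠ r → P.pairing x r = m → P.pairing r x = 1 := fun x hx hxr hxm => by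
    have h4 := pairing_prod_lt_four P (pos_indep P R' f hx hr hxr)
    have h5 := pairing_prod_nonneg P x r
    have hne0 : P.pairing r x ≠ 0 := fun h0 => by
      rw [P.pairing_eq_zero_iff'] at h0
      omega
    rw [hxm] at h4 h5
    rcases lt_or_gt_of_ne hne0 with hlt | hgt
    · nlinarith
    · by_contra hne1
      have : 2 ≤ P.pairing r x := by omega
      nlinarith [show 2 ≤ m by omega]
  have hcr : P.pairing r c = 1 := hone c hc hne rfl
  have hdm : P.pairing d r = m := by
    rw [← P.root_coroot'_eq_pairing, hd, map_sub, map_zsmul, smul_eq_mul, P.root_coroot'_eq_pairing,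
      P.root_coroot'_eq_pairing, P.pairing_same, ← hm]
    ring
  have hdr : P.pairing r d = 1 := hone d hdp hdne hdm
  have split : ∀ x ∈ posP P R' f, P.pairing r x = 1 → 0 < f (P.root r) - f (P.root x) →
      ∃ p ∈ posP P R' f, ∃ q ∈ posP P R' f, P.root r = P.root p + P.root q := fun x hx hx1 hlt => by
    refine ⟨x, hx, P.reflectionPerm x r, ⟨hsR hx.1 hr.1, ?_⟩, ?_⟩
    · rw [root_refl, hx1, one_zsmul, map_sub]; exact hlt
    · rw [root_refl, hx1, one_zsmul, add_sub_cancel]
  by_cases h2 : 0 < f (P.root r) - f (P.root c)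
  · exact split c hc hcr h2
  by_cases h3 : 0 < f (P.root r) - f (P.root d)
  · exact split d hdp hdr h3
  -- the remaining case is a string of length three
  have hm3 : m = 3 := by
    have h4 := pairing_prod_lt_four P (pos_indep P R' f hc hr hne)
    rw [← hm, hcr] at h4
    have h5 : m ≠ 2 := fun e2 => by
      have hA := hf _ (hsR hc.1 hr.1)
      rw [root_refl, hcr, one_zsmul, map_sub] at hA
      rw [e2] at hfd
      omega
    omega
  have neg : ∀ x ∈ posP P R' f, P.pairing r x = 1 → ¬ 0 < f (P.root r) - f (P.root x) →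
      ∃ p ∈ posP P R' f, P.root p = P.root x - P.root r := fun x hx hx1 hle => by
    refine ⟨_, ⟨hsymm _ (hsR hx.1 hr.1), ?_⟩, by rw [root_neg, root_refl, hx1, one_zsmul, neg_sub]⟩
    have hA := hf _ (hsR hx.1 hr.1)
    rw [root_refl, hx1, one_zsmul, map_sub] at hA
    rw [root_neg, root_refl, hx1, one_zsmul, map_neg, map_sub]
    omega
  obtain ⟨p, hp, hp'⟩ := neg c hc hcr h2
  obtain ⟨q, hq, hq'⟩ := neg d hdp hdr h3
  refine ⟨p, hp, q, hq, ?_⟩
  rw [hp', hq', hd, hm3]
  module

/-- positive roots are sums of simple ones -/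
theorem mem_closure_simp {r : ι} (hr : r ∈ posP P R' f) :
    P.root r ∈ AddSubmonoid.closure (P.root '' {a | IsSimp P R' f a}) := by
  obtain ⟨n, hn⟩ : ∃ n : ℕ, (f (P.root r)).toNat = n := ⟨_, rfl⟩
  induction n using Nat.strong_induction_on generalizing r with
  | _ n ih =>
    by_cases hs : IsSimp P R' f r
    · exact AddSubmonoid.subset_closure ⟨r, hs, rfl⟩
    obtain ⟨p, hp, q, hq, e⟩ := exists_split P f h hsymm hf hr hs
    have e' := congrArg f e
    rw [map_add] at e'
    have := hp.2
    have := hq.2
    rw [e]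
    exact add_mem (ih _ (by omega) hp rfl) (ih _ (by omega) hq rfl)

/-- every positive root pairs positively with a simple one -/
theorem exists_simp_pairing {r : ι} (hr : r ∈ posP P R' f) : ∃ a, IsSimp P R' f a ∧ 0 < P.pairing r a := by
  by_contra hn
  push Not at hn
  have key : ∀ x ∈ AddSubmonoid.closure (P.root '' {a | IsSimp P R' f a}), P.coroot' r x ≤ 0 := by
    intro x hx
    haveI : Module.IsReflexive ℤ M := .of_isPerfPair P.toLinearMap
    haveI : IsAddTorsionFree M := .of_isTorsionFree ℤ M
    induction hx using AddSubmonoid.closure_induction with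
    | mem x hx =>
      obtain ⟨a, ha, rfl⟩ := hx
      rw [P.root_coroot'_eq_pairing]
      by_contra hpos
      have h1 := hn a ha
      have h2 := pairing_prod_nonneg P a r
      rcases lt_or_eq_of_le h1 with h3 | h3
      · nlinarith
      · rw [P.pairing_eq_zero_iff'] at h3
        omega
    | zero => simp
    | add x y _ _ hx hy => rw [map_add]; omega
  have := key _ (mem_closure_simp P f h hsymm hf hr)
  rw [P.root_coroot'_eq_pairing, P.pairing_same] at this
  omega

end Groth.Agent.H21Split.TypeR
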