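import Groth.Agent.H21Split.TypeR.CellDim
import Groth.Agent.H21Split.TypeR.Closed
import Groth.Agent.H21Split.TypeR.NotRed
import Groth.Agent.H21Split.Bru.Real

/-!
The splitting of a subgroup of type (R) with symmetric roots.
-/

open CategoryTheory MonoidalCategory CartesianMonoidalCategory MonObj GrpObj AlgebraicGeometry
open CategoryTheory.Limits

universe u

set_option autoImplicit false
set_option backward.isDefEq.respectTransparency false
set_option linter.style.haveILetI false
set_option linter.unusedSectionVars false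
set_option synthInstance.maxHeartbeats 400000
set_option maxHeartbeats 1000000

noncomputable section

namespace Groth.Agent.H21Split.TypeR

variable {S : Scheme.{u}} {G H : Over S} [GrpObj G] [GrpObj H] (D : Red.SplitRed G) {h : H ⟶ G}
  [Smooth H.hom] [IsMonHom h] [IsImmersion h.left] [ConnectedSpace S] (t : D.T ⟶ H) (ht : t ≫ h = D.i) (R' : Set D.idx)
  (hR' : ∀ a : D.idx, (∃ v : Red.Ga S ⟶ H, v ≫ h = D.u a) ↔ a ∈ R')
  (hsymm : ∀ a ∈ R', D.P.reflectionPerm a a ∈ R')

include ht hR' hsymm in
theorem refl_mem_iff {a : D.idx} (ha : a ∈ R') (x : D.idx) : x ∈ R' ↔ D.P.reflectionPerm a x ∈ R' := by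
  refine ⟨refl_mem t ht R' hR' a x ha (hsymm a ha), fun hx => ?_⟩
  have := refl_mem t ht R' hR' a _ ha (hsymm a ha) hx
  rwa [D.P.reflectionPerm_self a x] at this

/-- the root datum of the roots of the subgroup -/
def subPairing (hperm : ∀ a : ↥R', ∀ x, x ∈ R' ↔ D.P.reflectionPerm a x ∈ R') :
    RootPairing ↥R' ℤ D.M (Module.Dual ℤ D.M) where
  toLinearMap := D.P.toLinearMap
  isPerfPair_toLinearMap := D.P.isPerfPair_toLinearMap
  root := (Function.Embedding.subtype _).trans D.P.root
  coroot := (Function.Embedding.subtype _).trans D.P.coroot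
  root_coroot_two a := D.P.root_coroot_two a
  reflectionPerm a := (D.P.reflectionPerm a).subtypeEquiv (hperm a)
  reflectionPerm_root a x := D.P.reflectionPerm_root a x
  reflectionPerm_coroot a x := D.P.reflectionPerm_coroot a x

theorem subPairing_reflection (hperm : ∀ a : ↥R', ∀ x, x ∈ R' ↔ D.P.reflectionPerm a x ∈ R') (a : ↥R') :
    (subPairing D R' hperm).reflection a = D.P.reflection a :=
  LinearEquiv.ext fun _ => rfl

include ht hR' hsymm in
/-- **The splitting.** -/
theorem exists_subSplit [QuasiCompact H.hom] (hconn : RedSub.HasConnectedFibres H) :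
    ∃ (D' : Red.SplitRed H) (e : D'.T ≅ D.T) (eidx : D'.idx ≃ ↥R') (em : D'.M ≃+ D.M),
      D'.i = e.hom ≫ t ∧
      e.hom ≫ D.split.hom.hom.hom = D'.split.hom.hom.hom ≫ Red.DSmap S em.symm.toAddMonoidHom ∧
      (∀ a' : D'.idx, em (D'.P.root a') = D.P.root (eidx a' : D.idx)) ∧
      (∀ a' : D'.idx, D'.u a' ≫ h = D.u (eidx a' : D.idx)) := by
  classical
  haveI := isAffineHom_hom D
  haveI : Finite D.idx := Finite.of_fintype _
  haveI : Nonempty S := inferInstance
  haveI := H21Red0.isReduced_of_nonempty D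
  haveI : Mono h := (Over.forget S).mono_of_mono_map (inferInstanceAs (Mono h.left))
  haveI : IsMonHom D.i := D.maximalTorus.1
  haveI : Mono D.i := D.maximalTorus.2.1
  haveI : IsMonHom t := by
    haveI : IsMonHom (t ≫ h) := by rw [ht]; infer_instance
    exact H21Diag.isMonHom_of_comp_mono t h
  haveI : Mono t := by
    haveI : Mono (t ≫ h) := by rw [ht]; infer_instance
    exact mono_of_mono t h
  haveI := isClosedImmersion_of_symm t ht R' hR' hsymm hconn
  have hperm : ∀ a : ↥R', ∀ x, x ∈ R' ↔ D.P.reflectionPerm a x ∈ R' := fun a x =>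
    refl_mem_iff D t ht R' hR' hsymm a.2 x
  choose v hv using fun a : ↥R' => (hR' a).mpr a.2
  let P' := subPairing D R' hperm
  obtain ⟨b⟩ := H21Red0.nonempty_base D
  obtain ⟨n, en, hn⟩ := exists_enumerates D (R' ∩ RedSub.negRoots D.P b)
  obtain ⟨m, ep, hp⟩ := exists_enumerates D (R' ∩ RedSub.posRoots D.P b)
  obtain ⟨c, -, hc⟩ := exists_cell_openImmersion D t ht R' hR' b en ep hn hp
  haveI := hc
  haveI : Fintype ↥R' := Fintype.ofFinite _
  have hcard : n + m = Fintype.card ↥R' := by
    let φ : Fin n ⊕ Fin m → ↥R' := Sum.elim (fun k => ⟨en k, (hn.2.subset ⟨k, rfl⟩).1⟩) fun k => ⟨ep k, (hp.2.subset ⟨k, rfl⟩).1⟩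
    have hφ : Function.Bijective φ := by
      refine ⟨?_, fun a => ?_⟩
      · rintro (i | i) (j | j) hij <;> simp only [φ, Sum.elim_inl, Sum.elim_inr, Subtype.mk.injEq] at hij
        · exact congrArg Sum.inl (hn.1 hij)
        · exact absurd (hij ▸ (hn.2.subset ⟨i, rfl⟩).2) (notMem_neg_of_mem_pos b (hp.2.subset ⟨j, rfl⟩).2)
        · exact absurd (hij.symm ▸ (hn.2.subset ⟨j, rfl⟩).2) (notMem_neg_of_mem_pos b (hp.2.subset ⟨i, rfl⟩).2)
        · exact congrArg Sum.inr (hp.1 hij)
      · rcases mem_pos_or_neg b a.1 with hb | hb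
        · obtain ⟨k, hk⟩ := hp.2.symm.subset ⟨a.2, hb⟩
          exact ⟨Sum.inr k, Subtype.ext hk⟩
        · obtain ⟨k, hk⟩ := hn.2.symm.subset ⟨a.2, hb⟩
          exact ⟨Sum.inl k, Subtype.ext hk⟩
    simpa using Fintype.card_of_bijective hφ
  let D' : Red.SplitRed H :=
    { T := D.T
      i := t
      M := D.M
      idx := ↥R'
      P := P'
      pairing_eq := D.pairing_eq
      u := v
      reductive := ⟨isAffineHom_of_symm t ht R' hR' hsymm hconn, inferInstance,
        fun s => isReductiveOver_of_symm D t ht R' hR' hconn hsymm s⟩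
      maximalTorus := ⟨inferInstance, inferInstance, D.maximalTorus.2.2.1, fun s T' _ j _ _ f hT' hf => by
        haveI : Mono ((Over.pullback (Red.geomPt s)).map h) := H21Red0.mono_bcMap _ h
        haveI : IsMonHom ((Over.pullback (Red.geomPt s)).map h) := H21Diag.isMonHom_bcMap _ h
        refine D.maximalTorus.2.2.2 s T' (j ≫ (Over.pullback (Red.geomPt s)).map h) f hT' ?_
        rw [← Category.assoc, hf, ← Functor.map_comp, ht]⟩
      split := D.split
      rootHom := fun a => by
        obtain ⟨hu1, hu2, hu3⟩ := D.rootHom a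
        haveI : IsMonHom (v a) := by
          haveI : IsMonHom (v a ≫ h) := by rw [hv a]; exact hu1
          exact H21Diag.isMonHom_of_comp_mono (v a) h
        refine ⟨inferInstance, ?_, fun X τ x => ?_⟩
        · haveI : IsClosedImmersion ((v a).left ≫ h.left) := by rw [← Over.comp_left, hv a]; exact hu2
          exact IsClosedImmersion.of_comp (v a).left h.left
        · obtain ⟨y, hy, hy2⟩ := hu3 X τ x
          refine ⟨y, ?_, hy2⟩
          rw [← cancel_mono h]
          simp only [MonObj.mul_comp, GrpObj.inv_comp, Category.assoc, ht, hv a]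
          exact hy
      refl := fun a => by
        obtain ⟨p, q, r, hpqr⟩ := exists_nS D (a : D.idx)
        obtain ⟨v', hv'⟩ := (hR' _).mpr (hsymm a a.2)
        refine ⟨(p ≫ v a) * (q ≫ v') * (r ≫ v a), fun X τ => ?_⟩
        have h1 := acts_reflection_iff.mp (acts_nS D (a : D.idx)) X τ
        rw [← cancel_mono h]
        simp only [MonObj.mul_comp, GrpObj.inv_comp, Category.assoc, ht, hv a, hv', MonObj.comp_mul]
        rw [hpqr] at h1
        simp only [MonObj.comp_mul] at h1
        rw [subPairing_reflection]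
        exact h1
      dim_fibre := fun s => by
        haveI := hc
        refine (dim_of_cell D (Red.geomPt s) hconn c).trans ?_
        rw [dim_torusRing D s, hcard]
        exact (Nat.cast_add _ _).symm }
  refine ⟨D', Iso.refl _, Equiv.refl _, AddEquiv.refl _, (Category.id_comp t).symm, ?_, fun a => rfl, hv⟩
  change 𝟙 D.T ≫ D.split.hom.hom.hom = D.split.hom.hom.hom ≫ Red.DSmap S (AddMonoidHom.id D.M)
  rw [Category.id_comp, H21Red0.DSmap_id', Category.comp_id]

end Groth.Agent.H21Split.TypeR
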