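import Groth.Agent.H21Split.Red0.GeomSplit
import Groth.Agent.H21Split.TypeR.SubScheme
import Groth.Agent.H21Rank1.Coord
import Groth.Agent.H21Mono.ClosedImmersion

/-!
Subgroups without subtori and the points of a split torus.
-/

open CategoryTheory MonoidalCategory CartesianMonoidalCategory MonObj GrpObj AlgebraicGeometry
open CategoryTheory.Limits
open Groth.Agent.H27Witt H20Mu H20Conj

universe u

set_option autoImplicit false
set_option backward.isDefEq.respectTransparency false
set_option linter.style.haveILetI false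
set_option linter.unusedSectionVars false
set_option synthInstance.maxHeartbeats 400000
set_option maxHeartbeats 1000000

noncomputable section

namespace Groth.Agent.H21Split.TypeR

variable {K : Type u} [Field K]

/-- the point of the base as a test object -/
def e₀ : pt (𝟙 (Sk K)) K ≅ 𝟙_ (Over (Sk K)) :=
  Over.isoMk (Iso.refl _) (by
    change 𝟙 _ ≫ 𝟙 _ = Spec.map (CommRingCat.ofHom (algebraMap K K)) ≫ 𝟙 _
    rw [show CommRingCat.ofHom (algebraMap K K) = 𝟙 _ from rfl, Spec.map_id])

theorem val_eq {X : Over (Sk K)} (x : 𝟙_ (Over (Sk K)) ⟶ X) (F : Fn X) :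
    val x F = (Scheme.ΓSpecIso (CommRingCat.of K)).hom ((e₀.hom ≫ x).left.appTop F) := by
  have h : (e₀.hom ≫ x).left = x.left := Category.id_comp _
  rw [h]
  rfl

theorem val_mul_gmFn {X : Over (Sk K)} (x : 𝟙_ (Over (Sk K)) ⟶ X) (w : X ⟶ Red.Gm (Sk K)) :
    val x (Red.gmFn w) = gmv (𝟙 (Sk K)) ((e₀.hom ≫ x) ≫ w) := by
  rw [val_eq, gmv, H21Rank1.gmFn_comp]

theorem val_pmap {A : Type u} [CommRing A] [Algebra K A] (f : A →ₐ[K] K) (F : Fn (pt (𝟙 (Sk K)) A)) :
    val (e₀.inv ≫ pmap (𝟙 (Sk K)) f) F = f ((Scheme.ΓSpecIso (CommRingCat.of A)).hom F) := by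
  rw [val_eq, Iso.hom_inv_id_assoc, pmap_left]
  exact ConcreteCategory.congr_hom (Scheme.ΓSpecIso_naturality (CommRingCat.ofHom f.toRingHom)) F

variable [IsAlgClosed K]

/-- membership of a rational point in a closed subscheme is detected by the functions vanishing on it -/
theorem exists_lift_of_vanish {X U : Over (Sk K)} [IsAffine X.left] (u : U ⟶ X) [IsClosedImmersion u.left]
    (x : 𝟙_ (Over (Sk K)) ⟶ X) (h : ∀ a, Fn.pull u a = 0 → val x a = 0) : ∃ y, y ≫ u = x := by
  haveI : IsAffine U.left := isAffine_of_isAffineHom u.left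
  have hs : Function.Surjective (Fn.pull u) := IsClosedImmersion.isAffine_surjective_of_isAffine u.left |>.2
  let φ : Fn U →ₐ[K] K := AlgHom.liftOfSurjective (Fn.pull u) hs (val x) fun a ha => h a ha
  obtain ⟨y, hy⟩ := Fn.exists_point φ
  refine ⟨y, Fn.point_ext (AlgHom.ext fun a => ?_)⟩
  change val (y ≫ u) a = val x a
  rw [← val_pull]
  exact (AlgHom.congr_fun hy _).trans (AlgHom.liftOfSurjective_apply _ _ _ _ a)

variable {G U : Over (Sk K)} [GrpObj G] [GrpObj U] (D : Red.SplitRed G) (u : U ⟶ G) [IsMonHom u]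
  [IsClosedImmersion u.left]

/-- **A subgroup without subtori contains the points of no nontrivial split subtorus.** -/
theorem subsingleton_of_points (hns : Red.HasNoSubtorus K U) {L : Type} [AddCommGroup L] [Module.Free ℤ L]
    [Module.Finite ℤ L] (ψ : D.M →+ L) (hψ : Function.Surjective ψ)
    (h : ∀ χ : Multiplicative L →* K, ∃ y, y ≫ u =
      e₀.inv ≫ tPt (𝟙 (Sk K)) D (χ.comp (AddMonoidHom.toMultiplicative ψ))) :
    Subsingleton L := by
  haveI := isAffineHom_hom D
  haveI : IsAffine G.left := isAffine_of_isAffineHom G.hom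
  haveI : AddGroup.FG L := Module.Finite.iff_addGroup_fg.mp inferInstance
  haveI := H21Diag.isAffineHom_DS (Sk K) L
  haveI : IsAffine (Red.DS (Sk K) L).left := isAffine_of_isAffineHom (Red.DS (Sk K) L).hom
  haveI : Smooth (Red.DS (Sk K) L).hom := smooth_DS L
  let T₁ := Red.DS (Sk K) L
  haveI : IsMonHom D.i := D.maximalTorus.1
  haveI : Mono (Red.DSmap (Sk K) ψ) := Groth.Agent.H18Torsor.DiagExact.mono_DSmap _ hψ
  haveI : IsMonHom (Red.DSmap (Sk K) ψ) := H21Diag.isMonHom_DSmap _ ψ
  haveI : Mono D.i := D.maximalTorus.2.1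
  let θ : T₁ ⟶ G := Red.DSmap (Sk K) ψ ≫ D.split.inv.hom.hom ≫ D.i
  haveI : Mono D.split.inv.hom.hom := ⟨fun a b hab => by
    have := congrArg (· ≫ D.split.hom.hom.hom) hab
    simpa only [Category.assoc, split_inv_hom, Category.comp_id] using this⟩
  haveI : IsAffine U.left := isAffine_of_isAffineHom u.left
  have hs : Function.Surjective (Fn.pull u) := IsClosedImmersion.isAffine_surjective_of_isAffine u.left |>.2
  have hP : ∀ a, Fn.pull u a = 0 → Fn.pull θ a = 0 := fun a ha => Fn.ext_points fun z => by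
    change val z (Fn.pull θ a) = val z 0
    rw [val_pull, map_zero]
    obtain ⟨χ, hχ⟩ := ds_surjective (𝟙 (Sk K)) (e₀.hom ≫ z)
    obtain ⟨y, hy⟩ := h χ
    have e : z ≫ θ = y ≫ u := by
      rw [hy, tPt, ← ds_DSmap, hχ]
      simp only [θ, Category.assoc, Iso.inv_hom_id_assoc]
    rw [e, ← val_pull, ha, map_zero]
  obtain ⟨j, hj⟩ := Fn.exists_hom (X := T₁) (Y := U) (AlgHom.liftOfSurjective (Fn.pull u) hs (Fn.pull θ) hP)
  have hju : j ≫ u = θ := Fn.hom_ext (by
    rw [Fn.pull_comp, hj]
    exact AlgHom.liftOfSurjective_comp _ _ _ _)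
  haveI : Mono u := Over.mono_of_mono_left _
  haveI : Mono j := by
    haveI : Mono (j ≫ u) := by rw [hju]; infer_instance
    exact mono_of_mono j u
  haveI : IsMonHom D.split.inv.hom.hom := inferInstance
  haveI : IsMonHom j := by
    haveI : IsMonHom (j ≫ u) := by rw [hju]; infer_instance
    exact H21Diag.isMonHom_of_comp_mono j u
  have htriv : IsIso T₁.hom := hns T₁ j (H21Red0.isTorus_split (Iso.refl _))
  have hall : ∀ z z' : 𝟙_ (Over (Sk K)) ⟶ T₁, z = z' := fun z z' => by
    refine Over.OverMorphism.ext ((cancel_mono T₁.hom).mp ?_)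
    rw [Over.w z, Over.w z']
  rw [subsingleton_iff_forall_eq 0]
  intro l
  by_contra hl
  classical
  let b := Module.Free.chooseBasis ℤ L
  obtain ⟨i, hi⟩ : ∃ i, b.repr l i ≠ 0 := by
    by_contra hn
    push Not at hn
    exact hl (b.repr.map_eq_zero_iff.mp (Finsupp.ext hn))
  obtain ⟨w, hw⟩ : ∃ w : Kˣ, w ^ (b.repr l i) ≠ 1 := by
    obtain ⟨x, hx⟩ := Infinite.exists_notMem_finset (insert 0 ((Polynomial.X ^ (b.repr l i).natAbs - 1 : Polynomial K).roots.toFinset))
    simp only [Finset.mem_insert, Multiset.mem_toFinset, not_or] at hx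
    refine ⟨Units.mk0 x hx.1, fun h1 => hx.2 ?_⟩
    have h2 : (Units.mk0 x hx.1) ^ (b.repr l i).natAbs = 1 := pow_natAbs_eq_one.mpr h1
    refine Polynomial.mem_roots'.mpr ⟨?_, by simpa [sub_eq_zero] using congrArg Units.val h2⟩
    simpa using Polynomial.X_pow_sub_C_ne_zero (Int.natAbs_pos.mpr hi) (1 : K)
  let χ : Multiplicative L →* K := (Units.coeHom K).comp
    ((zpowersHom Kˣ w).comp (AddMonoidHom.toMultiplicative (b.coord i).toAddMonoidHom))
  have h1 := hall (e₀.inv ≫ ds (𝟙 (Sk K)) χ) (e₀.inv ≫ ds (𝟙 (Sk K)) 1)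
  have h2 := DFunLike.congr_fun (ds_injective _ ((cancel_epi e₀.inv).mp h1)) (Multiplicative.ofAdd l)
  exact hw (Units.ext (by simpa [χ] using h2))

/-- **A smooth connected subgroup of a split torus without subtori has trivial points.** -/
theorem points_eq_one_of_le_torus [Smooth U.hom] [ConnectedSpace U.left] (hns : Red.HasNoSubtorus K U)
    (hT : ∀ y : 𝟙_ (Over (Sk K)) ⟶ U, ∃ χ, y ≫ u = e₀.inv ≫ tPt (𝟙 (Sk K)) D χ) :
    ∀ y : 𝟙_ (Over (Sk K)) ⟶ U, y ≫ u = 1 := by
  classical
  haveI := isAffineHom_hom D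
  haveI : IsAffine G.left := isAffine_of_isAffineHom G.hom
  haveI := D.finiteM
  haveI := D.freeM
  haveI : IsAffine U.left := isAffine_of_isAffineHom u.left
  haveI := Fn.isDomain U
  haveI : Mono D.i := D.maximalTorus.2.1
  haveI : IsMonHom D.i := D.maximalTorus.1
  haveI : Mono D.split.inv.hom.hom := ⟨fun a b hab => by
    have := congrArg (· ≫ D.split.hom.hom.hom) hab
    simpa only [Category.assoc, split_inv_hom, Category.comp_id] using this⟩
  let g := 𝟙 (Sk K)
  have hTuniv : ∃ uT : U ⟶ D.T, uT ≫ D.i = u := by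
    haveI : IsClosedImmersion D.i.left := by
      haveI := smooth_hom D
      haveI : AddGroup.FG D.M := Module.Finite.iff_addGroup_fg.mp D.finiteM
      haveI : Mono (D.split.inv.hom.hom ≫ D.i) := inferInstance
      haveI := H21Mono.isClosedImmersion_of_mono_DS (D.split.inv.hom.hom ≫ D.i)
      rw [show D.i = D.split.hom.hom.hom ≫ (D.split.inv.hom.hom ≫ D.i) by rw [reassoc_of% split_hom_inv D]]
      haveI : IsIso D.split.hom.hom.hom.left :=
        ⟨D.split.inv.hom.hom.left, by rw [← Over.comp_left, split_hom_inv, Over.id_left],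
          by rw [← Over.comp_left, split_inv_hom, Over.id_left]⟩
      rw [Over.comp_left]
      infer_instance
    haveI : IsAffine D.T.left := isAffine_of_isAffineHom D.i.left
    have hs : Function.Surjective (Fn.pull D.i) := IsClosedImmersion.isAffine_surjective_of_isAffine D.i.left |>.2
    have hP : ∀ a, Fn.pull D.i a = 0 → Fn.pull u a = 0 := fun a ha => Fn.ext_points fun y => by
      obtain ⟨χ, hχ⟩ := hT y
      change val y (Fn.pull u a) = val y 0
      rw [val_pull, map_zero, hχ, tPt, ← Category.assoc (ds g χ), ← Category.assoc e₀.inv, ← val_pull, ha, map_zero]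
    obtain ⟨uT, huT⟩ := Fn.exists_hom (X := U) (Y := D.T) (AlgHom.liftOfSurjective (Fn.pull D.i) hs (Fn.pull u) hP)
    exact ⟨uT, Fn.hom_ext (by
      rw [Fn.pull_comp, huT]
      exact AlgHom.liftOfSurjective_comp _ _ _ _)⟩
  obtain ⟨uT, huT⟩ := hTuniv
  haveI : IsMonHom uT := by
    haveI : IsMonHom (uT ≫ D.i) := by rw [huT]; infer_instance
    exact H21Diag.isMonHom_of_comp_mono uT D.i
  choose χ hχ using fun y : 𝟙_ (Over (Sk K)) ⟶ U => ds_surjective g (e₀.hom ≫ y ≫ uT ≫ D.split.hom.hom.hom)
  have hχu : ∀ y, e₀.inv ≫ tPt g D (χ y) = y ≫ u := fun y => by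
    rw [tPt, hχ]
    simp only [Category.assoc, Iso.inv_hom_id_assoc, reassoc_of% split_hom_inv D, huT]
  have hχmul : ∀ y y', χ (y * y') = χ y * χ y' := fun y y' => ds_injective g (by
    rw [ds_mul, hχ, hχ, hχ, MonObj.mul_comp, MonObj.comp_mul])
  have hχone : χ 1 = 1 := ds_injective g (by
    rw [hχ, MonObj.one_comp, MonObj.comp_one, ds_one])
  let c : Multiplicative D.M →* ((𝟙_ (Over (Sk K)) ⟶ U) →* K) :=
    { toFun := fun m =>
        { toFun := fun y => χ y m
          map_one' := by rw [hχone]; rfl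
          map_mul' := fun y y' => by rw [hχmul]; rfl }
      map_one' := MonoidHom.ext fun y => map_one (χ y)
      map_mul' := fun m m' => MonoidHom.ext fun y => map_mul (χ y) m m' }
  let N : AddSubgroup D.M :=
    { carrier := {m | c (Multiplicative.ofAdd m) = 1}
      zero_mem' := map_one c
      add_mem' := fun {m m'} (hm : c _ = 1) (hm' : c _ = 1) => show c _ = 1 by
        rw [ofAdd_add, map_mul, hm, hm', _root_.mul_one]
      neg_mem' := fun {m} (hm : c _ = 1) => show c _ = 1 by
        have h1 := map_mul c (Multiplicative.ofAdd m) (Multiplicative.ofAdd (-m))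
        rw [← ofAdd_add, add_neg_cancel, ofAdd_zero, map_one, hm, _root_.one_mul] at h1
        exact h1.symm }
  have hN : ∀ m, m ∈ N ↔ c (Multiplicative.ofAdd m) = 1 := fun m => Iff.rfl
  have hsat : ∀ (k : ℤ) (m : D.M), k ≠ 0 → k • m ∈ N → m ∈ N := by
    intro k m hk hm
    rw [hN] at hm ⊢
    let F : Fn U := Red.gmFn (uT ≫ D.split.hom.hom.hom ≫ Red.chi (Sk K) m)
    have hF : ∀ y, val y F = χ y (Multiplicative.ofAdd m) := fun y => by
      rw [val_mul_gmFn, ← gmv_chi g (χ y) m, hχ]
      simp only [Category.assoc, g]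
    have hpow : F ^ k.natAbs = 1 := Fn.ext_points fun y => by
      change val y (F ^ k.natAbs) = val y 1
      rw [map_pow, hF, map_one, ← map_pow, ← ofAdd_nsmul]
      have h1 : χ y (Multiplicative.ofAdd (k • m)) = 1 := DFunLike.congr_fun hm y
      rcases Int.natAbs_eq k with he | he
      · rw [← natCast_zsmul, ← he]; exact h1
      · have h2 : χ y (Multiplicative.ofAdd ((k.natAbs : ℤ) • m)) * χ y (Multiplicative.ofAdd (k • m)) = 1 := by
          rw [← map_mul, ← ofAdd_add, he, neg_smul, Int.natAbs_neg, Int.natAbs_natCast, add_neg_cancel, ofAdd_zero, map_one]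
        rwa [h1, _root_.mul_one, natCast_zsmul] at h2
    have hn : 0 < k.natAbs := Int.natAbs_pos.mpr hk
    obtain ⟨z, hz⟩ : ∃ z : K, F = algebraMap K (Fn U) z := by
      by_contra hne
      push Not at hne
      have hp : (Polynomial.X ^ k.natAbs - Polynomial.C 1 : Polynomial K).Monic :=
        Polynomial.monic_X_pow_sub_C 1 hn.ne'
      have h0 : Polynomial.aeval F (Polynomial.X ^ k.natAbs - Polynomial.C 1 : Polynomial K) = 0 := by simp [hpow]
      rw [(IsAlgClosed.splits (Polynomial.X ^ k.natAbs - Polynomial.C (1 : K))).eq_prod_roots_of_monic hp,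
        map_multiset_prod, Multiset.prod_eq_zero_iff, Multiset.map_map] at h0
      obtain ⟨r, -, hr⟩ := Multiset.mem_map.mp h0
      exact hne r (sub_eq_zero.mp (by simpa using hr))
    refine MonoidHom.ext fun y => ?_
    change χ y (Multiplicative.ofAdd m) = 1
    have h1 := hF 1
    rw [hχone, MonoidHom.one_apply, hz, AlgHom.commutes, Algebra.algebraMap_self, RingHom.id_apply] at h1
    rw [← hF y, hz, AlgHom.commutes, h1]
    rfl
  let L := D.M ⧸ N
  haveI : IsAddTorsionFree L := by
    refine ⟨fun n hn x₁ x₂ hx₁₂ => sub_eq_zero.mp ?_⟩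
    have hx : n • (x₁ - x₂) = 0 := by rw [smul_sub]; exact sub_eq_zero.mpr hx₁₂
    generalize x₁ - x₂ = x at hx ⊢
    obtain ⟨m, rfl⟩ := QuotientAddGroup.mk'_surjective N x
    rw [← map_nsmul, QuotientAddGroup.mk'_apply, QuotientAddGroup.eq_zero_iff, ← natCast_zsmul] at hx
    exact (QuotientAddGroup.eq_zero_iff _).mpr (hsat _ m (by omega) hx)
  haveI : Module.Finite ℤ L := Module.Finite.of_surjective (QuotientAddGroup.mk' N).toIntLinearMap
    (QuotientAddGroup.mk'_surjective N)
  haveI : Module.Free ℤ L := Module.free_of_finite_type_torsion_free'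
  have hsub : Subsingleton L := by
    refine subsingleton_of_points D u hns (QuotientAddGroup.mk' N) (QuotientAddGroup.mk'_surjective N) fun ξ => ?_
    refine exists_lift_of_vanish u _ fun a ha => ?_
    let A := MonoidAlgebra K (Multiplicative D.M)
    let z : pt g A ⟶ G := tPt g D (MonoidAlgebra.of K (Multiplicative D.M))
    let P : A := (Scheme.ΓSpecIso (CommRingCat.of A)).hom (Fn.pull z a)
    let ev : (Multiplicative D.M →* K) → (A →ₐ[K] K) := fun χ' => MonoidAlgebra.lift K K (Multiplicative D.M) χ'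
    have hval : ∀ χ' : Multiplicative D.M →* K, val (e₀.inv ≫ tPt g D χ') a = ev χ' P := fun χ' => by
      have e : pmap g (ev χ') ≫ z = tPt g D χ' := by
        rw [pmap_tPt]
        congr 1
        exact MonoidHom.ext fun m => by simp [ev, A]
      rw [← e, ← Category.assoc, ← val_pull]
      exact val_pmap (ev χ') _
    rw [hval]
    let cls : L → (Multiplicative D.M) := fun l => Multiplicative.ofAdd l.out
    have hcls : ∀ m, c m = c (cls (QuotientAddGroup.mk m.toAdd)) := fun m => by
      have h1 : m.toAdd - (QuotientAddGroup.mk m.toAdd : L).out ∈ N := by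
        rw [← QuotientAddGroup.eq_iff_sub_mem, QuotientAddGroup.out_eq']
      rw [hN, ofAdd_sub] at h1
      calc c m = c (m / cls (QuotientAddGroup.mk m.toAdd) * cls (QuotientAddGroup.mk m.toAdd)) := by
            rw [div_mul_cancel]
        _ = _ := by
          rw [map_mul, show c (m / cls (QuotientAddGroup.mk m.toAdd)) = 1 from h1, _root_.one_mul]
    have hinj : Function.Injective fun l : L => c (cls l) := fun l l' hll => by
      have h2 : l.out - l'.out ∈ N := by
        rw [hN, ofAdd_sub]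
        have h3 : c (Multiplicative.ofAdd l'.out) * c (Multiplicative.ofAdd (-l'.out)) = 1 := by
          rw [← map_mul, ← ofAdd_add, add_neg_cancel, ofAdd_zero, map_one]
        rw [div_eq_mul_inv, ← ofAdd_neg, map_mul, show c (Multiplicative.ofAdd l.out) = c (Multiplicative.ofAdd l'.out) from hll, h3]
      rw [← QuotientAddGroup.eq_iff_sub_mem, QuotientAddGroup.out_eq', QuotientAddGroup.out_eq'] at h2
      exact h2
    let s : Finset L := P.coeff.support.image fun m => (QuotientAddGroup.mk m.toAdd : L)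
    let C : L → K := fun l => ∑ m ∈ P.coeff.support.filter (fun m => (QuotientAddGroup.mk m.toAdd : L) = l), P.coeff m
    have hev : ∀ (χ' : Multiplicative D.M →* K) (f : L → K), (∀ m, χ' m = f (QuotientAddGroup.mk m.toAdd)) →
        ev χ' P = ∑ l ∈ s, C l * f l := fun χ' f hf => by
      rw [show ev χ' P = ∑ m ∈ P.coeff.support, P.coeff m * χ' m by
        rw [show ev χ' = MonoidAlgebra.lift K K (Multiplicative D.M) χ' from rfl, MonoidAlgebra.lift_apply]
        rfl]
      rw [← Finset.sum_fiberwise_of_maps_to (g := fun m : Multiplicative D.M => (QuotientAddGroup.mk m.toAdd : L))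
        (t := s) (fun m hm => Finset.mem_image_of_mem _ hm)]
      refine Finset.sum_congr rfl fun l _ => ?_
      rw [Finset.sum_mul]
      refine Finset.sum_congr rfl fun m hm => ?_
      rw [hf, (Finset.mem_filter.mp hm).2]
    have hC : ∀ l ∈ s, C l = 0 := by
      refine linearIndependent_iff'.mp ((linearIndependent_monoidHom (𝟙_ (Over (Sk K)) ⟶ U) K).comp _ hinj) s C ?_
      funext y
      have h0 : val (y ≫ u) a = 0 := by rw [← val_pull, ha, map_zero]
      rw [← hχu, hval, hev (χ y) (fun l => c (cls l) y) fun m => DFunLike.congr_fun (hcls m) y] at h0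
      simpa [Finset.sum_apply] using h0
    rw [hev _ (fun l => ξ (Multiplicative.ofAdd l)) fun m => rfl]
    exact Finset.sum_eq_zero fun l hl => by rw [hC l hl, zero_mul]
  intro y
  rw [← hχu, show χ y = 1 from MonoidHom.ext fun m => ?_, tPt_one, MonObj.comp_one]
  have hm : m.toAdd ∈ N := (QuotientAddGroup.eq_zero_iff _).mp (hsub.elim _ _)
  rw [hN] at hm
  exact DFunLike.congr_fun hm y

end Groth.Agent.H21Split.TypeR
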