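import Groth.Agent.H21Split.TypeR.Weight

/-!
Truncated polynomial algebras, and lifting of a root homomorphism to a subgroup along them.
-/

open CategoryTheory MonoidalCategory CartesianMonoidalCategory MonObj GrpObj AlgebraicGeometry
open CategoryTheory.Limits
open TrivSqZeroExt (inl inr)
open Polynomial (X C)

universe u

set_option backward.isDefEq.respectTransparency false
set_option linter.style.haveILetI false
set_option linter.unusedSectionVars false
set_option synthInstance.maxHeartbeats 400000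
set_option maxHeartbeats 1000000

noncomputable section

namespace Groth.Agent.H21Split.TypeR

theorem isNilpotent_of_sq_zero {A : Type u} [CommRing A] {I : Ideal A} (h : ∀ x ∈ I, ∀ y ∈ I, x * y = 0) :
    IsNilpotent I :=
  ⟨2, le_bot_iff.mp (by
    rw [pow_two, Ideal.mul_le]
    exact fun x hx y hy => Ideal.mem_bot.mpr (h x hx y hy))⟩

/-- truncated polynomials -/
abbrev TP (B : Type u) [CommRing B] (n : ℕ) : Type u := Polynomial B ⧸ Ideal.span {(X : Polynomial B) ^ n}

section Alg

variable (R : Type u) [CommRing R] {B B' : Type u} [CommRing B] [Algebra R B] [CommRing B'] [Algebra R B'] {n : ℕ}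

/-- the variable -/
def tx (B : Type u) [CommRing B] (n : ℕ) : TP B n := Ideal.Quotient.mk _ X

/-- constants -/
def tCst : B →ₐ[R] TP B n := IsScalarTower.toAlgHom R B (TP B n)

variable {R}

theorem tCst_apply (b : B) : tCst R b = (Ideal.Quotient.mk _ (C b) : TP B n) := rfl

theorem tx_pow (B : Type u) [CommRing B] {n m : ℕ} (h : n ≤ m) : (tx B n) ^ m = 0 := by
  rw [tx, ← map_pow, Ideal.Quotient.eq_zero_iff_mem, Ideal.mem_span_singleton]
  exact pow_dvd_pow _ h

variable (R) in
/-- truncation -/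
def tRed : TP B (n + 1) →ₐ[R] TP B n :=
  Ideal.Quotient.factorₐ R (Ideal.span_le.mpr (Set.singleton_subset_iff.mpr
    (Ideal.mem_span_singleton.mpr (pow_dvd_pow _ (Nat.le_succ n)))))

theorem tRed_mk (p : Polynomial B) :
    tRed R (Ideal.Quotient.mk (Ideal.span {(X : Polynomial B) ^ (n + 1)}) p) = Ideal.Quotient.mk _ p := rfl

theorem tRed_tx : tRed R (tx B (n + 1)) = tx B n := rfl

theorem tRed_surjective : Function.Surjective (tRed R : TP B (n + 1) → TP B n) := fun y => by
  obtain ⟨p, rfl⟩ := Ideal.Quotient.mk_surjective y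
  exact ⟨Ideal.Quotient.mk _ p, rfl⟩

variable (R) in
/-- the constant term -/
def tZero : TP B (n + 1) →ₐ[R] B :=
  Ideal.Quotient.liftₐ _ ((Polynomial.aeval (R := B) (0 : B)).restrictScalars R) fun p hp => by
    obtain ⟨q, rfl⟩ := Ideal.mem_span_singleton.mp hp
    simp

theorem tZero_mk (p : Polynomial B) :
    tZero R (Ideal.Quotient.mk (Ideal.span {(X : Polynomial B) ^ (n + 1)}) p) = p.coeff 0 := by
  change Polynomial.aeval (0 : B) p = _
  exact (Polynomial.coeff_zero_eq_aeval_zero p).symm

theorem isNilpotent_of_tZero {y : TP B (n + 1)} (h : tZero R y = 0) : IsNilpotent y := by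
  obtain ⟨p, rfl⟩ := Ideal.Quotient.mk_surjective y
  rw [tZero_mk, ← Polynomial.X_dvd_iff] at h
  obtain ⟨q, rfl⟩ := h
  exact ⟨n + 1, by rw [map_mul, mul_pow, ← map_pow, Ideal.Quotient.eq_zero_iff_mem.mpr
    (Ideal.mem_span_singleton_self _), zero_mul]⟩

/-- functoriality -/
def tMap (f : B →ₐ[R] B') : TP B n →ₐ[R] TP B' n :=
  Ideal.quotientMapₐ _ (Polynomial.mapAlgHom f) (Ideal.span_le.mpr (Set.singleton_subset_iff.mpr (by
    rw [SetLike.mem_coe, Ideal.mem_comap]
    simp [Polynomial.mapAlgHom, Ideal.mem_span_singleton])))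

theorem tMap_mk (f : B →ₐ[R] B') (p : Polynomial B) :
    tMap f (Ideal.Quotient.mk (Ideal.span {(X : Polynomial B) ^ n}) p) = Ideal.Quotient.mk _ (p.map f.toRingHom) := rfl

theorem tMap_tx (f : B →ₐ[R] B') : tMap f (tx B n) = tx B' n := by
  rw [tx, tMap_mk, Polynomial.map_X]; rfl

theorem tMap_tCst (f : B →ₐ[R] B') (b : B) : tMap f (tCst R b : TP B n) = tCst R (f b) := by
  rw [tCst_apply, tMap_mk, Polynomial.map_C]; rfl

variable (R) in
/-- scaling of the variable -/
def tScale (z : B) : TP B n →ₐ[R] TP B n :=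
  Ideal.Quotient.liftₐ _ ((Polynomial.aeval (R := B) (algebraMap B (TP B n) z * tx B n)).restrictScalars R)
    fun p hp => by
      obtain ⟨q, rfl⟩ := Ideal.mem_span_singleton.mp hp
      simp [mul_pow, tx_pow B (le_refl n)]

theorem tScale_mk (z : B) (p : Polynomial B) : tScale R z (Ideal.Quotient.mk (Ideal.span {(X : Polynomial B) ^ n}) p) =
    Polynomial.aeval (algebraMap B (TP B n) z * tx B n) p := rfl

theorem tScale_tx (z : B) : tScale R z (tx B n) = tCst R z * tx B n := by
  rw [tx, tScale_mk, Polynomial.aeval_X]; rfl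

theorem tScale_tCst (z b : B) : tScale R z (tCst R b : TP B n) = tCst R b := by
  rw [tCst_apply, tScale_mk, Polynomial.aeval_C]; rfl

variable (R B) in
/-- the last infinitesimal layer -/
def tEps (n : ℕ) : DualNumber B →ₐ[R] TP B (n + 2) where
  toFun d := tCst R (TrivSqZeroExt.fst d) + tCst R (TrivSqZeroExt.snd d) * tx B (n + 2) ^ (n + 1)
  map_one' := by simp
  map_zero' := by simp
  map_add' d d' := by simp; ring
  map_mul' d d' := by
    have h0 : tx B (n + 2) ^ (n + 1) * tx B (n + 2) ^ (n + 1) = 0 := by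
      rw [← pow_add]; exact tx_pow B (by omega)
    simp only [TrivSqZeroExt.fst_mul, DualNumber.snd_mul, map_mul, map_add]
    linear_combination -(tCst R (TrivSqZeroExt.snd d) * tCst R (TrivSqZeroExt.snd d')) * h0
  commutes' r := by simp [TrivSqZeroExt.algebraMap_eq_inl', tCst]

theorem tEps_apply (d : DualNumber B) :
    tEps R B n d = tCst R (TrivSqZeroExt.fst d) + tCst R (TrivSqZeroExt.snd d) * tx B (n + 2) ^ (n + 1) := rfl

theorem tEps_inl (b : B) : tEps R B n (inl b) = tCst R b := by simp [tEps_apply]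

theorem tEps_inr (b : B) : tEps R B n (inr b) = tCst R b * tx B (n + 2) ^ (n + 1) := by simp [tEps_apply]

theorem tEps_injective : Function.Injective (tEps R B n) := by
  refine (injective_iff_map_eq_zero _).mpr fun d hd => ?_
  rw [tEps_apply, tCst_apply, tCst_apply, tx, ← map_pow, ← map_mul, ← map_add, Ideal.Quotient.eq_zero_iff_mem,
    Ideal.mem_span_singleton, Polynomial.X_pow_dvd_iff] at hd
  have h0 := hd 0 (by omega)
  have h1 := hd (n + 1) (by omega)
  simp [Polynomial.coeff_X_pow] at h0 h1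
  exact TrivSqZeroExt.ext h0 h1

theorem exists_tEps_of_tRed {y : TP B (n + 2)} (h : tRed R y = 0) : ∃ b, tEps R B n (inr b) = y := by
  obtain ⟨p, rfl⟩ := Ideal.Quotient.mk_surjective y
  rw [tRed_mk, Ideal.Quotient.eq_zero_iff_mem, Ideal.mem_span_singleton] at h
  obtain ⟨q, rfl⟩ := h
  refine ⟨q.coeff 0, ?_⟩
  rw [tEps_inr, tCst_apply, tx, ← map_pow, ← map_mul, Ideal.Quotient.eq, Ideal.mem_span_singleton,
    show (C (q.coeff 0) * X ^ (n + 1) - X ^ (n + 1) * q : Polynomial B) = X ^ (n + 1) * (-(q - C (q.coeff 0))) by ring,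
    show (n + 2) = (n + 1) + 1 from rfl, pow_succ]
  exact mul_dvd_mul_left _ (Polynomial.X_dvd_iff.mpr (by simp)).neg_right

theorem tRed_tEps_inr (b : B) : tRed R (tEps R B n (inr b)) = 0 := by
  rw [tEps_inr, map_mul, map_pow, tRed_tx, tx_pow B (le_refl (n + 1)), mul_zero]

theorem tMap_tEps (f : B →ₐ[R] B') (d : DualNumber B) : tMap f (tEps R B n d) = tEps R B' n (dnMap f d) := by
  simp [tEps_apply, tMap_tCst, tMap_tx, fst_dnMap, snd_dnMap]

theorem tScale_tEps (z : B) (d : DualNumber B) :
    tScale R z (tEps R B n d) = tEps R B n (scl (R := R) (z ^ (n + 1)) d) := by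
  simp [tEps_apply, tScale_tCst, tScale_tx, fst_scl, snd_scl, mul_pow]
  ring

/-- maps congruent to a constant factor through the last layer -/
theorem exists_comp_tEps {A : Type u} [CommRing A] [Algebra R A] (ε : A →ₐ[R] R) (f : A →ₐ[R] TP B (n + 2))
    (hf : (tRed R).comp f = (Algebra.ofId R _).comp ε) :
    ∃ f₀ : A →ₐ[R] DualNumber B, (tEps R B n).comp f₀ = f ∧ (fstA (R := R)).comp f₀ = (Algebra.ofId R B).comp ε := by
  have hb : ∀ a, ∃ b, tEps R B n (inr b) = f a - algebraMap R _ (ε a) := fun a => by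
    refine exists_tEps_of_tRed ?_
    rw [map_sub, AlgHom.commutes, sub_eq_zero]
    exact AlgHom.congr_fun hf a
  choose b hb using hb
  let d : A → DualNumber B := fun a => algebraMap R _ (ε a) + inr (b a)
  have hd : ∀ a, tEps R B n (d a) = f a := fun a => by rw [map_add, AlgHom.commutes, hb, add_sub_cancel]
  refine ⟨{ toFun := d
            map_one' := tEps_injective (R := R) (n := n) (by rw [hd, map_one, map_one])
            map_zero' := tEps_injective (R := R) (n := n) (by rw [hd, map_zero, map_zero])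
            map_add' := fun a a' => tEps_injective (R := R) (n := n) (by rw [hd, map_add, map_add, hd, hd])
            map_mul' := fun a a' => tEps_injective (R := R) (n := n) (by rw [hd, map_mul, map_mul, hd, hd])
            commutes' := fun r => tEps_injective (R := R) (n := n) (by rw [hd, AlgHom.commutes, AlgHom.commutes]) },
    AlgHom.ext hd, AlgHom.ext fun a => ?_⟩
  change TrivSqZeroExt.fst (d a) = algebraMap R B (ε a)
  simp [d, TrivSqZeroExt.algebraMap_eq_inl']

end Alg

variable {S : Scheme.{u}} {G H : Over S} [GrpObj G] [GrpObj H] {h : H ⟶ G}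

theorem Fac.list_prod [IsMonHom h] {X : Over S} {κ : Type*} (z : κ → (X ⟶ G)) (hz : ∀ k, Fac h (z k)) :
    ∀ l : List κ, Fac h (l.map z).prod
  | [] => fac_one
  | k :: l => by
    rw [List.map_cons, List.prod_cons]
    exact (hz k).mul (Fac.list_prod z hz l)

variable {R : Type u} [CommRing R] (g : Spec (CommRingCat.of R) ⟶ S) [IsAffineHom G.hom]
variable {B : Type u} [CommRing B] [Algebra R B] {n : ℕ}

/-- points congruent to the unit are infinitesimal -/
theorem exists_lie_of_tRed (z : pt g (TP B (n + 2)) ⟶ G) (hz : pmap g (tRed R) ≫ z = 1) :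
    ∃ φ : pt g (DualNumber B) ⟶ G, IsLie g φ ∧ pmap g (tEps R B n) ≫ φ = z := by
  obtain ⟨f₀, hf₀, hfst⟩ := exists_comp_tEps (eps g G) (fn g z) (by rw [← fn_pmap, hz, fn_one])
  obtain ⟨φ, hφ⟩ := fn_surjective g f₀
  exact ⟨φ, fn_injective g (by rw [fn_pmap, hφ, hfst, fn_one]), fn_injective g (by rw [fn_pmap, hφ, hf₀])⟩

variable [Mono g] {A : Type u} [CommRing A] [Algebra R A] (ε : A →ₐ[R] R) (j : pt g A ⟶ H) [IsOpenImmersion j.left]
  (hε : pmap g ε ≫ j = (1 : pt g R ⟶ H)) [IsMonHom h] [Mono h]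

include hε

/-- an infinitesimal point of the subgroup is infinitesimal in the subgroup -/
theorem fac_of_tEps {φ : pt g (DualNumber B) ⟶ G} (hφ : IsLie g φ) (hf : Fac h (pmap g (tEps R B n) ≫ φ)) :
    Fac h φ := by
  obtain ⟨w, hw⟩ := hf
  have h1 : pmap g (tRed R) ≫ w = 1 := by
    rw [← cancel_mono h, Category.assoc, hw, MonObj.one_comp, ← Category.assoc, pmap_comp]
    have e : (tRed R).comp (tEps R B n) = ((tRed R).comp (tCst R)).comp fstA := AlgHom.ext fun d => by
      simp [tEps_apply, fstA_apply, tRed_tx, tx_pow B (le_refl (n + 1))]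
    rw [e, ← pmap_comp, Category.assoc, hφ, MonObj.comp_one]
  have hr : Set.range w.left.base ⊆ Set.range j.left.base := by
    refine range_subset_of_nilpotent g (tRed R) tRed_surjective (fun x hx => ?_) w ?_
    · obtain ⟨b, rfl⟩ := exists_tEps_of_tRed hx
      exact ⟨2, by rw [pow_two, ← map_mul, TrivSqZeroExt.inr_mul_inr, map_zero]⟩
    · rw [h1, ← comp_fn_comp g ε j hε _]
      rintro _ ⟨p, rfl⟩
      exact ⟨_, rfl⟩
  obtain ⟨f, rfl⟩ := exists_algHom g j w hr
  haveI : Mono j := (Over.forget S).mono_of_mono_map (inferInstanceAs (Mono j.left))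
  rw [← comp_fn_comp g ε j hε _, ← Category.assoc, pmap_comp, cancel_mono] at h1
  obtain ⟨f₀, hf₀, -⟩ := exists_comp_tEps ε f (pmap_injective g h1)
  refine ⟨pmap g f₀ ≫ j, fn_injective g (AlgHom.ext fun x => tEps_injective (R := R) (n := n) ?_)⟩
  have := congrArg (fun z => fn g z x) hw
  rw [← hf₀, ← pmap_comp, Category.assoc, Category.assoc, fn_pmap, fn_pmap] at this
  simpa [fn_pmap, Category.assoc] using this

variable [Algebra.Smooth R A] (D : Red.SplitRed G) (t : D.T ⟶ H) (ht : t ≫ h = D.i) (a : D.idx)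
  (hroot : ∀ (b : D.idx) (m : ℕ), 2 ≤ m → D.P.root b ≠ m • D.P.root a)
  (ha : Fac h (uPt g D a (inr 1 : DualNumber R)))

include ht hroot ha

/-- **A root homomorphism tangent to the subgroup lies in it to every order.** -/
theorem fac_uPt_tx : ∀ n : ℕ, Fac h (uPt g D a (tx R (n + 1))) := by
  classical
  intro n
  induction n with
  | zero =>
    rw [show tx R (0 + 1) = 0 by simpa using tx_pow R (le_refl 1), uPt_zero]
    exact fac_one
  | succ n ih =>
    rcases Nat.eq_zero_or_pos n with rfl | hn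
    · have := ha.precomp (pmap g (tEps R R 0))
      rw [pmap_uPt, tEps_inr] at this
      simpa using this
    obtain ⟨w, hw⟩ := ih
    have hr : Set.range w.left.base ⊆ Set.range j.left.base := by
      refine range_subset_of_nilpotent g (tZero R) (fun b => ⟨tCst R b, by rw [tCst_apply, tZero_mk]; simp⟩)
        (fun x hx => isNilpotent_of_tZero hx) w ?_
      have : pmap g (tZero R) ≫ w = (1 : pt g R ⟶ H) := by
        rw [← cancel_mono h, Category.assoc, hw, MonObj.one_comp, pmap_uPt, tx, tZero_mk, Polynomial.coeff_X_zero,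
          uPt_zero]
      rw [this, ← hε]
      rintro _ ⟨p, rfl⟩
      exact ⟨_, rfl⟩
    obtain ⟨f, rfl⟩ := exists_algHom g j w hr
    have hnil : IsNilpotent (RingHom.ker (tRed R : TP R (n + 2) →ₐ[R] TP R (n + 1)).toRingHom) := by
      refine isNilpotent_of_sq_zero fun x hx y hy => ?_
      obtain ⟨b, rfl⟩ := exists_tEps_of_tRed (R := R) hx
      obtain ⟨b', rfl⟩ := exists_tEps_of_tRed (R := R) hy
      rw [← map_mul, TrivSqZeroExt.inr_mul_inr, map_zero]
    let f' := Algebra.FormallySmooth.liftOfSurjective f (tRed R) tRed_surjective hnil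
    have hf' : (tRed R).comp f' = f :=
      AlgHom.ext (Algebra.FormallySmooth.liftOfSurjective_apply f (tRed R) tRed_surjective hnil)
    let W := pmap g f' ≫ j ≫ h
    have hW : Fac h W := ⟨pmap g f' ≫ j, Category.assoc _ _ _⟩
    let z := W * (uPt g D a (tx R (n + 2)))⁻¹
    have hz : pmap g (tRed R) ≫ z = 1 := by
      rw [MonObj.comp_mul, GrpObj.comp_inv, pmap_uPt, tRed_tx, ← Category.assoc, pmap_comp, hf', ← Category.assoc,
        hw, mul_inv_cancel]
    obtain ⟨φ, hφ, hφz⟩ := exists_lie_of_tRed g z hz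
    obtain ⟨⟨c, k⟩, hck, -⟩ := existsUnique_lieComb g D hφ
    simp only at hck
    suffices hc : ∀ b, Fac h (uPt g D b (inr (c b) : DualNumber R)) by
      have hzf : Fac h z := by
        rw [← hφz, ← hck]
        exact ((Fac.list_prod _ hc _).mul (fac_tPt g D t ht _)).precomp _
      have := hzf.inv.mul hW
      rwa [show z⁻¹ * W = uPt g D a (tx R (n + 2)) by simp only [z]; group] at this
    intro b
    obtain ⟨ν, hν⟩ := exists_dual_ne_zero (fun b : D.idx => D.P.root b - (n + 1) • D.P.root a)
    let e : D.idx → ℤ := fun b => ν (D.P.root b) - (n + 1) • ν (D.P.root a)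
    obtain ⟨B', iB', iA', F, u, hff, hu⟩ := exists_unit_ff R R (e b).natAbs
    letI := iB'
    letI := iA'
    let χ : Multiplicative D.M →* B' :=
      (Units.coeHom B').comp ((zpowersHom B'ˣ u).comp (AddMonoidHom.toMultiplicative ν))
    let α := χ (Multiplicative.ofAdd (D.P.root a))
    let χb := χ (Multiplicative.ofAdd (D.P.root b))
    have hunit : IsUnit (χb - α ^ (n + 1)) := by
      have he : e b ≠ 0 := by
        have := hν b (sub_ne_zero.mpr (hroot b (n + 1) (by omega)))
        rwa [map_sub, map_nsmul] at this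
      have h1 := hu _ (Int.natAbs_pos.mpr he) le_rfl
      have hα : α ^ (n + 1) = ((u ^ ((n + 1) • ν (D.P.root a)) : B'ˣ) : B') := by
        change (((u ^ ν (D.P.root a) : B'ˣ) : B')) ^ (n + 1) = _
        rw [← Units.val_pow_eq_pow_val, ← zpow_natCast, ← zpow_mul, nsmul_eq_mul, mul_comm]
      change IsUnit (((u ^ ν (D.P.root b) : B'ˣ) : B') - α ^ (n + 1))
      rw [hα]
      rcases Int.natAbs_eq (e b) with e' | e'
      · rw [show ν (D.P.root b) = (n + 1) • ν (D.P.root a) + ((e b).natAbs : ℤ) by rw [← e']; simp [e],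
          zpow_add, zpow_natCast, Units.val_mul, Units.val_pow_eq_pow_val,
          show ∀ x y : B', x * y - x = x * (y - 1) from fun x y => by ring]
        exact (u ^ _).isUnit.mul h1
      · rw [show (n + 1) • ν (D.P.root a) = ν (D.P.root b) + ((e b).natAbs : ℤ) by
            have : ((e b).natAbs : ℤ) = -e b := by omega
            rw [this]; simp [e],
          zpow_add, zpow_natCast, Units.val_mul, Units.val_pow_eq_pow_val,
          show ∀ x y : B', x - x * y = -(x * (y - 1)) from fun x y => by ring]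
        exact ((u ^ _).isUnit.mul h1).neg
    let T₀ := tPt g D ((TrivSqZeroExt.inlHom B' B').toMonoidHom.comp χ)
    let L := lieComb g D (fun b => F (c b)) (fun i => F (k i))
    let T := pmap g (tEps R B' n) ≫ T₀
    let σ : TP B' (n + 2) →ₐ[R] TP B' (n + 2) := tScale R α
    let W' := pmap g (tMap F) ≫ W
    let z' := pmap g (tMap F) ≫ z
    have hz' : z' = pmap g (tEps R B' n) ≫ L := by
      simp only [z', L, ← lieComb_dnMap, hck, ← hφz]
      rw [← Category.assoc, pmap_comp, ← Category.assoc, pmap_comp]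
      congr 2
      exact AlgHom.ext (tMap_tEps F)
    have hW' : W' = z' * uPt g D a (tx B' (n + 2)) := by
      simp only [W', z', z, MonObj.comp_mul, GrpObj.comp_inv, pmap_uPt, tMap_tx, inv_mul_cancel_right]
    have hT : Fac h T := (fac_tPt g D t ht _).precomp _
    have hTu : T * uPt g D a (tx B' (n + 2)) * T⁻¹ = pmap g σ ≫ uPt g D a (tx B' (n + 2)) := by
      simp only [T, T₀, pmap_tPt, tPt_conj, pmap_uPt]
      congr 1
      simp [σ, tScale_tx, tEps_inl, α]
    have key : Fac h (pmap g (tEps R B' n) ≫ (T₀ * L * T₀⁻¹ * (pmap g (scl (α ^ (n + 1))) ≫ L)⁻¹)) := by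
      have h0 : Fac h ((T * W' * T⁻¹) * (pmap g σ ≫ W')⁻¹) :=
        ((hT.mul (hW.precomp _)).mul hT.inv).mul ((hW.precomp _).precomp _).inv
      have e1 : pmap g σ ≫ z' = pmap g (tEps R B' n) ≫ pmap g (scl (α ^ (n + 1))) ≫ L := by
        rw [hz', ← Category.assoc, pmap_comp, ← Category.assoc, pmap_comp]
        congr 2
        exact AlgHom.ext (tScale_tEps α)
      convert h0 using 1
      rw [hW', MonObj.comp_mul (pmap g σ), ← hTu, e1, MonObj.comp_mul, MonObj.comp_mul, MonObj.comp_mul,
        GrpObj.comp_inv, GrpObj.comp_inv, hz']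
      simp only [T]
      group
    have hTL : T₀ * L * T₀⁻¹ * (pmap g (scl (α ^ (n + 1))) ≫ L)⁻¹ =
        lieComb g D (fun b' => χ (Multiplicative.ofAdd (D.P.root b')) * F (c b') + -(α ^ (n + 1) * F (c b')))
          (fun i => F (k i) + -(α ^ (n + 1) * F (k i))) := by
      simp only [T₀, L]
      rw [lieComb_scl, mul_inv_eq_iff_eq_mul, ← lieComb_add, lieComb_eq g D (fun b => F (c b)),
        show ∀ x y z : pt g (DualNumber B') ⟶ G, x * (y * z) * x⁻¹ = (x * y * x⁻¹) * (x * z * x⁻¹) from
          fun x y z => by group,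
        conj_lieComb_zero, (tPt_commute g D _ _).eq, mul_inv_cancel_right, ← lieComb_eq]
      congr 1 <;> funext i <;> simp
    rw [hTL] at key
    have hc1 := fac_components g D t ht _ _ (fac_of_tEps g ε j hε (isLie_lieComb g D _ _) key) b
    have hc2 := hc1.precomp (pmap g (scl ((hunit.unit⁻¹ : B'ˣ) : B')))
    refine fac_descend g (dnMap F) (faithfullyFlat_dnMap F hff) ?_
    rw [pmap_uPt] at hc2 ⊢
    convert hc2 using 2
    refine TrivSqZeroExt.ext ?_ ?_
    · simp [fst_dnMap, fst_scl]
    · simp only [snd_dnMap, snd_scl, TrivSqZeroExt.snd_inr]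
      rw [← sub_eq_add_neg, ← sub_mul, ← _root_.mul_assoc, IsUnit.val_inv_mul, _root_.one_mul]

end Groth.Agent.H21Split.TypeR
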